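import Cfsg.Agent.H7.Fi24.PT

set_option autoImplicit false
set_option linter.unusedVariables false
set_option maxRecDepth 100000
set_option Elab.async false

namespace CfsgH7.Fi24

open Cfsg

theorem c1_0 : blk f1 306936 0 55 = true := by decide +kernel
theorem c1_55 : blk f1 306936 55 55 = true := by decide +kernel
theorem c1_110 : blk f1 306936 110 55 = true := by decide +kernel
theorem c1_165 : blk f1 306936 165 55 = true := by decide +kernel
theorem c1_220 : blk f1 306936 220 55 = true := by decide +kernel
theorem c1_275 : blk f1 306936 275 55 = true := by decide +kernel
theorem c1_330 : blk f1 306936 330 55 = true := by decide +kernel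
theorem c1_385 : blk f1 306936 385 55 = true := by decide +kernel
theorem c1_440 : blk f1 306936 440 55 = true := by decide +kernel
theorem c1_495 : blk f1 306936 495 55 = true := by decide +kernel

end CfsgH7.Fi24
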