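import Cfsg.Agent.H7.Fi24.PT

set_option autoImplicit false
set_option linter.unusedVariables false
set_option maxRecDepth 100000
set_option Elab.async false

namespace CfsgH7.Fi24

open Cfsg

theorem c1_550 : blk f1 306936 550 55 = true := by decide +kernel
theorem c1_605 : blk f1 306936 605 55 = true := by decide +kernel
theorem c1_660 : blk f1 306936 660 55 = true := by decide +kernel
theorem c1_715 : blk f1 306936 715 55 = true := by decide +kernel
theorem c1_770 : blk f1 306936 770 55 = true := by decide +kernel
theorem c1_825 : blk f1 306936 825 55 = true := by decide +kernel
theorem c1_880 : blk f1 306936 880 55 = true := by decide +kernel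
theorem c1_935 : blk f1 306936 935 55 = true := by decide +kernel
theorem c1_990 : blk f1 306936 990 55 = true := by decide +kernel
theorem c1_1045 : blk f1 306936 1045 55 = true := by decide +kernel

end CfsgH7.Fi24
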