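import Cfsg.Agent.H7.Fi24.PT

set_option autoImplicit false
set_option linter.unusedVariables false
set_option maxRecDepth 100000
set_option Elab.async false

namespace CfsgH7.Fi24

open Cfsg

theorem c2_636 : blk f2 306936 636 53 = true := by decide +kernel
theorem c2_689 : blk f2 306936 689 53 = true := by decide +kernel
theorem c2_742 : blk f2 306936 742 53 = true := by decide +kernel
theorem c2_795 : blk f2 306936 795 53 = true := by decide +kernel
theorem c2_848 : blk f2 306936 848 53 = true := by decide +kernel
theorem c2_901 : blk f2 306936 901 53 = true := by decide +kernel
theorem c2_954 : blk f2 306936 954 53 = true := by decide +kernel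
theorem c2_1007 : blk f2 306936 1007 53 = true := by decide +kernel
theorem c2_1060 : blk f2 306936 1060 53 = true := by decide +kernel
theorem c2_1113 : blk f2 306936 1113 53 = true := by decide +kernel

end CfsgH7.Fi24
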