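import Cfsg.Agent.H7.Fi24.PT

set_option autoImplicit false
set_option linter.unusedVariables false
set_option maxRecDepth 100000
set_option Elab.async false

namespace CfsgH7.Fi24

open Cfsg

theorem c2_1166 : blk f2 306936 1166 53 = true := by decide +kernel
theorem c2_1219 : blk f2 306936 1219 53 = true := by decide +kernel
theorem c2_1272 : blk f2 306936 1272 53 = true := by decide +kernel
theorem c2_1325 : blk f2 306936 1325 53 = true := by decide +kernel
theorem c2_1378 : blk f2 306936 1378 53 = true := by decide +kernel
theorem c2_1431 : blk f2 306936 1431 53 = true := by decide +kernel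
theorem c2_1484 : blk f2 306936 1484 53 = true := by decide +kernel
theorem c2_1537 : blk f2 306936 1537 53 = true := by decide +kernel
theorem c2_1590 : blk f2 306936 1590 53 = true := by decide +kernel
theorem c2_1643 : blk f2 306936 1643 53 = true := by decide +kernel

end CfsgH7.Fi24
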