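import Cfsg.Agent.H7.Fi24.PT

set_option autoImplicit false
set_option linter.unusedVariables false
set_option maxRecDepth 100000
set_option Elab.async false

namespace CfsgH7.Fi24

open Cfsg

theorem c2_1696 : blk f2 306936 1696 53 = true := by decide +kernel
theorem c2_1749 : blk f2 306936 1749 53 = true := by decide +kernel
theorem c2_1802 : blk f2 306936 1802 53 = true := by decide +kernel
theorem c2_1855 : blk f2 306936 1855 53 = true := by decide +kernel
theorem c2_1908 : blk f2 306936 1908 53 = true := by decide +kernel
theorem c2_1961 : blk f2 306936 1961 53 = true := by decide +kernel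
theorem c2_2014 : blk f2 306936 2014 53 = true := by decide +kernel
theorem c2_2067 : blk f2 306936 2067 53 = true := by decide +kernel
theorem c2_2120 : blk f2 306936 2120 53 = true := by decide +kernel
theorem c2_2173 : blk f2 306936 2173 53 = true := by decide +kernel

end CfsgH7.Fi24
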