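import Cfsg.Agent.H7.Fi24.PT

set_option autoImplicit false
set_option linter.unusedVariables false
set_option maxRecDepth 100000
set_option Elab.async false

namespace CfsgH7.Fi24

open Cfsg

theorem c2_2226 : blk f2 306936 2226 53 = true := by decide +kernel
theorem c2_2279 : blk f2 306936 2279 53 = true := by decide +kernel
theorem c2_2332 : blk f2 306936 2332 53 = true := by decide +kernel
theorem c2_2385 : blk f2 306936 2385 53 = true := by decide +kernel
theorem c2_2438 : blk f2 306936 2438 53 = true := by decide +kernel
theorem c2_2491 : blk f2 306936 2491 53 = true := by decide +kernel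
theorem c2_2544 : blk f2 306936 2544 53 = true := by decide +kernel
theorem c2_2597 : blk f2 306936 2597 53 = true := by decide +kernel
theorem c2_2650 : blk f2 306936 2650 53 = true := by decide +kernel
theorem c2_2703 : blk f2 306936 2703 53 = true := by decide +kernel

end CfsgH7.Fi24
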