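import Cfsg.Agent.H7.Fi24.PT

set_option autoImplicit false
set_option linter.unusedVariables false
set_option maxRecDepth 100000
set_option Elab.async false

namespace CfsgH7.Fi24

open Cfsg

theorem c2_3286 : blk f2 306936 3286 53 = true := by decide +kernel
theorem c2_3339 : blk f2 306936 3339 53 = true := by decide +kernel
theorem c2_3392 : blk f2 306936 3392 53 = true := by decide +kernel
theorem c2_3445 : blk f2 306936 3445 53 = true := by decide +kernel
theorem c2_3498 : blk f2 306936 3498 53 = true := by decide +kernel
theorem c2_3551 : blk f2 306936 3551 53 = true := by decide +kernel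
theorem c2_3604 : blk f2 306936 3604 53 = true := by decide +kernel
theorem c2_3657 : blk f2 306936 3657 53 = true := by decide +kernel
theorem c2_3710 : blk f2 306936 3710 53 = true := by decide +kernel
theorem c2_3763 : blk f2 306936 3763 53 = true := by decide +kernel

end CfsgH7.Fi24
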