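import Cfsg.Agent.H7.Fi24.PT

set_option autoImplicit false
set_option linter.unusedVariables false
set_option maxRecDepth 100000
set_option Elab.async false

namespace CfsgH7.Fi24

open Cfsg

theorem c2_3816 : blk f2 306936 3816 53 = true := by decide +kernel
theorem c2_3869 : blk f2 306936 3869 53 = true := by decide +kernel
theorem c2_3922 : blk f2 306936 3922 53 = true := by decide +kernel
theorem c2_3975 : blk f2 306936 3975 53 = true := by decide +kernel
theorem c2_4028 : blk f2 306936 4028 53 = true := by decide +kernel
theorem c2_4081 : blk f2 306936 4081 53 = true := by decide +kernel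
theorem c2_4134 : blk f2 306936 4134 53 = true := by decide +kernel
theorem c2_4187 : blk f2 306936 4187 53 = true := by decide +kernel
theorem c2_4240 : blk f2 306936 4240 53 = true := by decide +kernel
theorem c2_4293 : blk f2 306936 4293 53 = true := by decide +kernel

end CfsgH7.Fi24
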