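import Cfsg.Agent.H7.Fi24.PT

set_option autoImplicit false
set_option linter.unusedVariables false
set_option maxRecDepth 100000
set_option Elab.async false

namespace CfsgH7.Fi24

open Cfsg

theorem c2_4346 : blk f2 306936 4346 53 = true := by decide +kernel
theorem c2_4399 : blk f2 306936 4399 53 = true := by decide +kernel
theorem c2_4452 : blk f2 306936 4452 53 = true := by decide +kernel
theorem c2_4505 : blk f2 306936 4505 53 = true := by decide +kernel
theorem c2_4558 : blk f2 306936 4558 53 = true := by decide +kernel
theorem c2_4611 : blk f2 306936 4611 53 = true := by decide +kernel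
theorem c2_4664 : blk f2 306936 4664 53 = true := by decide +kernel
theorem c2_4717 : blk f2 306936 4717 53 = true := by decide +kernel
theorem c2_4770 : blk f2 306936 4770 26 = true := by decide +kernel
theorem c3_0 : blk f3 306936 0 781 = true := by decide +kernel

end CfsgH7.Fi24
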