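import Cfsg.Agent.H7.Fi24.PT

set_option autoImplicit false
set_option linter.unusedVariables false
set_option maxRecDepth 100000
set_option Elab.async false

namespace CfsgH7.Fi24

open Cfsg

theorem c3_781 : blk f3 306936 781 781 = true := by decide +kernel
theorem c3_1562 : blk f3 306936 1562 781 = true := by decide +kernel
theorem c3_2343 : blk f3 306936 2343 781 = true := by decide +kernel
theorem c3_3124 : blk f3 306936 3124 781 = true := by decide +kernel
theorem c3_3905 : blk f3 306936 3905 781 = true := by decide +kernel
theorem c3_4686 : blk f3 306936 4686 110 = true := by decide +kernel

end CfsgH7.Fi24
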