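import Cfsg.Agent.H7.Fi24.PT

set_option autoImplicit false
set_option linter.unusedVariables false
set_option maxRecDepth 100000
set_option Elab.async false

namespace CfsgH7.Fi24

open Cfsg

theorem c1_1100 : blk f1 306936 1100 55 = true := by decide +kernel
theorem c1_1155 : blk f1 306936 1155 55 = true := by decide +kernel
theorem c1_1210 : blk f1 306936 1210 55 = true := by decide +kernel
theorem c1_1265 : blk f1 306936 1265 55 = true := by decide +kernel
theorem c1_1320 : blk f1 306936 1320 55 = true := by decide +kernel
theorem c1_1375 : blk f1 306936 1375 55 = true := by decide +kernel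
theorem c1_1430 : blk f1 306936 1430 55 = true := by decide +kernel
theorem c1_1485 : blk f1 306936 1485 55 = true := by decide +kernel
theorem c1_1540 : blk f1 306936 1540 55 = true := by decide +kernel
theorem c1_1595 : blk f1 306936 1595 55 = true := by decide +kernel

end CfsgH7.Fi24
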