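import Cfsg.Agent.H7.Fi24.PT

set_option autoImplicit false
set_option linter.unusedVariables false
set_option maxRecDepth 100000
set_option Elab.async false

namespace CfsgH7.Fi24

open Cfsg

theorem c1_1650 : blk f1 306936 1650 55 = true := by decide +kernel
theorem c1_1705 : blk f1 306936 1705 55 = true := by decide +kernel
theorem c1_1760 : blk f1 306936 1760 55 = true := by decide +kernel
theorem c1_1815 : blk f1 306936 1815 55 = true := by decide +kernel
theorem c1_1870 : blk f1 306936 1870 55 = true := by decide +kernel
theorem c1_1925 : blk f1 306936 1925 55 = true := by decide +kernel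
theorem c1_1980 : blk f1 306936 1980 55 = true := by decide +kernel
theorem c1_2035 : blk f1 306936 2035 55 = true := by decide +kernel
theorem c1_2090 : blk f1 306936 2090 55 = true := by decide +kernel
theorem c1_2145 : blk f1 306936 2145 55 = true := by decide +kernel

end CfsgH7.Fi24
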