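import Cfsg.Agent.H7.Fi24.PT

set_option autoImplicit false
set_option linter.unusedVariables false
set_option maxRecDepth 100000
set_option Elab.async false

namespace CfsgH7.Fi24

open Cfsg

theorem c1_2200 : blk f1 306936 2200 55 = true := by decide +kernel
theorem c1_2255 : blk f1 306936 2255 55 = true := by decide +kernel
theorem c1_2310 : blk f1 306936 2310 55 = true := by decide +kernel
theorem c1_2365 : blk f1 306936 2365 55 = true := by decide +kernel
theorem c1_2420 : blk f1 306936 2420 55 = true := by decide +kernel
theorem c1_2475 : blk f1 306936 2475 55 = true := by decide +kernel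
theorem c1_2530 : blk f1 306936 2530 55 = true := by decide +kernel
theorem c1_2585 : blk f1 306936 2585 55 = true := by decide +kernel
theorem c1_2640 : blk f1 306936 2640 55 = true := by decide +kernel
theorem c1_2695 : blk f1 306936 2695 55 = true := by decide +kernel

end CfsgH7.Fi24
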