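import Cfsg.Agent.H7.Fi24.PT

set_option autoImplicit false
set_option linter.unusedVariables false
set_option maxRecDepth 100000
set_option Elab.async false

namespace CfsgH7.Fi24

open Cfsg

theorem c1_2750 : blk f1 306936 2750 55 = true := by decide +kernel
theorem c1_2805 : blk f1 306936 2805 55 = true := by decide +kernel
theorem c1_2860 : blk f1 306936 2860 55 = true := by decide +kernel
theorem c1_2915 : blk f1 306936 2915 55 = true := by decide +kernel
theorem c1_2970 : blk f1 306936 2970 55 = true := by decide +kernel
theorem c1_3025 : blk f1 306936 3025 55 = true := by decide +kernel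
theorem c1_3080 : blk f1 306936 3080 55 = true := by decide +kernel
theorem c1_3135 : blk f1 306936 3135 55 = true := by decide +kernel
theorem c1_3190 : blk f1 306936 3190 55 = true := by decide +kernel
theorem c1_3245 : blk f1 306936 3245 55 = true := by decide +kernel

end CfsgH7.Fi24
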