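import Cfsg.Agent.H7.Fi24.PT

set_option autoImplicit false
set_option linter.unusedVariables false
set_option maxRecDepth 100000
set_option Elab.async false

namespace CfsgH7.Fi24

open Cfsg

theorem c1_3300 : blk f1 306936 3300 55 = true := by decide +kernel
theorem c1_3355 : blk f1 306936 3355 55 = true := by decide +kernel
theorem c1_3410 : blk f1 306936 3410 55 = true := by decide +kernel
theorem c1_3465 : blk f1 306936 3465 55 = true := by decide +kernel
theorem c1_3520 : blk f1 306936 3520 55 = true := by decide +kernel
theorem c1_3575 : blk f1 306936 3575 55 = true := by decide +kernel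
theorem c1_3630 : blk f1 306936 3630 55 = true := by decide +kernel
theorem c1_3685 : blk f1 306936 3685 55 = true := by decide +kernel
theorem c1_3740 : blk f1 306936 3740 55 = true := by decide +kernel
theorem c1_3795 : blk f1 306936 3795 55 = true := by decide +kernel

end CfsgH7.Fi24
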