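import Cfsg.Agent.H7.Fi24.PT

set_option autoImplicit false
set_option linter.unusedVariables false
set_option maxRecDepth 100000
set_option Elab.async false

namespace CfsgH7.Fi24

open Cfsg

theorem c1_3850 : blk f1 306936 3850 55 = true := by decide +kernel
theorem c1_3905 : blk f1 306936 3905 55 = true := by decide +kernel
theorem c1_3960 : blk f1 306936 3960 55 = true := by decide +kernel
theorem c1_4015 : blk f1 306936 4015 55 = true := by decide +kernel
theorem c1_4070 : blk f1 306936 4070 55 = true := by decide +kernel
theorem c1_4125 : blk f1 306936 4125 55 = true := by decide +kernel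
theorem c1_4180 : blk f1 306936 4180 55 = true := by decide +kernel
theorem c1_4235 : blk f1 306936 4235 55 = true := by decide +kernel
theorem c1_4290 : blk f1 306936 4290 55 = true := by decide +kernel
theorem c1_4345 : blk f1 306936 4345 55 = true := by decide +kernel

end CfsgH7.Fi24
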