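import Cfsg.Agent.H7.Fi24.PT

set_option autoImplicit false
set_option linter.unusedVariables false
set_option maxRecDepth 100000
set_option Elab.async false

namespace CfsgH7.Fi24

open Cfsg

theorem c1_4400 : blk f1 306936 4400 55 = true := by decide +kernel
theorem c1_4455 : blk f1 306936 4455 55 = true := by decide +kernel
theorem c1_4510 : blk f1 306936 4510 55 = true := by decide +kernel
theorem c1_4565 : blk f1 306936 4565 55 = true := by decide +kernel
theorem c1_4620 : blk f1 306936 4620 55 = true := by decide +kernel
theorem c1_4675 : blk f1 306936 4675 55 = true := by decide +kernel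
theorem c1_4730 : blk f1 306936 4730 55 = true := by decide +kernel
theorem c1_4785 : blk f1 306936 4785 11 = true := by decide +kernel
theorem c2_0 : blk f2 306936 0 53 = true := by decide +kernel
theorem c2_53 : blk f2 306936 53 53 = true := by decide +kernel

end CfsgH7.Fi24
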