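import Cfsg.Agent.H7.Fi24.PT

set_option autoImplicit false
set_option linter.unusedVariables false
set_option maxRecDepth 100000
set_option Elab.async false

namespace CfsgH7.Fi24

open Cfsg

theorem c2_106 : blk f2 306936 106 53 = true := by decide +kernel
theorem c2_159 : blk f2 306936 159 53 = true := by decide +kernel
theorem c2_212 : blk f2 306936 212 53 = true := by decide +kernel
theorem c2_265 : blk f2 306936 265 53 = true := by decide +kernel
theorem c2_318 : blk f2 306936 318 53 = true := by decide +kernel
theorem c2_371 : blk f2 306936 371 53 = true := by decide +kernel
theorem c2_424 : blk f2 306936 424 53 = true := by decide +kernel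
theorem c2_477 : blk f2 306936 477 53 = true := by decide +kernel
theorem c2_530 : blk f2 306936 530 53 = true := by decide +kernel
theorem c2_583 : blk f2 306936 583 53 = true := by decide +kernel

end CfsgH7.Fi24
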