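import Cfsg.Agent.H7.Fi24.A
import Cfsg.Agent.H7.Fi24.PC0
import Cfsg.Agent.H7.Fi24.PC1
import Cfsg.Agent.H7.Fi24.PC2
import Cfsg.Agent.H7.Fi24.PC3
import Cfsg.Agent.H7.Fi24.PC4
import Cfsg.Agent.H7.Fi24.PC5
import Cfsg.Agent.H7.Fi24.PC6
import Cfsg.Agent.H7.Fi24.PC7
import Cfsg.Agent.H7.Fi24.PC8
import Cfsg.Agent.H7.Fi24.PC9
import Cfsg.Agent.H7.Fi24.PC10
import Cfsg.Agent.H7.Fi24.PC11
import Cfsg.Agent.H7.Fi24.PC12
import Cfsg.Agent.H7.Fi24.PC13
import Cfsg.Agent.H7.Fi24.PC14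
import Cfsg.Agent.H7.Fi24.PC15
import Cfsg.Agent.H7.Fi24.PC16
import Cfsg.Agent.H7.Fi24.PC17
import Cfsg.Agent.H7.Fi24.PC18

set_option autoImplicit false
set_option linter.unusedVariables false
set_option maxRecDepth 100000
set_option Elab.async false

namespace CfsgH7.Fi24

open Cfsg

theorem a1_55 : Blk f1 306936 55 := Blk.step Blk.zero c1_0 rfl
theorem a1_110 : Blk f1 306936 110 := Blk.step a1_55 c1_55 rfl
theorem a1_165 : Blk f1 306936 165 := Blk.step a1_110 c1_110 rfl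
theorem a1_220 : Blk f1 306936 220 := Blk.step a1_165 c1_165 rfl
theorem a1_275 : Blk f1 306936 275 := Blk.step a1_220 c1_220 rfl
theorem a1_330 : Blk f1 306936 330 := Blk.step a1_275 c1_275 rfl
theorem a1_385 : Blk f1 306936 385 := Blk.step a1_330 c1_330 rfl
theorem a1_440 : Blk f1 306936 440 := Blk.step a1_385 c1_385 rfl
theorem a1_495 : Blk f1 306936 495 := Blk.step a1_440 c1_440 rfl
theorem a1_550 : Blk f1 306936 550 := Blk.step a1_495 c1_495 rfl
theorem a1_605 : Blk f1 306936 605 := Blk.step a1_550 c1_550 rfl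
theorem a1_660 : Blk f1 306936 660 := Blk.step a1_605 c1_605 rfl
theorem a1_715 : Blk f1 306936 715 := Blk.step a1_660 c1_660 rfl
theorem a1_770 : Blk f1 306936 770 := Blk.step a1_715 c1_715 rfl
theorem a1_825 : Blk f1 306936 825 := Blk.step a1_770 c1_770 rfl
theorem a1_880 : Blk f1 306936 880 := Blk.step a1_825 c1_825 rfl
theorem a1_935 : Blk f1 306936 935 := Blk.step a1_880 c1_880 rfl
theorem a1_990 : Blk f1 306936 990 := Blk.step a1_935 c1_935 rfl
theorem a1_1045 : Blk f1 306936 1045 := Blk.step a1_990 c1_990 rfl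
theorem a1_1100 : Blk f1 306936 1100 := Blk.step a1_1045 c1_1045 rfl
theorem a1_1155 : Blk f1 306936 1155 := Blk.step a1_1100 c1_1100 rfl
theorem a1_1210 : Blk f1 306936 1210 := Blk.step a1_1155 c1_1155 rfl
theorem a1_1265 : Blk f1 306936 1265 := Blk.step a1_1210 c1_1210 rfl
theorem a1_1320 : Blk f1 306936 1320 := Blk.step a1_1265 c1_1265 rfl
theorem a1_1375 : Blk f1 306936 1375 := Blk.step a1_1320 c1_1320 rfl
theorem a1_1430 : Blk f1 306936 1430 := Blk.step a1_1375 c1_1375 rfl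
theorem a1_1485 : Blk f1 306936 1485 := Blk.step a1_1430 c1_1430 rfl
theorem a1_1540 : Blk f1 306936 1540 := Blk.step a1_1485 c1_1485 rfl
theorem a1_1595 : Blk f1 306936 1595 := Blk.step a1_1540 c1_1540 rfl
theorem a1_1650 : Blk f1 306936 1650 := Blk.step a1_1595 c1_1595 rfl
theorem a1_1705 : Blk f1 306936 1705 := Blk.step a1_1650 c1_1650 rfl
theorem a1_1760 : Blk f1 306936 1760 := Blk.step a1_1705 c1_1705 rfl
theorem a1_1815 : Blk f1 306936 1815 := Blk.step a1_1760 c1_1760 rfl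
theorem a1_1870 : Blk f1 306936 1870 := Blk.step a1_1815 c1_1815 rfl
theorem a1_1925 : Blk f1 306936 1925 := Blk.step a1_1870 c1_1870 rfl
theorem a1_1980 : Blk f1 306936 1980 := Blk.step a1_1925 c1_1925 rfl
theorem a1_2035 : Blk f1 306936 2035 := Blk.step a1_1980 c1_1980 rfl
theorem a1_2090 : Blk f1 306936 2090 := Blk.step a1_2035 c1_2035 rfl
theorem a1_2145 : Blk f1 306936 2145 := Blk.step a1_2090 c1_2090 rfl
theorem a1_2200 : Blk f1 306936 2200 := Blk.step a1_2145 c1_2145 rfl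
theorem a1_2255 : Blk f1 306936 2255 := Blk.step a1_2200 c1_2200 rfl
theorem a1_2310 : Blk f1 306936 2310 := Blk.step a1_2255 c1_2255 rfl
theorem a1_2365 : Blk f1 306936 2365 := Blk.step a1_2310 c1_2310 rfl
theorem a1_2420 : Blk f1 306936 2420 := Blk.step a1_2365 c1_2365 rfl
theorem a1_2475 : Blk f1 306936 2475 := Blk.step a1_2420 c1_2420 rfl
theorem a1_2530 : Blk f1 306936 2530 := Blk.step a1_2475 c1_2475 rfl
theorem a1_2585 : Blk f1 306936 2585 := Blk.step a1_2530 c1_2530 rfl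
theorem a1_2640 : Blk f1 306936 2640 := Blk.step a1_2585 c1_2585 rfl
theorem a1_2695 : Blk f1 306936 2695 := Blk.step a1_2640 c1_2640 rfl
theorem a1_2750 : Blk f1 306936 2750 := Blk.step a1_2695 c1_2695 rfl
theorem a1_2805 : Blk f1 306936 2805 := Blk.step a1_2750 c1_2750 rfl
theorem a1_2860 : Blk f1 306936 2860 := Blk.step a1_2805 c1_2805 rfl
theorem a1_2915 : Blk f1 306936 2915 := Blk.step a1_2860 c1_2860 rfl
theorem a1_2970 : Blk f1 306936 2970 := Blk.step a1_2915 c1_2915 rfl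
theorem a1_3025 : Blk f1 306936 3025 := Blk.step a1_2970 c1_2970 rfl
theorem a1_3080 : Blk f1 306936 3080 := Blk.step a1_3025 c1_3025 rfl
theorem a1_3135 : Blk f1 306936 3135 := Blk.step a1_3080 c1_3080 rfl
theorem a1_3190 : Blk f1 306936 3190 := Blk.step a1_3135 c1_3135 rfl
theorem a1_3245 : Blk f1 306936 3245 := Blk.step a1_3190 c1_3190 rfl
theorem a1_3300 : Blk f1 306936 3300 := Blk.step a1_3245 c1_3245 rfl
theorem a1_3355 : Blk f1 306936 3355 := Blk.step a1_3300 c1_3300 rfl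
theorem a1_3410 : Blk f1 306936 3410 := Blk.step a1_3355 c1_3355 rfl
theorem a1_3465 : Blk f1 306936 3465 := Blk.step a1_3410 c1_3410 rfl
theorem a1_3520 : Blk f1 306936 3520 := Blk.step a1_3465 c1_3465 rfl
theorem a1_3575 : Blk f1 306936 3575 := Blk.step a1_3520 c1_3520 rfl
theorem a1_3630 : Blk f1 306936 3630 := Blk.step a1_3575 c1_3575 rfl
theorem a1_3685 : Blk f1 306936 3685 := Blk.step a1_3630 c1_3630 rfl
theorem a1_3740 : Blk f1 306936 3740 := Blk.step a1_3685 c1_3685 rfl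
theorem a1_3795 : Blk f1 306936 3795 := Blk.step a1_3740 c1_3740 rfl
theorem a1_3850 : Blk f1 306936 3850 := Blk.step a1_3795 c1_3795 rfl
theorem a1_3905 : Blk f1 306936 3905 := Blk.step a1_3850 c1_3850 rfl
theorem a1_3960 : Blk f1 306936 3960 := Blk.step a1_3905 c1_3905 rfl
theorem a1_4015 : Blk f1 306936 4015 := Blk.step a1_3960 c1_3960 rfl
theorem a1_4070 : Blk f1 306936 4070 := Blk.step a1_4015 c1_4015 rfl
theorem a1_4125 : Blk f1 306936 4125 := Blk.step a1_4070 c1_4070 rfl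
theorem a1_4180 : Blk f1 306936 4180 := Blk.step a1_4125 c1_4125 rfl
theorem a1_4235 : Blk f1 306936 4235 := Blk.step a1_4180 c1_4180 rfl
theorem a1_4290 : Blk f1 306936 4290 := Blk.step a1_4235 c1_4235 rfl
theorem a1_4345 : Blk f1 306936 4345 := Blk.step a1_4290 c1_4290 rfl
theorem a1_4400 : Blk f1 306936 4400 := Blk.step a1_4345 c1_4345 rfl
theorem a1_4455 : Blk f1 306936 4455 := Blk.step a1_4400 c1_4400 rfl
theorem a1_4510 : Blk f1 306936 4510 := Blk.step a1_4455 c1_4455 rfl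
theorem a1_4565 : Blk f1 306936 4565 := Blk.step a1_4510 c1_4510 rfl
theorem a1_4620 : Blk f1 306936 4620 := Blk.step a1_4565 c1_4565 rfl
theorem a1_4675 : Blk f1 306936 4675 := Blk.step a1_4620 c1_4620 rfl
theorem a1_4730 : Blk f1 306936 4730 := Blk.step a1_4675 c1_4675 rfl
theorem a1_4785 : Blk f1 306936 4785 := Blk.step a1_4730 c1_4730 rfl
theorem a1_4796 : Blk f1 306936 4796 := Blk.step a1_4785 c1_4785 rfl
theorem all1 : ∀ p < 306936, f1 p = true := Blk.all a1_4796 (by norm_num)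
theorem a2_53 : Blk f2 306936 53 := Blk.step Blk.zero c2_0 rfl
theorem a2_106 : Blk f2 306936 106 := Blk.step a2_53 c2_53 rfl
theorem a2_159 : Blk f2 306936 159 := Blk.step a2_106 c2_106 rfl
theorem a2_212 : Blk f2 306936 212 := Blk.step a2_159 c2_159 rfl
theorem a2_265 : Blk f2 306936 265 := Blk.step a2_212 c2_212 rfl
theorem a2_318 : Blk f2 306936 318 := Blk.step a2_265 c2_265 rfl
theorem a2_371 : Blk f2 306936 371 := Blk.step a2_318 c2_318 rfl
theorem a2_424 : Blk f2 306936 424 := Blk.step a2_371 c2_371 rfl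
theorem a2_477 : Blk f2 306936 477 := Blk.step a2_424 c2_424 rfl
theorem a2_530 : Blk f2 306936 530 := Blk.step a2_477 c2_477 rfl
theorem a2_583 : Blk f2 306936 583 := Blk.step a2_530 c2_530 rfl
theorem a2_636 : Blk f2 306936 636 := Blk.step a2_583 c2_583 rfl
theorem a2_689 : Blk f2 306936 689 := Blk.step a2_636 c2_636 rfl
theorem a2_742 : Blk f2 306936 742 := Blk.step a2_689 c2_689 rfl
theorem a2_795 : Blk f2 306936 795 := Blk.step a2_742 c2_742 rfl
theorem a2_848 : Blk f2 306936 848 := Blk.step a2_795 c2_795 rfl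
theorem a2_901 : Blk f2 306936 901 := Blk.step a2_848 c2_848 rfl
theorem a2_954 : Blk f2 306936 954 := Blk.step a2_901 c2_901 rfl
theorem a2_1007 : Blk f2 306936 1007 := Blk.step a2_954 c2_954 rfl
theorem a2_1060 : Blk f2 306936 1060 := Blk.step a2_1007 c2_1007 rfl
theorem a2_1113 : Blk f2 306936 1113 := Blk.step a2_1060 c2_1060 rfl
theorem a2_1166 : Blk f2 306936 1166 := Blk.step a2_1113 c2_1113 rfl
theorem a2_1219 : Blk f2 306936 1219 := Blk.step a2_1166 c2_1166 rfl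
theorem a2_1272 : Blk f2 306936 1272 := Blk.step a2_1219 c2_1219 rfl
theorem a2_1325 : Blk f2 306936 1325 := Blk.step a2_1272 c2_1272 rfl
theorem a2_1378 : Blk f2 306936 1378 := Blk.step a2_1325 c2_1325 rfl
theorem a2_1431 : Blk f2 306936 1431 := Blk.step a2_1378 c2_1378 rfl
theorem a2_1484 : Blk f2 306936 1484 := Blk.step a2_1431 c2_1431 rfl
theorem a2_1537 : Blk f2 306936 1537 := Blk.step a2_1484 c2_1484 rfl
theorem a2_1590 : Blk f2 306936 1590 := Blk.step a2_1537 c2_1537 rfl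
theorem a2_1643 : Blk f2 306936 1643 := Blk.step a2_1590 c2_1590 rfl
theorem a2_1696 : Blk f2 306936 1696 := Blk.step a2_1643 c2_1643 rfl
theorem a2_1749 : Blk f2 306936 1749 := Blk.step a2_1696 c2_1696 rfl
theorem a2_1802 : Blk f2 306936 1802 := Blk.step a2_1749 c2_1749 rfl
theorem a2_1855 : Blk f2 306936 1855 := Blk.step a2_1802 c2_1802 rfl
theorem a2_1908 : Blk f2 306936 1908 := Blk.step a2_1855 c2_1855 rfl
theorem a2_1961 : Blk f2 306936 1961 := Blk.step a2_1908 c2_1908 rfl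
theorem a2_2014 : Blk f2 306936 2014 := Blk.step a2_1961 c2_1961 rfl
theorem a2_2067 : Blk f2 306936 2067 := Blk.step a2_2014 c2_2014 rfl
theorem a2_2120 : Blk f2 306936 2120 := Blk.step a2_2067 c2_2067 rfl
theorem a2_2173 : Blk f2 306936 2173 := Blk.step a2_2120 c2_2120 rfl
theorem a2_2226 : Blk f2 306936 2226 := Blk.step a2_2173 c2_2173 rfl
theorem a2_2279 : Blk f2 306936 2279 := Blk.step a2_2226 c2_2226 rfl
theorem a2_2332 : Blk f2 306936 2332 := Blk.step a2_2279 c2_2279 rfl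
theorem a2_2385 : Blk f2 306936 2385 := Blk.step a2_2332 c2_2332 rfl
theorem a2_2438 : Blk f2 306936 2438 := Blk.step a2_2385 c2_2385 rfl
theorem a2_2491 : Blk f2 306936 2491 := Blk.step a2_2438 c2_2438 rfl
theorem a2_2544 : Blk f2 306936 2544 := Blk.step a2_2491 c2_2491 rfl
theorem a2_2597 : Blk f2 306936 2597 := Blk.step a2_2544 c2_2544 rfl
theorem a2_2650 : Blk f2 306936 2650 := Blk.step a2_2597 c2_2597 rfl
theorem a2_2703 : Blk f2 306936 2703 := Blk.step a2_2650 c2_2650 rfl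
theorem a2_2756 : Blk f2 306936 2756 := Blk.step a2_2703 c2_2703 rfl
theorem a2_2809 : Blk f2 306936 2809 := Blk.step a2_2756 c2_2756 rfl
theorem a2_2862 : Blk f2 306936 2862 := Blk.step a2_2809 c2_2809 rfl
theorem a2_2915 : Blk f2 306936 2915 := Blk.step a2_2862 c2_2862 rfl
theorem a2_2968 : Blk f2 306936 2968 := Blk.step a2_2915 c2_2915 rfl
theorem a2_3021 : Blk f2 306936 3021 := Blk.step a2_2968 c2_2968 rfl
theorem a2_3074 : Blk f2 306936 3074 := Blk.step a2_3021 c2_3021 rfl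
theorem a2_3127 : Blk f2 306936 3127 := Blk.step a2_3074 c2_3074 rfl
theorem a2_3180 : Blk f2 306936 3180 := Blk.step a2_3127 c2_3127 rfl
theorem a2_3233 : Blk f2 306936 3233 := Blk.step a2_3180 c2_3180 rfl
theorem a2_3286 : Blk f2 306936 3286 := Blk.step a2_3233 c2_3233 rfl
theorem a2_3339 : Blk f2 306936 3339 := Blk.step a2_3286 c2_3286 rfl
theorem a2_3392 : Blk f2 306936 3392 := Blk.step a2_3339 c2_3339 rfl
theorem a2_3445 : Blk f2 306936 3445 := Blk.step a2_3392 c2_3392 rfl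
theorem a2_3498 : Blk f2 306936 3498 := Blk.step a2_3445 c2_3445 rfl
theorem a2_3551 : Blk f2 306936 3551 := Blk.step a2_3498 c2_3498 rfl
theorem a2_3604 : Blk f2 306936 3604 := Blk.step a2_3551 c2_3551 rfl
theorem a2_3657 : Blk f2 306936 3657 := Blk.step a2_3604 c2_3604 rfl
theorem a2_3710 : Blk f2 306936 3710 := Blk.step a2_3657 c2_3657 rfl
theorem a2_3763 : Blk f2 306936 3763 := Blk.step a2_3710 c2_3710 rfl
theorem a2_3816 : Blk f2 306936 3816 := Blk.step a2_3763 c2_3763 rfl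
theorem a2_3869 : Blk f2 306936 3869 := Blk.step a2_3816 c2_3816 rfl
theorem a2_3922 : Blk f2 306936 3922 := Blk.step a2_3869 c2_3869 rfl
theorem a2_3975 : Blk f2 306936 3975 := Blk.step a2_3922 c2_3922 rfl
theorem a2_4028 : Blk f2 306936 4028 := Blk.step a2_3975 c2_3975 rfl
theorem a2_4081 : Blk f2 306936 4081 := Blk.step a2_4028 c2_4028 rfl
theorem a2_4134 : Blk f2 306936 4134 := Blk.step a2_4081 c2_4081 rfl
theorem a2_4187 : Blk f2 306936 4187 := Blk.step a2_4134 c2_4134 rfl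
theorem a2_4240 : Blk f2 306936 4240 := Blk.step a2_4187 c2_4187 rfl
theorem a2_4293 : Blk f2 306936 4293 := Blk.step a2_4240 c2_4240 rfl
theorem a2_4346 : Blk f2 306936 4346 := Blk.step a2_4293 c2_4293 rfl
theorem a2_4399 : Blk f2 306936 4399 := Blk.step a2_4346 c2_4346 rfl
theorem a2_4452 : Blk f2 306936 4452 := Blk.step a2_4399 c2_4399 rfl
theorem a2_4505 : Blk f2 306936 4505 := Blk.step a2_4452 c2_4452 rfl
theorem a2_4558 : Blk f2 306936 4558 := Blk.step a2_4505 c2_4505 rfl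
theorem a2_4611 : Blk f2 306936 4611 := Blk.step a2_4558 c2_4558 rfl
theorem a2_4664 : Blk f2 306936 4664 := Blk.step a2_4611 c2_4611 rfl
theorem a2_4717 : Blk f2 306936 4717 := Blk.step a2_4664 c2_4664 rfl
theorem a2_4770 : Blk f2 306936 4770 := Blk.step a2_4717 c2_4717 rfl
theorem a2_4796 : Blk f2 306936 4796 := Blk.step a2_4770 c2_4770 rfl
theorem all2 : ∀ p < 306936, f2 p = true := Blk.all a2_4796 (by norm_num)
theorem a3_781 : Blk f3 306936 781 := Blk.step Blk.zero c3_0 rfl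
theorem a3_1562 : Blk f3 306936 1562 := Blk.step a3_781 c3_781 rfl
theorem a3_2343 : Blk f3 306936 2343 := Blk.step a3_1562 c3_1562 rfl
theorem a3_3124 : Blk f3 306936 3124 := Blk.step a3_2343 c3_2343 rfl
theorem a3_3905 : Blk f3 306936 3905 := Blk.step a3_3124 c3_3124 rfl
theorem a3_4686 : Blk f3 306936 4686 := Blk.step a3_3905 c3_3905 rfl
theorem a3_4796 : Blk f3 306936 4796 := Blk.step a3_4686 c3_4686 rfl
theorem all3 : ∀ p < 306936, f3 p = true := Blk.all a3_4796 (by norm_num)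

noncomputable def P : PTab A Spor.Fi24.extra where
  Rw := Rw
  w := 19
  mk' := 524287
  N := 306936
  iv := 0xba9876543210
  lab := 0x80000000e0000000b8000000ea000000aa800000aba00000aae80000aaba0000aaae8000aaaba000aaaafc
  C := 12
  EL := [[7, 4, 1, 0, 2, 5, 3], [0, 1, 4, 7, 11, 9, 0, 2, 5, 8, 10, 0, 3, 6], [0, 1, 4, 7, 11, 9, 0, 2, 5, 8, 10, 0, 3, 6, 0, 1, 4, 7, 11, 9, 0, 2, 5, 8, 10, 0, 3, 6], [0, 1, 4, 7, 11, 9, 0, 2, 5, 8, 10, 0, 3, 6, 0, 1, 4, 7, 11, 9, 0, 2, 5, 8, 10, 0, 3, 6, 0, 1, 4, 7, 11, 9, 0, 2, 5, 8, 10, 0, 3, 6, 0, 1, 4, 7, 11, 9, 0, 2, 5, 8, 10, 0, 3, 6]]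
  mac := mac
  rel := rel
  hi := by decide +kernel
  pair := all1
  word := all2
  code_lt := by decide +kernel
  lt_code := by decide +kernel
  node := by decide +kernel
  mac_ok := by decide +kernel
  rel_ok := by decide +kernel
  cox := by decide +kernel
  ext := by decide +kernel

theorem invOk : P.InvOk := by decide +kernel

theorem rk : P.W.Rk HL I := WG.Rk.mk' (fun _ _ => rfl) P.top (by decide +kernel) all3


end CfsgH7.Fi24
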