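import Cfsg.Agent.H7.Fi24.PT

set_option autoImplicit false
set_option linter.unusedVariables false
set_option maxRecDepth 100000
set_option Elab.async false

namespace CfsgH7.Fi24

open Cfsg

theorem c2_2756 : blk f2 306936 2756 53 = true := by decide +kernel
theorem c2_2809 : blk f2 306936 2809 53 = true := by decide +kernel
theorem c2_2862 : blk f2 306936 2862 53 = true := by decide +kernel
theorem c2_2915 : blk f2 306936 2915 53 = true := by decide +kernel
theorem c2_2968 : blk f2 306936 2968 53 = true := by decide +kernel
theorem c2_3021 : blk f2 306936 3021 53 = true := by decide +kernel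
theorem c2_3074 : blk f2 306936 3074 53 = true := by decide +kernel
theorem c2_3127 : blk f2 306936 3127 53 = true := by decide +kernel
theorem c2_3180 : blk f2 306936 3180 53 = true := by decide +kernel
theorem c2_3233 : blk f2 306936 3233 53 = true := by decide +kernel

end CfsgH7.Fi24
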