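import Cfsg.Agent.H7.Fi24.PD0
import Cfsg.Agent.H7.Fi24.PD1
import Cfsg.Agent.H7.Fi24.PD2

set_option autoImplicit false
set_option linter.unusedVariables false
set_option maxRecDepth 100000
set_option Elab.async false

namespace CfsgH7.Fi24

open Cfsg

noncomputable def t7_9 (i : ℕ) : ℕ := (@Bool.rec (fun _ => ℕ) l7 l8 (Nat.ble (nat_lit 8) i))
noncomputable def t0_9 (i : ℕ) : ℕ := (@Bool.rec (fun _ => ℕ) (@Bool.rec (fun _ => ℕ) (@Bool.rec (fun _ => ℕ) l0 l1 (Nat.ble (nat_lit 1) i)) (@Bool.rec (fun _ => ℕ) l2 l3 (Nat.ble (nat_lit 3) i)) (Nat.ble (nat_lit 2) i)) (@Bool.rec (fun _ => ℕ) (@Bool.rec (fun _ => ℕ) l4 l5 (Nat.ble (nat_lit 5) i)) (@Bool.rec (fun _ => ℕ) l6 (t7_9 i) (Nat.ble (nat_lit 7) i)) (Nat.ble (nat_lit 6) i)) (Nat.ble (nat_lit 4) i))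
noncomputable def t16_18 (i : ℕ) : ℕ := (@Bool.rec (fun _ => ℕ) l16 l17 (Nat.ble (nat_lit 17) i))
noncomputable def t9_18 (i : ℕ) : ℕ := (@Bool.rec (fun _ => ℕ) (@Bool.rec (fun _ => ℕ) (@Bool.rec (fun _ => ℕ) l9 l10 (Nat.ble (nat_lit 10) i)) (@Bool.rec (fun _ => ℕ) l11 l12 (Nat.ble (nat_lit 12) i)) (Nat.ble (nat_lit 11) i)) (@Bool.rec (fun _ => ℕ) (@Bool.rec (fun _ => ℕ) l13 l14 (Nat.ble (nat_lit 14) i)) (@Bool.rec (fun _ => ℕ) l15 (t16_18 i) (Nat.ble (nat_lit 16) i)) (Nat.ble (nat_lit 15) i)) (Nat.ble (nat_lit 13) i))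
noncomputable def t25_27 (i : ℕ) : ℕ := (@Bool.rec (fun _ => ℕ) l25 l26 (Nat.ble (nat_lit 26) i))
noncomputable def t18_27 (i : ℕ) : ℕ := (@Bool.rec (fun _ => ℕ) (@Bool.rec (fun _ => ℕ) (@Bool.rec (fun _ => ℕ) l18 l19 (Nat.ble (nat_lit 19) i)) (@Bool.rec (fun _ => ℕ) l20 l21 (Nat.ble (nat_lit 21) i)) (Nat.ble (nat_lit 20) i)) (@Bool.rec (fun _ => ℕ) (@Bool.rec (fun _ => ℕ) l22 l23 (Nat.ble (nat_lit 23) i)) (@Bool.rec (fun _ => ℕ) l24 (t25_27 i) (Nat.ble (nat_lit 25) i)) (Nat.ble (nat_lit 24) i)) (Nat.ble (nat_lit 22) i))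
noncomputable def t30_32 (i : ℕ) : ℕ := (@Bool.rec (fun _ => ℕ) l30 l31 (Nat.ble (nat_lit 31) i))
noncomputable def t35_37 (i : ℕ) : ℕ := (@Bool.rec (fun _ => ℕ) l35 l36 (Nat.ble (nat_lit 36) i))
noncomputable def t27_37 (i : ℕ) : ℕ := (@Bool.rec (fun _ => ℕ) (@Bool.rec (fun _ => ℕ) (@Bool.rec (fun _ => ℕ) l27 l28 (Nat.ble (nat_lit 28) i)) (@Bool.rec (fun _ => ℕ) l29 (t30_32 i) (Nat.ble (nat_lit 30) i)) (Nat.ble (nat_lit 29) i)) (@Bool.rec (fun _ => ℕ) (@Bool.rec (fun _ => ℕ) l32 l33 (Nat.ble (nat_lit 33) i)) (@Bool.rec (fun _ => ℕ) l34 (t35_37 i) (Nat.ble (nat_lit 35) i)) (Nat.ble (nat_lit 34) i)) (Nat.ble (nat_lit 32) i))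
noncomputable def t44_46 (i : ℕ) : ℕ := (@Bool.rec (fun _ => ℕ) l44 l45 (Nat.ble (nat_lit 45) i))
noncomputable def t37_46 (i : ℕ) : ℕ := (@Bool.rec (fun _ => ℕ) (@Bool.rec (fun _ => ℕ) (@Bool.rec (fun _ => ℕ) l37 l38 (Nat.ble (nat_lit 38) i)) (@Bool.rec (fun _ => ℕ) l39 l40 (Nat.ble (nat_lit 40) i)) (Nat.ble (nat_lit 39) i)) (@Bool.rec (fun _ => ℕ) (@Bool.rec (fun _ => ℕ) l41 l42 (Nat.ble (nat_lit 42) i)) (@Bool.rec (fun _ => ℕ) l43 (t44_46 i) (Nat.ble (nat_lit 44) i)) (Nat.ble (nat_lit 43) i)) (Nat.ble (nat_lit 41) i))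
noncomputable def t53_55 (i : ℕ) : ℕ := (@Bool.rec (fun _ => ℕ) l53 l54 (Nat.ble (nat_lit 54) i))
noncomputable def t46_55 (i : ℕ) : ℕ := (@Bool.rec (fun _ => ℕ) (@Bool.rec (fun _ => ℕ) (@Bool.rec (fun _ => ℕ) l46 l47 (Nat.ble (nat_lit 47) i)) (@Bool.rec (fun _ => ℕ) l48 l49 (Nat.ble (nat_lit 49) i)) (Nat.ble (nat_lit 48) i)) (@Bool.rec (fun _ => ℕ) (@Bool.rec (fun _ => ℕ) l50 l51 (Nat.ble (nat_lit 51) i)) (@Bool.rec (fun _ => ℕ) l52 (t53_55 i) (Nat.ble (nat_lit 53) i)) (Nat.ble (nat_lit 52) i)) (Nat.ble (nat_lit 50) i))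
noncomputable def t62_64 (i : ℕ) : ℕ := (@Bool.rec (fun _ => ℕ) l62 l63 (Nat.ble (nat_lit 63) i))
noncomputable def t55_64 (i : ℕ) : ℕ := (@Bool.rec (fun _ => ℕ) (@Bool.rec (fun _ => ℕ) (@Bool.rec (fun _ => ℕ) l55 l56 (Nat.ble (nat_lit 56) i)) (@Bool.rec (fun _ => ℕ) l57 l58 (Nat.ble (nat_lit 58) i)) (Nat.ble (nat_lit 57) i)) (@Bool.rec (fun _ => ℕ) (@Bool.rec (fun _ => ℕ) l59 l60 (Nat.ble (nat_lit 60) i)) (@Bool.rec (fun _ => ℕ) l61 (t62_64 i) (Nat.ble (nat_lit 62) i)) (Nat.ble (nat_lit 61) i)) (Nat.ble (nat_lit 59) i))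
noncomputable def t67_69 (i : ℕ) : ℕ := (@Bool.rec (fun _ => ℕ) l67 l68 (Nat.ble (nat_lit 68) i))
noncomputable def t72_74 (i : ℕ) : ℕ := (@Bool.rec (fun _ => ℕ) l72 l73 (Nat.ble (nat_lit 73) i))
noncomputable def t64_74 (i : ℕ) : ℕ := (@Bool.rec (fun _ => ℕ) (@Bool.rec (fun _ => ℕ) (@Bool.rec (fun _ => ℕ) l64 l65 (Nat.ble (nat_lit 65) i)) (@Bool.rec (fun _ => ℕ) l66 (t67_69 i) (Nat.ble (nat_lit 67) i)) (Nat.ble (nat_lit 66) i)) (@Bool.rec (fun _ => ℕ) (@Bool.rec (fun _ => ℕ) l69 l70 (Nat.ble (nat_lit 70) i)) (@Bool.rec (fun _ => ℕ) l71 (t72_74 i) (Nat.ble (nat_lit 72) i)) (Nat.ble (nat_lit 71) i)) (Nat.ble (nat_lit 69) i))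
noncomputable def t0_74 (i : ℕ) : ℕ := (@Bool.rec (fun _ => ℕ) (@Bool.rec (fun _ => ℕ) (@Bool.rec (fun _ => ℕ) (t0_9 i) (t9_18 i) (Nat.ble (nat_lit 9) i)) (@Bool.rec (fun _ => ℕ) (t18_27 i) (t27_37 i) (Nat.ble (nat_lit 27) i)) (Nat.ble (nat_lit 18) i)) (@Bool.rec (fun _ => ℕ) (@Bool.rec (fun _ => ℕ) (t37_46 i) (t46_55 i) (Nat.ble (nat_lit 46) i)) (@Bool.rec (fun _ => ℕ) (t55_64 i) (t64_74 i) (Nat.ble (nat_lit 64) i)) (Nat.ble (nat_lit 55) i)) (Nat.ble (nat_lit 37) i))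
noncomputable def t81_83 (i : ℕ) : ℕ := (@Bool.rec (fun _ => ℕ) l81 l82 (Nat.ble (nat_lit 82) i))
noncomputable def t74_83 (i : ℕ) : ℕ := (@Bool.rec (fun _ => ℕ) (@Bool.rec (fun _ => ℕ) (@Bool.rec (fun _ => ℕ) l74 l75 (Nat.ble (nat_lit 75) i)) (@Bool.rec (fun _ => ℕ) l76 l77 (Nat.ble (nat_lit 77) i)) (Nat.ble (nat_lit 76) i)) (@Bool.rec (fun _ => ℕ) (@Bool.rec (fun _ => ℕ) l78 l79 (Nat.ble (nat_lit 79) i)) (@Bool.rec (fun _ => ℕ) l80 (t81_83 i) (Nat.ble (nat_lit 81) i)) (Nat.ble (nat_lit 80) i)) (Nat.ble (nat_lit 78) i))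
noncomputable def t90_92 (i : ℕ) : ℕ := (@Bool.rec (fun _ => ℕ) l90 l91 (Nat.ble (nat_lit 91) i))
noncomputable def t83_92 (i : ℕ) : ℕ := (@Bool.rec (fun _ => ℕ) (@Bool.rec (fun _ => ℕ) (@Bool.rec (fun _ => ℕ) l83 l84 (Nat.ble (nat_lit 84) i)) (@Bool.rec (fun _ => ℕ) l85 l86 (Nat.ble (nat_lit 86) i)) (Nat.ble (nat_lit 85) i)) (@Bool.rec (fun _ => ℕ) (@Bool.rec (fun _ => ℕ) l87 l88 (Nat.ble (nat_lit 88) i)) (@Bool.rec (fun _ => ℕ) l89 (t90_92 i) (Nat.ble (nat_lit 90) i)) (Nat.ble (nat_lit 89) i)) (Nat.ble (nat_lit 87) i))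
noncomputable def t99_101 (i : ℕ) : ℕ := (@Bool.rec (fun _ => ℕ) l99 l100 (Nat.ble (nat_lit 100) i))
noncomputable def t92_101 (i : ℕ) : ℕ := (@Bool.rec (fun _ => ℕ) (@Bool.rec (fun _ => ℕ) (@Bool.rec (fun _ => ℕ) l92 l93 (Nat.ble (nat_lit 93) i)) (@Bool.rec (fun _ => ℕ) l94 l95 (Nat.ble (nat_lit 95) i)) (Nat.ble (nat_lit 94) i)) (@Bool.rec (fun _ => ℕ) (@Bool.rec (fun _ => ℕ) l96 l97 (Nat.ble (nat_lit 97) i)) (@Bool.rec (fun _ => ℕ) l98 (t99_101 i) (Nat.ble (nat_lit 99) i)) (Nat.ble (nat_lit 98) i)) (Nat.ble (nat_lit 96) i))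
noncomputable def t104_106 (i : ℕ) : ℕ := (@Bool.rec (fun _ => ℕ) l104 l105 (Nat.ble (nat_lit 105) i))
noncomputable def t109_111 (i : ℕ) : ℕ := (@Bool.rec (fun _ => ℕ) l109 l110 (Nat.ble (nat_lit 110) i))
noncomputable def t101_111 (i : ℕ) : ℕ := (@Bool.rec (fun _ => ℕ) (@Bool.rec (fun _ => ℕ) (@Bool.rec (fun _ => ℕ) l101 l102 (Nat.ble (nat_lit 102) i)) (@Bool.rec (fun _ => ℕ) l103 (t104_106 i) (Nat.ble (nat_lit 104) i)) (Nat.ble (nat_lit 103) i)) (@Bool.rec (fun _ => ℕ) (@Bool.rec (fun _ => ℕ) l106 l107 (Nat.ble (nat_lit 107) i)) (@Bool.rec (fun _ => ℕ) l108 (t109_111 i) (Nat.ble (nat_lit 109) i)) (Nat.ble (nat_lit 108) i)) (Nat.ble (nat_lit 106) i))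
noncomputable def t118_120 (i : ℕ) : ℕ := (@Bool.rec (fun _ => ℕ) l118 l119 (Nat.ble (nat_lit 119) i))
noncomputable def t111_120 (i : ℕ) : ℕ := (@Bool.rec (fun _ => ℕ) (@Bool.rec (fun _ => ℕ) (@Bool.rec (fun _ => ℕ) l111 l112 (Nat.ble (nat_lit 112) i)) (@Bool.rec (fun _ => ℕ) l113 l114 (Nat.ble (nat_lit 114) i)) (Nat.ble (nat_lit 113) i)) (@Bool.rec (fun _ => ℕ) (@Bool.rec (fun _ => ℕ) l115 l116 (Nat.ble (nat_lit 116) i)) (@Bool.rec (fun _ => ℕ) l117 (t118_120 i) (Nat.ble (nat_lit 118) i)) (Nat.ble (nat_lit 117) i)) (Nat.ble (nat_lit 115) i))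
noncomputable def t123_125 (i : ℕ) : ℕ := (@Bool.rec (fun _ => ℕ) l123 l124 (Nat.ble (nat_lit 124) i))
noncomputable def t128_130 (i : ℕ) : ℕ := (@Bool.rec (fun _ => ℕ) l128 l129 (Nat.ble (nat_lit 129) i))
noncomputable def t120_130 (i : ℕ) : ℕ := (@Bool.rec (fun _ => ℕ) (@Bool.rec (fun _ => ℕ) (@Bool.rec (fun _ => ℕ) l120 l121 (Nat.ble (nat_lit 121) i)) (@Bool.rec (fun _ => ℕ) l122 (t123_125 i) (Nat.ble (nat_lit 123) i)) (Nat.ble (nat_lit 122) i)) (@Bool.rec (fun _ => ℕ) (@Bool.rec (fun _ => ℕ) l125 l126 (Nat.ble (nat_lit 126) i)) (@Bool.rec (fun _ => ℕ) l127 (t128_130 i) (Nat.ble (nat_lit 128) i)) (Nat.ble (nat_lit 127) i)) (Nat.ble (nat_lit 125) i))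
noncomputable def t137_139 (i : ℕ) : ℕ := (@Bool.rec (fun _ => ℕ) l137 l138 (Nat.ble (nat_lit 138) i))
noncomputable def t130_139 (i : ℕ) : ℕ := (@Bool.rec (fun _ => ℕ) (@Bool.rec (fun _ => ℕ) (@Bool.rec (fun _ => ℕ) l130 l131 (Nat.ble (nat_lit 131) i)) (@Bool.rec (fun _ => ℕ) l132 l133 (Nat.ble (nat_lit 133) i)) (Nat.ble (nat_lit 132) i)) (@Bool.rec (fun _ => ℕ) (@Bool.rec (fun _ => ℕ) l134 l135 (Nat.ble (nat_lit 135) i)) (@Bool.rec (fun _ => ℕ) l136 (t137_139 i) (Nat.ble (nat_lit 137) i)) (Nat.ble (nat_lit 136) i)) (Nat.ble (nat_lit 134) i))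
noncomputable def t142_144 (i : ℕ) : ℕ := (@Bool.rec (fun _ => ℕ) l142 l143 (Nat.ble (nat_lit 143) i))
noncomputable def t147_149 (i : ℕ) : ℕ := (@Bool.rec (fun _ => ℕ) l147 l148 (Nat.ble (nat_lit 148) i))
noncomputable def t139_149 (i : ℕ) : ℕ := (@Bool.rec (fun _ => ℕ) (@Bool.rec (fun _ => ℕ) (@Bool.rec (fun _ => ℕ) l139 l140 (Nat.ble (nat_lit 140) i)) (@Bool.rec (fun _ => ℕ) l141 (t142_144 i) (Nat.ble (nat_lit 142) i)) (Nat.ble (nat_lit 141) i)) (@Bool.rec (fun _ => ℕ) (@Bool.rec (fun _ => ℕ) l144 l145 (Nat.ble (nat_lit 145) i)) (@Bool.rec (fun _ => ℕ) l146 (t147_149 i) (Nat.ble (nat_lit 147) i)) (Nat.ble (nat_lit 146) i)) (Nat.ble (nat_lit 144) i))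
noncomputable def t74_149 (i : ℕ) : ℕ := (@Bool.rec (fun _ => ℕ) (@Bool.rec (fun _ => ℕ) (@Bool.rec (fun _ => ℕ) (t74_83 i) (t83_92 i) (Nat.ble (nat_lit 83) i)) (@Bool.rec (fun _ => ℕ) (t92_101 i) (t101_111 i) (Nat.ble (nat_lit 101) i)) (Nat.ble (nat_lit 92) i)) (@Bool.rec (fun _ => ℕ) (@Bool.rec (fun _ => ℕ) (t111_120 i) (t120_130 i) (Nat.ble (nat_lit 120) i)) (@Bool.rec (fun _ => ℕ) (t130_139 i) (t139_149 i) (Nat.ble (nat_lit 139) i)) (Nat.ble (nat_lit 130) i)) (Nat.ble (nat_lit 111) i))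
noncomputable def t156_158 (i : ℕ) : ℕ := (@Bool.rec (fun _ => ℕ) l156 l157 (Nat.ble (nat_lit 157) i))
noncomputable def t149_158 (i : ℕ) : ℕ := (@Bool.rec (fun _ => ℕ) (@Bool.rec (fun _ => ℕ) (@Bool.rec (fun _ => ℕ) l149 l150 (Nat.ble (nat_lit 150) i)) (@Bool.rec (fun _ => ℕ) l151 l152 (Nat.ble (nat_lit 152) i)) (Nat.ble (nat_lit 151) i)) (@Bool.rec (fun _ => ℕ) (@Bool.rec (fun _ => ℕ) l153 l154 (Nat.ble (nat_lit 154) i)) (@Bool.rec (fun _ => ℕ) l155 (t156_158 i) (Nat.ble (nat_lit 156) i)) (Nat.ble (nat_lit 155) i)) (Nat.ble (nat_lit 153) i))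
noncomputable def t165_167 (i : ℕ) : ℕ := (@Bool.rec (fun _ => ℕ) l165 l166 (Nat.ble (nat_lit 166) i))
noncomputable def t158_167 (i : ℕ) : ℕ := (@Bool.rec (fun _ => ℕ) (@Bool.rec (fun _ => ℕ) (@Bool.rec (fun _ => ℕ) l158 l159 (Nat.ble (nat_lit 159) i)) (@Bool.rec (fun _ => ℕ) l160 l161 (Nat.ble (nat_lit 161) i)) (Nat.ble (nat_lit 160) i)) (@Bool.rec (fun _ => ℕ) (@Bool.rec (fun _ => ℕ) l162 l163 (Nat.ble (nat_lit 163) i)) (@Bool.rec (fun _ => ℕ) l164 (t165_167 i) (Nat.ble (nat_lit 165) i)) (Nat.ble (nat_lit 164) i)) (Nat.ble (nat_lit 162) i))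
noncomputable def t174_176 (i : ℕ) : ℕ := (@Bool.rec (fun _ => ℕ) l174 l175 (Nat.ble (nat_lit 175) i))
noncomputable def t167_176 (i : ℕ) : ℕ := (@Bool.rec (fun _ => ℕ) (@Bool.rec (fun _ => ℕ) (@Bool.rec (fun _ => ℕ) l167 l168 (Nat.ble (nat_lit 168) i)) (@Bool.rec (fun _ => ℕ) l169 l170 (Nat.ble (nat_lit 170) i)) (Nat.ble (nat_lit 169) i)) (@Bool.rec (fun _ => ℕ) (@Bool.rec (fun _ => ℕ) l171 l172 (Nat.ble (nat_lit 172) i)) (@Bool.rec (fun _ => ℕ) l173 (t174_176 i) (Nat.ble (nat_lit 174) i)) (Nat.ble (nat_lit 173) i)) (Nat.ble (nat_lit 171) i))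
noncomputable def t179_181 (i : ℕ) : ℕ := (@Bool.rec (fun _ => ℕ) l179 l180 (Nat.ble (nat_lit 180) i))
noncomputable def t184_186 (i : ℕ) : ℕ := (@Bool.rec (fun _ => ℕ) l184 l185 (Nat.ble (nat_lit 185) i))
noncomputable def t176_186 (i : ℕ) : ℕ := (@Bool.rec (fun _ => ℕ) (@Bool.rec (fun _ => ℕ) (@Bool.rec (fun _ => ℕ) l176 l177 (Nat.ble (nat_lit 177) i)) (@Bool.rec (fun _ => ℕ) l178 (t179_181 i) (Nat.ble (nat_lit 179) i)) (Nat.ble (nat_lit 178) i)) (@Bool.rec (fun _ => ℕ) (@Bool.rec (fun _ => ℕ) l181 l182 (Nat.ble (nat_lit 182) i)) (@Bool.rec (fun _ => ℕ) l183 (t184_186 i) (Nat.ble (nat_lit 184) i)) (Nat.ble (nat_lit 183) i)) (Nat.ble (nat_lit 181) i))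
noncomputable def t193_195 (i : ℕ) : ℕ := (@Bool.rec (fun _ => ℕ) l193 l194 (Nat.ble (nat_lit 194) i))
noncomputable def t186_195 (i : ℕ) : ℕ := (@Bool.rec (fun _ => ℕ) (@Bool.rec (fun _ => ℕ) (@Bool.rec (fun _ => ℕ) l186 l187 (Nat.ble (nat_lit 187) i)) (@Bool.rec (fun _ => ℕ) l188 l189 (Nat.ble (nat_lit 189) i)) (Nat.ble (nat_lit 188) i)) (@Bool.rec (fun _ => ℕ) (@Bool.rec (fun _ => ℕ) l190 l191 (Nat.ble (nat_lit 191) i)) (@Bool.rec (fun _ => ℕ) l192 (t193_195 i) (Nat.ble (nat_lit 193) i)) (Nat.ble (nat_lit 192) i)) (Nat.ble (nat_lit 190) i))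
noncomputable def t198_200 (i : ℕ) : ℕ := (@Bool.rec (fun _ => ℕ) l198 l199 (Nat.ble (nat_lit 199) i))
noncomputable def t203_205 (i : ℕ) : ℕ := (@Bool.rec (fun _ => ℕ) l203 l204 (Nat.ble (nat_lit 204) i))
noncomputable def t195_205 (i : ℕ) : ℕ := (@Bool.rec (fun _ => ℕ) (@Bool.rec (fun _ => ℕ) (@Bool.rec (fun _ => ℕ) l195 l196 (Nat.ble (nat_lit 196) i)) (@Bool.rec (fun _ => ℕ) l197 (t198_200 i) (Nat.ble (nat_lit 198) i)) (Nat.ble (nat_lit 197) i)) (@Bool.rec (fun _ => ℕ) (@Bool.rec (fun _ => ℕ) l200 l201 (Nat.ble (nat_lit 201) i)) (@Bool.rec (fun _ => ℕ) l202 (t203_205 i) (Nat.ble (nat_lit 203) i)) (Nat.ble (nat_lit 202) i)) (Nat.ble (nat_lit 200) i))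
noncomputable def t212_214 (i : ℕ) : ℕ := (@Bool.rec (fun _ => ℕ) l212 l213 (Nat.ble (nat_lit 213) i))
noncomputable def t205_214 (i : ℕ) : ℕ := (@Bool.rec (fun _ => ℕ) (@Bool.rec (fun _ => ℕ) (@Bool.rec (fun _ => ℕ) l205 l206 (Nat.ble (nat_lit 206) i)) (@Bool.rec (fun _ => ℕ) l207 l208 (Nat.ble (nat_lit 208) i)) (Nat.ble (nat_lit 207) i)) (@Bool.rec (fun _ => ℕ) (@Bool.rec (fun _ => ℕ) l209 l210 (Nat.ble (nat_lit 210) i)) (@Bool.rec (fun _ => ℕ) l211 (t212_214 i) (Nat.ble (nat_lit 212) i)) (Nat.ble (nat_lit 211) i)) (Nat.ble (nat_lit 209) i))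
noncomputable def t217_219 (i : ℕ) : ℕ := (@Bool.rec (fun _ => ℕ) l217 l218 (Nat.ble (nat_lit 218) i))
noncomputable def t222_224 (i : ℕ) : ℕ := (@Bool.rec (fun _ => ℕ) l222 l223 (Nat.ble (nat_lit 223) i))
noncomputable def t214_224 (i : ℕ) : ℕ := (@Bool.rec (fun _ => ℕ) (@Bool.rec (fun _ => ℕ) (@Bool.rec (fun _ => ℕ) l214 l215 (Nat.ble (nat_lit 215) i)) (@Bool.rec (fun _ => ℕ) l216 (t217_219 i) (Nat.ble (nat_lit 217) i)) (Nat.ble (nat_lit 216) i)) (@Bool.rec (fun _ => ℕ) (@Bool.rec (fun _ => ℕ) l219 l220 (Nat.ble (nat_lit 220) i)) (@Bool.rec (fun _ => ℕ) l221 (t222_224 i) (Nat.ble (nat_lit 222) i)) (Nat.ble (nat_lit 221) i)) (Nat.ble (nat_lit 219) i))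
noncomputable def t149_224 (i : ℕ) : ℕ := (@Bool.rec (fun _ => ℕ) (@Bool.rec (fun _ => ℕ) (@Bool.rec (fun _ => ℕ) (t149_158 i) (t158_167 i) (Nat.ble (nat_lit 158) i)) (@Bool.rec (fun _ => ℕ) (t167_176 i) (t176_186 i) (Nat.ble (nat_lit 176) i)) (Nat.ble (nat_lit 167) i)) (@Bool.rec (fun _ => ℕ) (@Bool.rec (fun _ => ℕ) (t186_195 i) (t195_205 i) (Nat.ble (nat_lit 195) i)) (@Bool.rec (fun _ => ℕ) (t205_214 i) (t214_224 i) (Nat.ble (nat_lit 214) i)) (Nat.ble (nat_lit 205) i)) (Nat.ble (nat_lit 186) i))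
noncomputable def t231_233 (i : ℕ) : ℕ := (@Bool.rec (fun _ => ℕ) l231 l232 (Nat.ble (nat_lit 232) i))
noncomputable def t224_233 (i : ℕ) : ℕ := (@Bool.rec (fun _ => ℕ) (@Bool.rec (fun _ => ℕ) (@Bool.rec (fun _ => ℕ) l224 l225 (Nat.ble (nat_lit 225) i)) (@Bool.rec (fun _ => ℕ) l226 l227 (Nat.ble (nat_lit 227) i)) (Nat.ble (nat_lit 226) i)) (@Bool.rec (fun _ => ℕ) (@Bool.rec (fun _ => ℕ) l228 l229 (Nat.ble (nat_lit 229) i)) (@Bool.rec (fun _ => ℕ) l230 (t231_233 i) (Nat.ble (nat_lit 231) i)) (Nat.ble (nat_lit 230) i)) (Nat.ble (nat_lit 228) i))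
noncomputable def t240_242 (i : ℕ) : ℕ := (@Bool.rec (fun _ => ℕ) l240 l241 (Nat.ble (nat_lit 241) i))
noncomputable def t233_242 (i : ℕ) : ℕ := (@Bool.rec (fun _ => ℕ) (@Bool.rec (fun _ => ℕ) (@Bool.rec (fun _ => ℕ) l233 l234 (Nat.ble (nat_lit 234) i)) (@Bool.rec (fun _ => ℕ) l235 l236 (Nat.ble (nat_lit 236) i)) (Nat.ble (nat_lit 235) i)) (@Bool.rec (fun _ => ℕ) (@Bool.rec (fun _ => ℕ) l237 l238 (Nat.ble (nat_lit 238) i)) (@Bool.rec (fun _ => ℕ) l239 (t240_242 i) (Nat.ble (nat_lit 240) i)) (Nat.ble (nat_lit 239) i)) (Nat.ble (nat_lit 237) i))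
noncomputable def t249_251 (i : ℕ) : ℕ := (@Bool.rec (fun _ => ℕ) l249 l250 (Nat.ble (nat_lit 250) i))
noncomputable def t242_251 (i : ℕ) : ℕ := (@Bool.rec (fun _ => ℕ) (@Bool.rec (fun _ => ℕ) (@Bool.rec (fun _ => ℕ) l242 l243 (Nat.ble (nat_lit 243) i)) (@Bool.rec (fun _ => ℕ) l244 l245 (Nat.ble (nat_lit 245) i)) (Nat.ble (nat_lit 244) i)) (@Bool.rec (fun _ => ℕ) (@Bool.rec (fun _ => ℕ) l246 l247 (Nat.ble (nat_lit 247) i)) (@Bool.rec (fun _ => ℕ) l248 (t249_251 i) (Nat.ble (nat_lit 249) i)) (Nat.ble (nat_lit 248) i)) (Nat.ble (nat_lit 246) i))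
noncomputable def t254_256 (i : ℕ) : ℕ := (@Bool.rec (fun _ => ℕ) l254 l255 (Nat.ble (nat_lit 255) i))
noncomputable def t259_261 (i : ℕ) : ℕ := (@Bool.rec (fun _ => ℕ) l259 l260 (Nat.ble (nat_lit 260) i))
noncomputable def t251_261 (i : ℕ) : ℕ := (@Bool.rec (fun _ => ℕ) (@Bool.rec (fun _ => ℕ) (@Bool.rec (fun _ => ℕ) l251 l252 (Nat.ble (nat_lit 252) i)) (@Bool.rec (fun _ => ℕ) l253 (t254_256 i) (Nat.ble (nat_lit 254) i)) (Nat.ble (nat_lit 253) i)) (@Bool.rec (fun _ => ℕ) (@Bool.rec (fun _ => ℕ) l256 l257 (Nat.ble (nat_lit 257) i)) (@Bool.rec (fun _ => ℕ) l258 (t259_261 i) (Nat.ble (nat_lit 259) i)) (Nat.ble (nat_lit 258) i)) (Nat.ble (nat_lit 256) i))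
noncomputable def t268_270 (i : ℕ) : ℕ := (@Bool.rec (fun _ => ℕ) l268 l269 (Nat.ble (nat_lit 269) i))
noncomputable def t261_270 (i : ℕ) : ℕ := (@Bool.rec (fun _ => ℕ) (@Bool.rec (fun _ => ℕ) (@Bool.rec (fun _ => ℕ) l261 l262 (Nat.ble (nat_lit 262) i)) (@Bool.rec (fun _ => ℕ) l263 l264 (Nat.ble (nat_lit 264) i)) (Nat.ble (nat_lit 263) i)) (@Bool.rec (fun _ => ℕ) (@Bool.rec (fun _ => ℕ) l265 l266 (Nat.ble (nat_lit 266) i)) (@Bool.rec (fun _ => ℕ) l267 (t268_270 i) (Nat.ble (nat_lit 268) i)) (Nat.ble (nat_lit 267) i)) (Nat.ble (nat_lit 265) i))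
noncomputable def t273_275 (i : ℕ) : ℕ := (@Bool.rec (fun _ => ℕ) l273 l274 (Nat.ble (nat_lit 274) i))
noncomputable def t278_280 (i : ℕ) : ℕ := (@Bool.rec (fun _ => ℕ) l278 l279 (Nat.ble (nat_lit 279) i))
noncomputable def t270_280 (i : ℕ) : ℕ := (@Bool.rec (fun _ => ℕ) (@Bool.rec (fun _ => ℕ) (@Bool.rec (fun _ => ℕ) l270 l271 (Nat.ble (nat_lit 271) i)) (@Bool.rec (fun _ => ℕ) l272 (t273_275 i) (Nat.ble (nat_lit 273) i)) (Nat.ble (nat_lit 272) i)) (@Bool.rec (fun _ => ℕ) (@Bool.rec (fun _ => ℕ) l275 l276 (Nat.ble (nat_lit 276) i)) (@Bool.rec (fun _ => ℕ) l277 (t278_280 i) (Nat.ble (nat_lit 278) i)) (Nat.ble (nat_lit 277) i)) (Nat.ble (nat_lit 275) i))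
noncomputable def t287_289 (i : ℕ) : ℕ := (@Bool.rec (fun _ => ℕ) l287 l288 (Nat.ble (nat_lit 288) i))
noncomputable def t280_289 (i : ℕ) : ℕ := (@Bool.rec (fun _ => ℕ) (@Bool.rec (fun _ => ℕ) (@Bool.rec (fun _ => ℕ) l280 l281 (Nat.ble (nat_lit 281) i)) (@Bool.rec (fun _ => ℕ) l282 l283 (Nat.ble (nat_lit 283) i)) (Nat.ble (nat_lit 282) i)) (@Bool.rec (fun _ => ℕ) (@Bool.rec (fun _ => ℕ) l284 l285 (Nat.ble (nat_lit 285) i)) (@Bool.rec (fun _ => ℕ) l286 (t287_289 i) (Nat.ble (nat_lit 287) i)) (Nat.ble (nat_lit 286) i)) (Nat.ble (nat_lit 284) i))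
noncomputable def t292_294 (i : ℕ) : ℕ := (@Bool.rec (fun _ => ℕ) l292 l293 (Nat.ble (nat_lit 293) i))
noncomputable def t297_299 (i : ℕ) : ℕ := (@Bool.rec (fun _ => ℕ) l297 l298 (Nat.ble (nat_lit 298) i))
noncomputable def t289_299 (i : ℕ) : ℕ := (@Bool.rec (fun _ => ℕ) (@Bool.rec (fun _ => ℕ) (@Bool.rec (fun _ => ℕ) l289 l290 (Nat.ble (nat_lit 290) i)) (@Bool.rec (fun _ => ℕ) l291 (t292_294 i) (Nat.ble (nat_lit 292) i)) (Nat.ble (nat_lit 291) i)) (@Bool.rec (fun _ => ℕ) (@Bool.rec (fun _ => ℕ) l294 l295 (Nat.ble (nat_lit 295) i)) (@Bool.rec (fun _ => ℕ) l296 (t297_299 i) (Nat.ble (nat_lit 297) i)) (Nat.ble (nat_lit 296) i)) (Nat.ble (nat_lit 294) i))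
noncomputable def t224_299 (i : ℕ) : ℕ := (@Bool.rec (fun _ => ℕ) (@Bool.rec (fun _ => ℕ) (@Bool.rec (fun _ => ℕ) (t224_233 i) (t233_242 i) (Nat.ble (nat_lit 233) i)) (@Bool.rec (fun _ => ℕ) (t242_251 i) (t251_261 i) (Nat.ble (nat_lit 251) i)) (Nat.ble (nat_lit 242) i)) (@Bool.rec (fun _ => ℕ) (@Bool.rec (fun _ => ℕ) (t261_270 i) (t270_280 i) (Nat.ble (nat_lit 270) i)) (@Bool.rec (fun _ => ℕ) (t280_289 i) (t289_299 i) (Nat.ble (nat_lit 289) i)) (Nat.ble (nat_lit 280) i)) (Nat.ble (nat_lit 261) i))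
noncomputable def t306_308 (i : ℕ) : ℕ := (@Bool.rec (fun _ => ℕ) l306 l307 (Nat.ble (nat_lit 307) i))
noncomputable def t299_308 (i : ℕ) : ℕ := (@Bool.rec (fun _ => ℕ) (@Bool.rec (fun _ => ℕ) (@Bool.rec (fun _ => ℕ) l299 l300 (Nat.ble (nat_lit 300) i)) (@Bool.rec (fun _ => ℕ) l301 l302 (Nat.ble (nat_lit 302) i)) (Nat.ble (nat_lit 301) i)) (@Bool.rec (fun _ => ℕ) (@Bool.rec (fun _ => ℕ) l303 l304 (Nat.ble (nat_lit 304) i)) (@Bool.rec (fun _ => ℕ) l305 (t306_308 i) (Nat.ble (nat_lit 306) i)) (Nat.ble (nat_lit 305) i)) (Nat.ble (nat_lit 303) i))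
noncomputable def t315_317 (i : ℕ) : ℕ := (@Bool.rec (fun _ => ℕ) l315 l316 (Nat.ble (nat_lit 316) i))
noncomputable def t308_317 (i : ℕ) : ℕ := (@Bool.rec (fun _ => ℕ) (@Bool.rec (fun _ => ℕ) (@Bool.rec (fun _ => ℕ) l308 l309 (Nat.ble (nat_lit 309) i)) (@Bool.rec (fun _ => ℕ) l310 l311 (Nat.ble (nat_lit 311) i)) (Nat.ble (nat_lit 310) i)) (@Bool.rec (fun _ => ℕ) (@Bool.rec (fun _ => ℕ) l312 l313 (Nat.ble (nat_lit 313) i)) (@Bool.rec (fun _ => ℕ) l314 (t315_317 i) (Nat.ble (nat_lit 315) i)) (Nat.ble (nat_lit 314) i)) (Nat.ble (nat_lit 312) i))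
noncomputable def t324_326 (i : ℕ) : ℕ := (@Bool.rec (fun _ => ℕ) l324 l325 (Nat.ble (nat_lit 325) i))
noncomputable def t317_326 (i : ℕ) : ℕ := (@Bool.rec (fun _ => ℕ) (@Bool.rec (fun _ => ℕ) (@Bool.rec (fun _ => ℕ) l317 l318 (Nat.ble (nat_lit 318) i)) (@Bool.rec (fun _ => ℕ) l319 l320 (Nat.ble (nat_lit 320) i)) (Nat.ble (nat_lit 319) i)) (@Bool.rec (fun _ => ℕ) (@Bool.rec (fun _ => ℕ) l321 l322 (Nat.ble (nat_lit 322) i)) (@Bool.rec (fun _ => ℕ) l323 (t324_326 i) (Nat.ble (nat_lit 324) i)) (Nat.ble (nat_lit 323) i)) (Nat.ble (nat_lit 321) i))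
noncomputable def t329_331 (i : ℕ) : ℕ := (@Bool.rec (fun _ => ℕ) l329 l330 (Nat.ble (nat_lit 330) i))
noncomputable def t334_336 (i : ℕ) : ℕ := (@Bool.rec (fun _ => ℕ) l334 l335 (Nat.ble (nat_lit 335) i))
noncomputable def t326_336 (i : ℕ) : ℕ := (@Bool.rec (fun _ => ℕ) (@Bool.rec (fun _ => ℕ) (@Bool.rec (fun _ => ℕ) l326 l327 (Nat.ble (nat_lit 327) i)) (@Bool.rec (fun _ => ℕ) l328 (t329_331 i) (Nat.ble (nat_lit 329) i)) (Nat.ble (nat_lit 328) i)) (@Bool.rec (fun _ => ℕ) (@Bool.rec (fun _ => ℕ) l331 l332 (Nat.ble (nat_lit 332) i)) (@Bool.rec (fun _ => ℕ) l333 (t334_336 i) (Nat.ble (nat_lit 334) i)) (Nat.ble (nat_lit 333) i)) (Nat.ble (nat_lit 331) i))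
noncomputable def t343_345 (i : ℕ) : ℕ := (@Bool.rec (fun _ => ℕ) l343 l344 (Nat.ble (nat_lit 344) i))
noncomputable def t336_345 (i : ℕ) : ℕ := (@Bool.rec (fun _ => ℕ) (@Bool.rec (fun _ => ℕ) (@Bool.rec (fun _ => ℕ) l336 l337 (Nat.ble (nat_lit 337) i)) (@Bool.rec (fun _ => ℕ) l338 l339 (Nat.ble (nat_lit 339) i)) (Nat.ble (nat_lit 338) i)) (@Bool.rec (fun _ => ℕ) (@Bool.rec (fun _ => ℕ) l340 l341 (Nat.ble (nat_lit 341) i)) (@Bool.rec (fun _ => ℕ) l342 (t343_345 i) (Nat.ble (nat_lit 343) i)) (Nat.ble (nat_lit 342) i)) (Nat.ble (nat_lit 340) i))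
noncomputable def t348_350 (i : ℕ) : ℕ := (@Bool.rec (fun _ => ℕ) l348 l349 (Nat.ble (nat_lit 349) i))
noncomputable def t353_355 (i : ℕ) : ℕ := (@Bool.rec (fun _ => ℕ) l353 l354 (Nat.ble (nat_lit 354) i))
noncomputable def t345_355 (i : ℕ) : ℕ := (@Bool.rec (fun _ => ℕ) (@Bool.rec (fun _ => ℕ) (@Bool.rec (fun _ => ℕ) l345 l346 (Nat.ble (nat_lit 346) i)) (@Bool.rec (fun _ => ℕ) l347 (t348_350 i) (Nat.ble (nat_lit 348) i)) (Nat.ble (nat_lit 347) i)) (@Bool.rec (fun _ => ℕ) (@Bool.rec (fun _ => ℕ) l350 l351 (Nat.ble (nat_lit 351) i)) (@Bool.rec (fun _ => ℕ) l352 (t353_355 i) (Nat.ble (nat_lit 353) i)) (Nat.ble (nat_lit 352) i)) (Nat.ble (nat_lit 350) i))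
noncomputable def t362_364 (i : ℕ) : ℕ := (@Bool.rec (fun _ => ℕ) l362 l363 (Nat.ble (nat_lit 363) i))
noncomputable def t355_364 (i : ℕ) : ℕ := (@Bool.rec (fun _ => ℕ) (@Bool.rec (fun _ => ℕ) (@Bool.rec (fun _ => ℕ) l355 l356 (Nat.ble (nat_lit 356) i)) (@Bool.rec (fun _ => ℕ) l357 l358 (Nat.ble (nat_lit 358) i)) (Nat.ble (nat_lit 357) i)) (@Bool.rec (fun _ => ℕ) (@Bool.rec (fun _ => ℕ) l359 l360 (Nat.ble (nat_lit 360) i)) (@Bool.rec (fun _ => ℕ) l361 (t362_364 i) (Nat.ble (nat_lit 362) i)) (Nat.ble (nat_lit 361) i)) (Nat.ble (nat_lit 359) i))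
noncomputable def t367_369 (i : ℕ) : ℕ := (@Bool.rec (fun _ => ℕ) l367 l368 (Nat.ble (nat_lit 368) i))
noncomputable def t372_374 (i : ℕ) : ℕ := (@Bool.rec (fun _ => ℕ) l372 l373 (Nat.ble (nat_lit 373) i))
noncomputable def t364_374 (i : ℕ) : ℕ := (@Bool.rec (fun _ => ℕ) (@Bool.rec (fun _ => ℕ) (@Bool.rec (fun _ => ℕ) l364 l365 (Nat.ble (nat_lit 365) i)) (@Bool.rec (fun _ => ℕ) l366 (t367_369 i) (Nat.ble (nat_lit 367) i)) (Nat.ble (nat_lit 366) i)) (@Bool.rec (fun _ => ℕ) (@Bool.rec (fun _ => ℕ) l369 l370 (Nat.ble (nat_lit 370) i)) (@Bool.rec (fun _ => ℕ) l371 (t372_374 i) (Nat.ble (nat_lit 372) i)) (Nat.ble (nat_lit 371) i)) (Nat.ble (nat_lit 369) i))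
noncomputable def t299_374 (i : ℕ) : ℕ := (@Bool.rec (fun _ => ℕ) (@Bool.rec (fun _ => ℕ) (@Bool.rec (fun _ => ℕ) (t299_308 i) (t308_317 i) (Nat.ble (nat_lit 308) i)) (@Bool.rec (fun _ => ℕ) (t317_326 i) (t326_336 i) (Nat.ble (nat_lit 326) i)) (Nat.ble (nat_lit 317) i)) (@Bool.rec (fun _ => ℕ) (@Bool.rec (fun _ => ℕ) (t336_345 i) (t345_355 i) (Nat.ble (nat_lit 345) i)) (@Bool.rec (fun _ => ℕ) (t355_364 i) (t364_374 i) (Nat.ble (nat_lit 364) i)) (Nat.ble (nat_lit 355) i)) (Nat.ble (nat_lit 336) i))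
noncomputable def t381_383 (i : ℕ) : ℕ := (@Bool.rec (fun _ => ℕ) l381 l382 (Nat.ble (nat_lit 382) i))
noncomputable def t374_383 (i : ℕ) : ℕ := (@Bool.rec (fun _ => ℕ) (@Bool.rec (fun _ => ℕ) (@Bool.rec (fun _ => ℕ) l374 l375 (Nat.ble (nat_lit 375) i)) (@Bool.rec (fun _ => ℕ) l376 l377 (Nat.ble (nat_lit 377) i)) (Nat.ble (nat_lit 376) i)) (@Bool.rec (fun _ => ℕ) (@Bool.rec (fun _ => ℕ) l378 l379 (Nat.ble (nat_lit 379) i)) (@Bool.rec (fun _ => ℕ) l380 (t381_383 i) (Nat.ble (nat_lit 381) i)) (Nat.ble (nat_lit 380) i)) (Nat.ble (nat_lit 378) i))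
noncomputable def t390_392 (i : ℕ) : ℕ := (@Bool.rec (fun _ => ℕ) l390 l391 (Nat.ble (nat_lit 391) i))
noncomputable def t383_392 (i : ℕ) : ℕ := (@Bool.rec (fun _ => ℕ) (@Bool.rec (fun _ => ℕ) (@Bool.rec (fun _ => ℕ) l383 l384 (Nat.ble (nat_lit 384) i)) (@Bool.rec (fun _ => ℕ) l385 l386 (Nat.ble (nat_lit 386) i)) (Nat.ble (nat_lit 385) i)) (@Bool.rec (fun _ => ℕ) (@Bool.rec (fun _ => ℕ) l387 l388 (Nat.ble (nat_lit 388) i)) (@Bool.rec (fun _ => ℕ) l389 (t390_392 i) (Nat.ble (nat_lit 390) i)) (Nat.ble (nat_lit 389) i)) (Nat.ble (nat_lit 387) i))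
noncomputable def t399_401 (i : ℕ) : ℕ := (@Bool.rec (fun _ => ℕ) l399 l400 (Nat.ble (nat_lit 400) i))
noncomputable def t392_401 (i : ℕ) : ℕ := (@Bool.rec (fun _ => ℕ) (@Bool.rec (fun _ => ℕ) (@Bool.rec (fun _ => ℕ) l392 l393 (Nat.ble (nat_lit 393) i)) (@Bool.rec (fun _ => ℕ) l394 l395 (Nat.ble (nat_lit 395) i)) (Nat.ble (nat_lit 394) i)) (@Bool.rec (fun _ => ℕ) (@Bool.rec (fun _ => ℕ) l396 l397 (Nat.ble (nat_lit 397) i)) (@Bool.rec (fun _ => ℕ) l398 (t399_401 i) (Nat.ble (nat_lit 399) i)) (Nat.ble (nat_lit 398) i)) (Nat.ble (nat_lit 396) i))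
noncomputable def t404_406 (i : ℕ) : ℕ := (@Bool.rec (fun _ => ℕ) l404 l405 (Nat.ble (nat_lit 405) i))
noncomputable def t409_411 (i : ℕ) : ℕ := (@Bool.rec (fun _ => ℕ) l409 l410 (Nat.ble (nat_lit 410) i))
noncomputable def t401_411 (i : ℕ) : ℕ := (@Bool.rec (fun _ => ℕ) (@Bool.rec (fun _ => ℕ) (@Bool.rec (fun _ => ℕ) l401 l402 (Nat.ble (nat_lit 402) i)) (@Bool.rec (fun _ => ℕ) l403 (t404_406 i) (Nat.ble (nat_lit 404) i)) (Nat.ble (nat_lit 403) i)) (@Bool.rec (fun _ => ℕ) (@Bool.rec (fun _ => ℕ) l406 l407 (Nat.ble (nat_lit 407) i)) (@Bool.rec (fun _ => ℕ) l408 (t409_411 i) (Nat.ble (nat_lit 409) i)) (Nat.ble (nat_lit 408) i)) (Nat.ble (nat_lit 406) i))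
noncomputable def t418_420 (i : ℕ) : ℕ := (@Bool.rec (fun _ => ℕ) l418 l419 (Nat.ble (nat_lit 419) i))
noncomputable def t411_420 (i : ℕ) : ℕ := (@Bool.rec (fun _ => ℕ) (@Bool.rec (fun _ => ℕ) (@Bool.rec (fun _ => ℕ) l411 l412 (Nat.ble (nat_lit 412) i)) (@Bool.rec (fun _ => ℕ) l413 l414 (Nat.ble (nat_lit 414) i)) (Nat.ble (nat_lit 413) i)) (@Bool.rec (fun _ => ℕ) (@Bool.rec (fun _ => ℕ) l415 l416 (Nat.ble (nat_lit 416) i)) (@Bool.rec (fun _ => ℕ) l417 (t418_420 i) (Nat.ble (nat_lit 418) i)) (Nat.ble (nat_lit 417) i)) (Nat.ble (nat_lit 415) i))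
noncomputable def t423_425 (i : ℕ) : ℕ := (@Bool.rec (fun _ => ℕ) l423 l424 (Nat.ble (nat_lit 424) i))
noncomputable def t428_430 (i : ℕ) : ℕ := (@Bool.rec (fun _ => ℕ) l428 l429 (Nat.ble (nat_lit 429) i))
noncomputable def t420_430 (i : ℕ) : ℕ := (@Bool.rec (fun _ => ℕ) (@Bool.rec (fun _ => ℕ) (@Bool.rec (fun _ => ℕ) l420 l421 (Nat.ble (nat_lit 421) i)) (@Bool.rec (fun _ => ℕ) l422 (t423_425 i) (Nat.ble (nat_lit 423) i)) (Nat.ble (nat_lit 422) i)) (@Bool.rec (fun _ => ℕ) (@Bool.rec (fun _ => ℕ) l425 l426 (Nat.ble (nat_lit 426) i)) (@Bool.rec (fun _ => ℕ) l427 (t428_430 i) (Nat.ble (nat_lit 428) i)) (Nat.ble (nat_lit 427) i)) (Nat.ble (nat_lit 425) i))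
noncomputable def t437_439 (i : ℕ) : ℕ := (@Bool.rec (fun _ => ℕ) l437 l438 (Nat.ble (nat_lit 438) i))
noncomputable def t430_439 (i : ℕ) : ℕ := (@Bool.rec (fun _ => ℕ) (@Bool.rec (fun _ => ℕ) (@Bool.rec (fun _ => ℕ) l430 l431 (Nat.ble (nat_lit 431) i)) (@Bool.rec (fun _ => ℕ) l432 l433 (Nat.ble (nat_lit 433) i)) (Nat.ble (nat_lit 432) i)) (@Bool.rec (fun _ => ℕ) (@Bool.rec (fun _ => ℕ) l434 l435 (Nat.ble (nat_lit 435) i)) (@Bool.rec (fun _ => ℕ) l436 (t437_439 i) (Nat.ble (nat_lit 437) i)) (Nat.ble (nat_lit 436) i)) (Nat.ble (nat_lit 434) i))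
noncomputable def t442_444 (i : ℕ) : ℕ := (@Bool.rec (fun _ => ℕ) l442 l443 (Nat.ble (nat_lit 443) i))
noncomputable def t447_449 (i : ℕ) : ℕ := (@Bool.rec (fun _ => ℕ) l447 l448 (Nat.ble (nat_lit 448) i))
noncomputable def t439_449 (i : ℕ) : ℕ := (@Bool.rec (fun _ => ℕ) (@Bool.rec (fun _ => ℕ) (@Bool.rec (fun _ => ℕ) l439 l440 (Nat.ble (nat_lit 440) i)) (@Bool.rec (fun _ => ℕ) l441 (t442_444 i) (Nat.ble (nat_lit 442) i)) (Nat.ble (nat_lit 441) i)) (@Bool.rec (fun _ => ℕ) (@Bool.rec (fun _ => ℕ) l444 l445 (Nat.ble (nat_lit 445) i)) (@Bool.rec (fun _ => ℕ) l446 (t447_449 i) (Nat.ble (nat_lit 447) i)) (Nat.ble (nat_lit 446) i)) (Nat.ble (nat_lit 444) i))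
noncomputable def t374_449 (i : ℕ) : ℕ := (@Bool.rec (fun _ => ℕ) (@Bool.rec (fun _ => ℕ) (@Bool.rec (fun _ => ℕ) (t374_383 i) (t383_392 i) (Nat.ble (nat_lit 383) i)) (@Bool.rec (fun _ => ℕ) (t392_401 i) (t401_411 i) (Nat.ble (nat_lit 401) i)) (Nat.ble (nat_lit 392) i)) (@Bool.rec (fun _ => ℕ) (@Bool.rec (fun _ => ℕ) (t411_420 i) (t420_430 i) (Nat.ble (nat_lit 420) i)) (@Bool.rec (fun _ => ℕ) (t430_439 i) (t439_449 i) (Nat.ble (nat_lit 439) i)) (Nat.ble (nat_lit 430) i)) (Nat.ble (nat_lit 411) i))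
noncomputable def t456_458 (i : ℕ) : ℕ := (@Bool.rec (fun _ => ℕ) l456 l457 (Nat.ble (nat_lit 457) i))
noncomputable def t449_458 (i : ℕ) : ℕ := (@Bool.rec (fun _ => ℕ) (@Bool.rec (fun _ => ℕ) (@Bool.rec (fun _ => ℕ) l449 l450 (Nat.ble (nat_lit 450) i)) (@Bool.rec (fun _ => ℕ) l451 l452 (Nat.ble (nat_lit 452) i)) (Nat.ble (nat_lit 451) i)) (@Bool.rec (fun _ => ℕ) (@Bool.rec (fun _ => ℕ) l453 l454 (Nat.ble (nat_lit 454) i)) (@Bool.rec (fun _ => ℕ) l455 (t456_458 i) (Nat.ble (nat_lit 456) i)) (Nat.ble (nat_lit 455) i)) (Nat.ble (nat_lit 453) i))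
noncomputable def t465_467 (i : ℕ) : ℕ := (@Bool.rec (fun _ => ℕ) l465 l466 (Nat.ble (nat_lit 466) i))
noncomputable def t458_467 (i : ℕ) : ℕ := (@Bool.rec (fun _ => ℕ) (@Bool.rec (fun _ => ℕ) (@Bool.rec (fun _ => ℕ) l458 l459 (Nat.ble (nat_lit 459) i)) (@Bool.rec (fun _ => ℕ) l460 l461 (Nat.ble (nat_lit 461) i)) (Nat.ble (nat_lit 460) i)) (@Bool.rec (fun _ => ℕ) (@Bool.rec (fun _ => ℕ) l462 l463 (Nat.ble (nat_lit 463) i)) (@Bool.rec (fun _ => ℕ) l464 (t465_467 i) (Nat.ble (nat_lit 465) i)) (Nat.ble (nat_lit 464) i)) (Nat.ble (nat_lit 462) i))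
noncomputable def t474_476 (i : ℕ) : ℕ := (@Bool.rec (fun _ => ℕ) l474 l475 (Nat.ble (nat_lit 475) i))
noncomputable def t467_476 (i : ℕ) : ℕ := (@Bool.rec (fun _ => ℕ) (@Bool.rec (fun _ => ℕ) (@Bool.rec (fun _ => ℕ) l467 l468 (Nat.ble (nat_lit 468) i)) (@Bool.rec (fun _ => ℕ) l469 l470 (Nat.ble (nat_lit 470) i)) (Nat.ble (nat_lit 469) i)) (@Bool.rec (fun _ => ℕ) (@Bool.rec (fun _ => ℕ) l471 l472 (Nat.ble (nat_lit 472) i)) (@Bool.rec (fun _ => ℕ) l473 (t474_476 i) (Nat.ble (nat_lit 474) i)) (Nat.ble (nat_lit 473) i)) (Nat.ble (nat_lit 471) i))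
noncomputable def t479_481 (i : ℕ) : ℕ := (@Bool.rec (fun _ => ℕ) l479 l480 (Nat.ble (nat_lit 480) i))
noncomputable def t484_486 (i : ℕ) : ℕ := (@Bool.rec (fun _ => ℕ) l484 l485 (Nat.ble (nat_lit 485) i))
noncomputable def t476_486 (i : ℕ) : ℕ := (@Bool.rec (fun _ => ℕ) (@Bool.rec (fun _ => ℕ) (@Bool.rec (fun _ => ℕ) l476 l477 (Nat.ble (nat_lit 477) i)) (@Bool.rec (fun _ => ℕ) l478 (t479_481 i) (Nat.ble (nat_lit 479) i)) (Nat.ble (nat_lit 478) i)) (@Bool.rec (fun _ => ℕ) (@Bool.rec (fun _ => ℕ) l481 l482 (Nat.ble (nat_lit 482) i)) (@Bool.rec (fun _ => ℕ) l483 (t484_486 i) (Nat.ble (nat_lit 484) i)) (Nat.ble (nat_lit 483) i)) (Nat.ble (nat_lit 481) i))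
noncomputable def t493_495 (i : ℕ) : ℕ := (@Bool.rec (fun _ => ℕ) l493 l494 (Nat.ble (nat_lit 494) i))
noncomputable def t486_495 (i : ℕ) : ℕ := (@Bool.rec (fun _ => ℕ) (@Bool.rec (fun _ => ℕ) (@Bool.rec (fun _ => ℕ) l486 l487 (Nat.ble (nat_lit 487) i)) (@Bool.rec (fun _ => ℕ) l488 l489 (Nat.ble (nat_lit 489) i)) (Nat.ble (nat_lit 488) i)) (@Bool.rec (fun _ => ℕ) (@Bool.rec (fun _ => ℕ) l490 l491 (Nat.ble (nat_lit 491) i)) (@Bool.rec (fun _ => ℕ) l492 (t493_495 i) (Nat.ble (nat_lit 493) i)) (Nat.ble (nat_lit 492) i)) (Nat.ble (nat_lit 490) i))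
noncomputable def t498_500 (i : ℕ) : ℕ := (@Bool.rec (fun _ => ℕ) l498 l499 (Nat.ble (nat_lit 499) i))
noncomputable def t503_505 (i : ℕ) : ℕ := (@Bool.rec (fun _ => ℕ) l503 l504 (Nat.ble (nat_lit 504) i))
noncomputable def t495_505 (i : ℕ) : ℕ := (@Bool.rec (fun _ => ℕ) (@Bool.rec (fun _ => ℕ) (@Bool.rec (fun _ => ℕ) l495 l496 (Nat.ble (nat_lit 496) i)) (@Bool.rec (fun _ => ℕ) l497 (t498_500 i) (Nat.ble (nat_lit 498) i)) (Nat.ble (nat_lit 497) i)) (@Bool.rec (fun _ => ℕ) (@Bool.rec (fun _ => ℕ) l500 l501 (Nat.ble (nat_lit 501) i)) (@Bool.rec (fun _ => ℕ) l502 (t503_505 i) (Nat.ble (nat_lit 503) i)) (Nat.ble (nat_lit 502) i)) (Nat.ble (nat_lit 500) i))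
noncomputable def t512_514 (i : ℕ) : ℕ := (@Bool.rec (fun _ => ℕ) l512 l513 (Nat.ble (nat_lit 513) i))
noncomputable def t505_514 (i : ℕ) : ℕ := (@Bool.rec (fun _ => ℕ) (@Bool.rec (fun _ => ℕ) (@Bool.rec (fun _ => ℕ) l505 l506 (Nat.ble (nat_lit 506) i)) (@Bool.rec (fun _ => ℕ) l507 l508 (Nat.ble (nat_lit 508) i)) (Nat.ble (nat_lit 507) i)) (@Bool.rec (fun _ => ℕ) (@Bool.rec (fun _ => ℕ) l509 l510 (Nat.ble (nat_lit 510) i)) (@Bool.rec (fun _ => ℕ) l511 (t512_514 i) (Nat.ble (nat_lit 512) i)) (Nat.ble (nat_lit 511) i)) (Nat.ble (nat_lit 509) i))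
noncomputable def t517_519 (i : ℕ) : ℕ := (@Bool.rec (fun _ => ℕ) l517 l518 (Nat.ble (nat_lit 518) i))
noncomputable def t522_524 (i : ℕ) : ℕ := (@Bool.rec (fun _ => ℕ) l522 l523 (Nat.ble (nat_lit 523) i))
noncomputable def t514_524 (i : ℕ) : ℕ := (@Bool.rec (fun _ => ℕ) (@Bool.rec (fun _ => ℕ) (@Bool.rec (fun _ => ℕ) l514 l515 (Nat.ble (nat_lit 515) i)) (@Bool.rec (fun _ => ℕ) l516 (t517_519 i) (Nat.ble (nat_lit 517) i)) (Nat.ble (nat_lit 516) i)) (@Bool.rec (fun _ => ℕ) (@Bool.rec (fun _ => ℕ) l519 l520 (Nat.ble (nat_lit 520) i)) (@Bool.rec (fun _ => ℕ) l521 (t522_524 i) (Nat.ble (nat_lit 522) i)) (Nat.ble (nat_lit 521) i)) (Nat.ble (nat_lit 519) i))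
noncomputable def t449_524 (i : ℕ) : ℕ := (@Bool.rec (fun _ => ℕ) (@Bool.rec (fun _ => ℕ) (@Bool.rec (fun _ => ℕ) (t449_458 i) (t458_467 i) (Nat.ble (nat_lit 458) i)) (@Bool.rec (fun _ => ℕ) (t467_476 i) (t476_486 i) (Nat.ble (nat_lit 476) i)) (Nat.ble (nat_lit 467) i)) (@Bool.rec (fun _ => ℕ) (@Bool.rec (fun _ => ℕ) (t486_495 i) (t495_505 i) (Nat.ble (nat_lit 495) i)) (@Bool.rec (fun _ => ℕ) (t505_514 i) (t514_524 i) (Nat.ble (nat_lit 514) i)) (Nat.ble (nat_lit 505) i)) (Nat.ble (nat_lit 486) i))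
noncomputable def t531_533 (i : ℕ) : ℕ := (@Bool.rec (fun _ => ℕ) l531 l532 (Nat.ble (nat_lit 532) i))
noncomputable def t524_533 (i : ℕ) : ℕ := (@Bool.rec (fun _ => ℕ) (@Bool.rec (fun _ => ℕ) (@Bool.rec (fun _ => ℕ) l524 l525 (Nat.ble (nat_lit 525) i)) (@Bool.rec (fun _ => ℕ) l526 l527 (Nat.ble (nat_lit 527) i)) (Nat.ble (nat_lit 526) i)) (@Bool.rec (fun _ => ℕ) (@Bool.rec (fun _ => ℕ) l528 l529 (Nat.ble (nat_lit 529) i)) (@Bool.rec (fun _ => ℕ) l530 (t531_533 i) (Nat.ble (nat_lit 531) i)) (Nat.ble (nat_lit 530) i)) (Nat.ble (nat_lit 528) i))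
noncomputable def t540_542 (i : ℕ) : ℕ := (@Bool.rec (fun _ => ℕ) l540 l541 (Nat.ble (nat_lit 541) i))
noncomputable def t533_542 (i : ℕ) : ℕ := (@Bool.rec (fun _ => ℕ) (@Bool.rec (fun _ => ℕ) (@Bool.rec (fun _ => ℕ) l533 l534 (Nat.ble (nat_lit 534) i)) (@Bool.rec (fun _ => ℕ) l535 l536 (Nat.ble (nat_lit 536) i)) (Nat.ble (nat_lit 535) i)) (@Bool.rec (fun _ => ℕ) (@Bool.rec (fun _ => ℕ) l537 l538 (Nat.ble (nat_lit 538) i)) (@Bool.rec (fun _ => ℕ) l539 (t540_542 i) (Nat.ble (nat_lit 540) i)) (Nat.ble (nat_lit 539) i)) (Nat.ble (nat_lit 537) i))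
noncomputable def t549_551 (i : ℕ) : ℕ := (@Bool.rec (fun _ => ℕ) l549 l550 (Nat.ble (nat_lit 550) i))
noncomputable def t542_551 (i : ℕ) : ℕ := (@Bool.rec (fun _ => ℕ) (@Bool.rec (fun _ => ℕ) (@Bool.rec (fun _ => ℕ) l542 l543 (Nat.ble (nat_lit 543) i)) (@Bool.rec (fun _ => ℕ) l544 l545 (Nat.ble (nat_lit 545) i)) (Nat.ble (nat_lit 544) i)) (@Bool.rec (fun _ => ℕ) (@Bool.rec (fun _ => ℕ) l546 l547 (Nat.ble (nat_lit 547) i)) (@Bool.rec (fun _ => ℕ) l548 (t549_551 i) (Nat.ble (nat_lit 549) i)) (Nat.ble (nat_lit 548) i)) (Nat.ble (nat_lit 546) i))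
noncomputable def t554_556 (i : ℕ) : ℕ := (@Bool.rec (fun _ => ℕ) l554 l555 (Nat.ble (nat_lit 555) i))
noncomputable def t559_561 (i : ℕ) : ℕ := (@Bool.rec (fun _ => ℕ) l559 l560 (Nat.ble (nat_lit 560) i))
noncomputable def t551_561 (i : ℕ) : ℕ := (@Bool.rec (fun _ => ℕ) (@Bool.rec (fun _ => ℕ) (@Bool.rec (fun _ => ℕ) l551 l552 (Nat.ble (nat_lit 552) i)) (@Bool.rec (fun _ => ℕ) l553 (t554_556 i) (Nat.ble (nat_lit 554) i)) (Nat.ble (nat_lit 553) i)) (@Bool.rec (fun _ => ℕ) (@Bool.rec (fun _ => ℕ) l556 l557 (Nat.ble (nat_lit 557) i)) (@Bool.rec (fun _ => ℕ) l558 (t559_561 i) (Nat.ble (nat_lit 559) i)) (Nat.ble (nat_lit 558) i)) (Nat.ble (nat_lit 556) i))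
noncomputable def t568_570 (i : ℕ) : ℕ := (@Bool.rec (fun _ => ℕ) l568 l569 (Nat.ble (nat_lit 569) i))
noncomputable def t561_570 (i : ℕ) : ℕ := (@Bool.rec (fun _ => ℕ) (@Bool.rec (fun _ => ℕ) (@Bool.rec (fun _ => ℕ) l561 l562 (Nat.ble (nat_lit 562) i)) (@Bool.rec (fun _ => ℕ) l563 l564 (Nat.ble (nat_lit 564) i)) (Nat.ble (nat_lit 563) i)) (@Bool.rec (fun _ => ℕ) (@Bool.rec (fun _ => ℕ) l565 l566 (Nat.ble (nat_lit 566) i)) (@Bool.rec (fun _ => ℕ) l567 (t568_570 i) (Nat.ble (nat_lit 568) i)) (Nat.ble (nat_lit 567) i)) (Nat.ble (nat_lit 565) i))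
noncomputable def t573_575 (i : ℕ) : ℕ := (@Bool.rec (fun _ => ℕ) l573 l574 (Nat.ble (nat_lit 574) i))
noncomputable def t578_580 (i : ℕ) : ℕ := (@Bool.rec (fun _ => ℕ) l578 l579 (Nat.ble (nat_lit 579) i))
noncomputable def t570_580 (i : ℕ) : ℕ := (@Bool.rec (fun _ => ℕ) (@Bool.rec (fun _ => ℕ) (@Bool.rec (fun _ => ℕ) l570 l571 (Nat.ble (nat_lit 571) i)) (@Bool.rec (fun _ => ℕ) l572 (t573_575 i) (Nat.ble (nat_lit 573) i)) (Nat.ble (nat_lit 572) i)) (@Bool.rec (fun _ => ℕ) (@Bool.rec (fun _ => ℕ) l575 l576 (Nat.ble (nat_lit 576) i)) (@Bool.rec (fun _ => ℕ) l577 (t578_580 i) (Nat.ble (nat_lit 578) i)) (Nat.ble (nat_lit 577) i)) (Nat.ble (nat_lit 575) i))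
noncomputable def t587_589 (i : ℕ) : ℕ := (@Bool.rec (fun _ => ℕ) l587 l588 (Nat.ble (nat_lit 588) i))
noncomputable def t580_589 (i : ℕ) : ℕ := (@Bool.rec (fun _ => ℕ) (@Bool.rec (fun _ => ℕ) (@Bool.rec (fun _ => ℕ) l580 l581 (Nat.ble (nat_lit 581) i)) (@Bool.rec (fun _ => ℕ) l582 l583 (Nat.ble (nat_lit 583) i)) (Nat.ble (nat_lit 582) i)) (@Bool.rec (fun _ => ℕ) (@Bool.rec (fun _ => ℕ) l584 l585 (Nat.ble (nat_lit 585) i)) (@Bool.rec (fun _ => ℕ) l586 (t587_589 i) (Nat.ble (nat_lit 587) i)) (Nat.ble (nat_lit 586) i)) (Nat.ble (nat_lit 584) i))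
noncomputable def t592_594 (i : ℕ) : ℕ := (@Bool.rec (fun _ => ℕ) l592 l593 (Nat.ble (nat_lit 593) i))
noncomputable def t597_599 (i : ℕ) : ℕ := (@Bool.rec (fun _ => ℕ) l597 l598 (Nat.ble (nat_lit 598) i))
noncomputable def t589_599 (i : ℕ) : ℕ := (@Bool.rec (fun _ => ℕ) (@Bool.rec (fun _ => ℕ) (@Bool.rec (fun _ => ℕ) l589 l590 (Nat.ble (nat_lit 590) i)) (@Bool.rec (fun _ => ℕ) l591 (t592_594 i) (Nat.ble (nat_lit 592) i)) (Nat.ble (nat_lit 591) i)) (@Bool.rec (fun _ => ℕ) (@Bool.rec (fun _ => ℕ) l594 l595 (Nat.ble (nat_lit 595) i)) (@Bool.rec (fun _ => ℕ) l596 (t597_599 i) (Nat.ble (nat_lit 597) i)) (Nat.ble (nat_lit 596) i)) (Nat.ble (nat_lit 594) i))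
noncomputable def t524_599 (i : ℕ) : ℕ := (@Bool.rec (fun _ => ℕ) (@Bool.rec (fun _ => ℕ) (@Bool.rec (fun _ => ℕ) (t524_533 i) (t533_542 i) (Nat.ble (nat_lit 533) i)) (@Bool.rec (fun _ => ℕ) (t542_551 i) (t551_561 i) (Nat.ble (nat_lit 551) i)) (Nat.ble (nat_lit 542) i)) (@Bool.rec (fun _ => ℕ) (@Bool.rec (fun _ => ℕ) (t561_570 i) (t570_580 i) (Nat.ble (nat_lit 570) i)) (@Bool.rec (fun _ => ℕ) (t580_589 i) (t589_599 i) (Nat.ble (nat_lit 589) i)) (Nat.ble (nat_lit 580) i)) (Nat.ble (nat_lit 561) i))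
noncomputable def t0_599 (i : ℕ) : ℕ := (@Bool.rec (fun _ => ℕ) (@Bool.rec (fun _ => ℕ) (@Bool.rec (fun _ => ℕ) (t0_74 i) (t74_149 i) (Nat.ble (nat_lit 74) i)) (@Bool.rec (fun _ => ℕ) (t149_224 i) (t224_299 i) (Nat.ble (nat_lit 224) i)) (Nat.ble (nat_lit 149) i)) (@Bool.rec (fun _ => ℕ) (@Bool.rec (fun _ => ℕ) (t299_374 i) (t374_449 i) (Nat.ble (nat_lit 374) i)) (@Bool.rec (fun _ => ℕ) (t449_524 i) (t524_599 i) (Nat.ble (nat_lit 524) i)) (Nat.ble (nat_lit 449) i)) (Nat.ble (nat_lit 299) i))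
noncomputable def t606_608 (i : ℕ) : ℕ := (@Bool.rec (fun _ => ℕ) l606 l607 (Nat.ble (nat_lit 607) i))
noncomputable def t599_608 (i : ℕ) : ℕ := (@Bool.rec (fun _ => ℕ) (@Bool.rec (fun _ => ℕ) (@Bool.rec (fun _ => ℕ) l599 l600 (Nat.ble (nat_lit 600) i)) (@Bool.rec (fun _ => ℕ) l601 l602 (Nat.ble (nat_lit 602) i)) (Nat.ble (nat_lit 601) i)) (@Bool.rec (fun _ => ℕ) (@Bool.rec (fun _ => ℕ) l603 l604 (Nat.ble (nat_lit 604) i)) (@Bool.rec (fun _ => ℕ) l605 (t606_608 i) (Nat.ble (nat_lit 606) i)) (Nat.ble (nat_lit 605) i)) (Nat.ble (nat_lit 603) i))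
noncomputable def t615_617 (i : ℕ) : ℕ := (@Bool.rec (fun _ => ℕ) l615 l616 (Nat.ble (nat_lit 616) i))
noncomputable def t608_617 (i : ℕ) : ℕ := (@Bool.rec (fun _ => ℕ) (@Bool.rec (fun _ => ℕ) (@Bool.rec (fun _ => ℕ) l608 l609 (Nat.ble (nat_lit 609) i)) (@Bool.rec (fun _ => ℕ) l610 l611 (Nat.ble (nat_lit 611) i)) (Nat.ble (nat_lit 610) i)) (@Bool.rec (fun _ => ℕ) (@Bool.rec (fun _ => ℕ) l612 l613 (Nat.ble (nat_lit 613) i)) (@Bool.rec (fun _ => ℕ) l614 (t615_617 i) (Nat.ble (nat_lit 615) i)) (Nat.ble (nat_lit 614) i)) (Nat.ble (nat_lit 612) i))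
noncomputable def t624_626 (i : ℕ) : ℕ := (@Bool.rec (fun _ => ℕ) l624 l625 (Nat.ble (nat_lit 625) i))
noncomputable def t617_626 (i : ℕ) : ℕ := (@Bool.rec (fun _ => ℕ) (@Bool.rec (fun _ => ℕ) (@Bool.rec (fun _ => ℕ) l617 l618 (Nat.ble (nat_lit 618) i)) (@Bool.rec (fun _ => ℕ) l619 l620 (Nat.ble (nat_lit 620) i)) (Nat.ble (nat_lit 619) i)) (@Bool.rec (fun _ => ℕ) (@Bool.rec (fun _ => ℕ) l621 l622 (Nat.ble (nat_lit 622) i)) (@Bool.rec (fun _ => ℕ) l623 (t624_626 i) (Nat.ble (nat_lit 624) i)) (Nat.ble (nat_lit 623) i)) (Nat.ble (nat_lit 621) i))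
noncomputable def t629_631 (i : ℕ) : ℕ := (@Bool.rec (fun _ => ℕ) l629 l630 (Nat.ble (nat_lit 630) i))
noncomputable def t634_636 (i : ℕ) : ℕ := (@Bool.rec (fun _ => ℕ) l634 l635 (Nat.ble (nat_lit 635) i))
noncomputable def t626_636 (i : ℕ) : ℕ := (@Bool.rec (fun _ => ℕ) (@Bool.rec (fun _ => ℕ) (@Bool.rec (fun _ => ℕ) l626 l627 (Nat.ble (nat_lit 627) i)) (@Bool.rec (fun _ => ℕ) l628 (t629_631 i) (Nat.ble (nat_lit 629) i)) (Nat.ble (nat_lit 628) i)) (@Bool.rec (fun _ => ℕ) (@Bool.rec (fun _ => ℕ) l631 l632 (Nat.ble (nat_lit 632) i)) (@Bool.rec (fun _ => ℕ) l633 (t634_636 i) (Nat.ble (nat_lit 634) i)) (Nat.ble (nat_lit 633) i)) (Nat.ble (nat_lit 631) i))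
noncomputable def t643_645 (i : ℕ) : ℕ := (@Bool.rec (fun _ => ℕ) l643 l644 (Nat.ble (nat_lit 644) i))
noncomputable def t636_645 (i : ℕ) : ℕ := (@Bool.rec (fun _ => ℕ) (@Bool.rec (fun _ => ℕ) (@Bool.rec (fun _ => ℕ) l636 l637 (Nat.ble (nat_lit 637) i)) (@Bool.rec (fun _ => ℕ) l638 l639 (Nat.ble (nat_lit 639) i)) (Nat.ble (nat_lit 638) i)) (@Bool.rec (fun _ => ℕ) (@Bool.rec (fun _ => ℕ) l640 l641 (Nat.ble (nat_lit 641) i)) (@Bool.rec (fun _ => ℕ) l642 (t643_645 i) (Nat.ble (nat_lit 643) i)) (Nat.ble (nat_lit 642) i)) (Nat.ble (nat_lit 640) i))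
noncomputable def t648_650 (i : ℕ) : ℕ := (@Bool.rec (fun _ => ℕ) l648 l649 (Nat.ble (nat_lit 649) i))
noncomputable def t653_655 (i : ℕ) : ℕ := (@Bool.rec (fun _ => ℕ) l653 l654 (Nat.ble (nat_lit 654) i))
noncomputable def t645_655 (i : ℕ) : ℕ := (@Bool.rec (fun _ => ℕ) (@Bool.rec (fun _ => ℕ) (@Bool.rec (fun _ => ℕ) l645 l646 (Nat.ble (nat_lit 646) i)) (@Bool.rec (fun _ => ℕ) l647 (t648_650 i) (Nat.ble (nat_lit 648) i)) (Nat.ble (nat_lit 647) i)) (@Bool.rec (fun _ => ℕ) (@Bool.rec (fun _ => ℕ) l650 l651 (Nat.ble (nat_lit 651) i)) (@Bool.rec (fun _ => ℕ) l652 (t653_655 i) (Nat.ble (nat_lit 653) i)) (Nat.ble (nat_lit 652) i)) (Nat.ble (nat_lit 650) i))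
noncomputable def t662_664 (i : ℕ) : ℕ := (@Bool.rec (fun _ => ℕ) l662 l663 (Nat.ble (nat_lit 663) i))
noncomputable def t655_664 (i : ℕ) : ℕ := (@Bool.rec (fun _ => ℕ) (@Bool.rec (fun _ => ℕ) (@Bool.rec (fun _ => ℕ) l655 l656 (Nat.ble (nat_lit 656) i)) (@Bool.rec (fun _ => ℕ) l657 l658 (Nat.ble (nat_lit 658) i)) (Nat.ble (nat_lit 657) i)) (@Bool.rec (fun _ => ℕ) (@Bool.rec (fun _ => ℕ) l659 l660 (Nat.ble (nat_lit 660) i)) (@Bool.rec (fun _ => ℕ) l661 (t662_664 i) (Nat.ble (nat_lit 662) i)) (Nat.ble (nat_lit 661) i)) (Nat.ble (nat_lit 659) i))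
noncomputable def t667_669 (i : ℕ) : ℕ := (@Bool.rec (fun _ => ℕ) l667 l668 (Nat.ble (nat_lit 668) i))
noncomputable def t672_674 (i : ℕ) : ℕ := (@Bool.rec (fun _ => ℕ) l672 l673 (Nat.ble (nat_lit 673) i))
noncomputable def t664_674 (i : ℕ) : ℕ := (@Bool.rec (fun _ => ℕ) (@Bool.rec (fun _ => ℕ) (@Bool.rec (fun _ => ℕ) l664 l665 (Nat.ble (nat_lit 665) i)) (@Bool.rec (fun _ => ℕ) l666 (t667_669 i) (Nat.ble (nat_lit 667) i)) (Nat.ble (nat_lit 666) i)) (@Bool.rec (fun _ => ℕ) (@Bool.rec (fun _ => ℕ) l669 l670 (Nat.ble (nat_lit 670) i)) (@Bool.rec (fun _ => ℕ) l671 (t672_674 i) (Nat.ble (nat_lit 672) i)) (Nat.ble (nat_lit 671) i)) (Nat.ble (nat_lit 669) i))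
noncomputable def t599_674 (i : ℕ) : ℕ := (@Bool.rec (fun _ => ℕ) (@Bool.rec (fun _ => ℕ) (@Bool.rec (fun _ => ℕ) (t599_608 i) (t608_617 i) (Nat.ble (nat_lit 608) i)) (@Bool.rec (fun _ => ℕ) (t617_626 i) (t626_636 i) (Nat.ble (nat_lit 626) i)) (Nat.ble (nat_lit 617) i)) (@Bool.rec (fun _ => ℕ) (@Bool.rec (fun _ => ℕ) (t636_645 i) (t645_655 i) (Nat.ble (nat_lit 645) i)) (@Bool.rec (fun _ => ℕ) (t655_664 i) (t664_674 i) (Nat.ble (nat_lit 664) i)) (Nat.ble (nat_lit 655) i)) (Nat.ble (nat_lit 636) i))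
noncomputable def t681_683 (i : ℕ) : ℕ := (@Bool.rec (fun _ => ℕ) l681 l682 (Nat.ble (nat_lit 682) i))
noncomputable def t674_683 (i : ℕ) : ℕ := (@Bool.rec (fun _ => ℕ) (@Bool.rec (fun _ => ℕ) (@Bool.rec (fun _ => ℕ) l674 l675 (Nat.ble (nat_lit 675) i)) (@Bool.rec (fun _ => ℕ) l676 l677 (Nat.ble (nat_lit 677) i)) (Nat.ble (nat_lit 676) i)) (@Bool.rec (fun _ => ℕ) (@Bool.rec (fun _ => ℕ) l678 l679 (Nat.ble (nat_lit 679) i)) (@Bool.rec (fun _ => ℕ) l680 (t681_683 i) (Nat.ble (nat_lit 681) i)) (Nat.ble (nat_lit 680) i)) (Nat.ble (nat_lit 678) i))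
noncomputable def t690_692 (i : ℕ) : ℕ := (@Bool.rec (fun _ => ℕ) l690 l691 (Nat.ble (nat_lit 691) i))
noncomputable def t683_692 (i : ℕ) : ℕ := (@Bool.rec (fun _ => ℕ) (@Bool.rec (fun _ => ℕ) (@Bool.rec (fun _ => ℕ) l683 l684 (Nat.ble (nat_lit 684) i)) (@Bool.rec (fun _ => ℕ) l685 l686 (Nat.ble (nat_lit 686) i)) (Nat.ble (nat_lit 685) i)) (@Bool.rec (fun _ => ℕ) (@Bool.rec (fun _ => ℕ) l687 l688 (Nat.ble (nat_lit 688) i)) (@Bool.rec (fun _ => ℕ) l689 (t690_692 i) (Nat.ble (nat_lit 690) i)) (Nat.ble (nat_lit 689) i)) (Nat.ble (nat_lit 687) i))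
noncomputable def t699_701 (i : ℕ) : ℕ := (@Bool.rec (fun _ => ℕ) l699 l700 (Nat.ble (nat_lit 700) i))
noncomputable def t692_701 (i : ℕ) : ℕ := (@Bool.rec (fun _ => ℕ) (@Bool.rec (fun _ => ℕ) (@Bool.rec (fun _ => ℕ) l692 l693 (Nat.ble (nat_lit 693) i)) (@Bool.rec (fun _ => ℕ) l694 l695 (Nat.ble (nat_lit 695) i)) (Nat.ble (nat_lit 694) i)) (@Bool.rec (fun _ => ℕ) (@Bool.rec (fun _ => ℕ) l696 l697 (Nat.ble (nat_lit 697) i)) (@Bool.rec (fun _ => ℕ) l698 (t699_701 i) (Nat.ble (nat_lit 699) i)) (Nat.ble (nat_lit 698) i)) (Nat.ble (nat_lit 696) i))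
noncomputable def t704_706 (i : ℕ) : ℕ := (@Bool.rec (fun _ => ℕ) l704 l705 (Nat.ble (nat_lit 705) i))
noncomputable def t709_711 (i : ℕ) : ℕ := (@Bool.rec (fun _ => ℕ) l709 l710 (Nat.ble (nat_lit 710) i))
noncomputable def t701_711 (i : ℕ) : ℕ := (@Bool.rec (fun _ => ℕ) (@Bool.rec (fun _ => ℕ) (@Bool.rec (fun _ => ℕ) l701 l702 (Nat.ble (nat_lit 702) i)) (@Bool.rec (fun _ => ℕ) l703 (t704_706 i) (Nat.ble (nat_lit 704) i)) (Nat.ble (nat_lit 703) i)) (@Bool.rec (fun _ => ℕ) (@Bool.rec (fun _ => ℕ) l706 l707 (Nat.ble (nat_lit 707) i)) (@Bool.rec (fun _ => ℕ) l708 (t709_711 i) (Nat.ble (nat_lit 709) i)) (Nat.ble (nat_lit 708) i)) (Nat.ble (nat_lit 706) i))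
noncomputable def t718_720 (i : ℕ) : ℕ := (@Bool.rec (fun _ => ℕ) l718 l719 (Nat.ble (nat_lit 719) i))
noncomputable def t711_720 (i : ℕ) : ℕ := (@Bool.rec (fun _ => ℕ) (@Bool.rec (fun _ => ℕ) (@Bool.rec (fun _ => ℕ) l711 l712 (Nat.ble (nat_lit 712) i)) (@Bool.rec (fun _ => ℕ) l713 l714 (Nat.ble (nat_lit 714) i)) (Nat.ble (nat_lit 713) i)) (@Bool.rec (fun _ => ℕ) (@Bool.rec (fun _ => ℕ) l715 l716 (Nat.ble (nat_lit 716) i)) (@Bool.rec (fun _ => ℕ) l717 (t718_720 i) (Nat.ble (nat_lit 718) i)) (Nat.ble (nat_lit 717) i)) (Nat.ble (nat_lit 715) i))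
noncomputable def t723_725 (i : ℕ) : ℕ := (@Bool.rec (fun _ => ℕ) l723 l724 (Nat.ble (nat_lit 724) i))
noncomputable def t728_730 (i : ℕ) : ℕ := (@Bool.rec (fun _ => ℕ) l728 l729 (Nat.ble (nat_lit 729) i))
noncomputable def t720_730 (i : ℕ) : ℕ := (@Bool.rec (fun _ => ℕ) (@Bool.rec (fun _ => ℕ) (@Bool.rec (fun _ => ℕ) l720 l721 (Nat.ble (nat_lit 721) i)) (@Bool.rec (fun _ => ℕ) l722 (t723_725 i) (Nat.ble (nat_lit 723) i)) (Nat.ble (nat_lit 722) i)) (@Bool.rec (fun _ => ℕ) (@Bool.rec (fun _ => ℕ) l725 l726 (Nat.ble (nat_lit 726) i)) (@Bool.rec (fun _ => ℕ) l727 (t728_730 i) (Nat.ble (nat_lit 728) i)) (Nat.ble (nat_lit 727) i)) (Nat.ble (nat_lit 725) i))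
noncomputable def t737_739 (i : ℕ) : ℕ := (@Bool.rec (fun _ => ℕ) l737 l738 (Nat.ble (nat_lit 738) i))
noncomputable def t730_739 (i : ℕ) : ℕ := (@Bool.rec (fun _ => ℕ) (@Bool.rec (fun _ => ℕ) (@Bool.rec (fun _ => ℕ) l730 l731 (Nat.ble (nat_lit 731) i)) (@Bool.rec (fun _ => ℕ) l732 l733 (Nat.ble (nat_lit 733) i)) (Nat.ble (nat_lit 732) i)) (@Bool.rec (fun _ => ℕ) (@Bool.rec (fun _ => ℕ) l734 l735 (Nat.ble (nat_lit 735) i)) (@Bool.rec (fun _ => ℕ) l736 (t737_739 i) (Nat.ble (nat_lit 737) i)) (Nat.ble (nat_lit 736) i)) (Nat.ble (nat_lit 734) i))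
noncomputable def t742_744 (i : ℕ) : ℕ := (@Bool.rec (fun _ => ℕ) l742 l743 (Nat.ble (nat_lit 743) i))
noncomputable def t747_749 (i : ℕ) : ℕ := (@Bool.rec (fun _ => ℕ) l747 l748 (Nat.ble (nat_lit 748) i))
noncomputable def t739_749 (i : ℕ) : ℕ := (@Bool.rec (fun _ => ℕ) (@Bool.rec (fun _ => ℕ) (@Bool.rec (fun _ => ℕ) l739 l740 (Nat.ble (nat_lit 740) i)) (@Bool.rec (fun _ => ℕ) l741 (t742_744 i) (Nat.ble (nat_lit 742) i)) (Nat.ble (nat_lit 741) i)) (@Bool.rec (fun _ => ℕ) (@Bool.rec (fun _ => ℕ) l744 l745 (Nat.ble (nat_lit 745) i)) (@Bool.rec (fun _ => ℕ) l746 (t747_749 i) (Nat.ble (nat_lit 747) i)) (Nat.ble (nat_lit 746) i)) (Nat.ble (nat_lit 744) i))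
noncomputable def t674_749 (i : ℕ) : ℕ := (@Bool.rec (fun _ => ℕ) (@Bool.rec (fun _ => ℕ) (@Bool.rec (fun _ => ℕ) (t674_683 i) (t683_692 i) (Nat.ble (nat_lit 683) i)) (@Bool.rec (fun _ => ℕ) (t692_701 i) (t701_711 i) (Nat.ble (nat_lit 701) i)) (Nat.ble (nat_lit 692) i)) (@Bool.rec (fun _ => ℕ) (@Bool.rec (fun _ => ℕ) (t711_720 i) (t720_730 i) (Nat.ble (nat_lit 720) i)) (@Bool.rec (fun _ => ℕ) (t730_739 i) (t739_749 i) (Nat.ble (nat_lit 739) i)) (Nat.ble (nat_lit 730) i)) (Nat.ble (nat_lit 711) i))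
noncomputable def t756_758 (i : ℕ) : ℕ := (@Bool.rec (fun _ => ℕ) l756 l757 (Nat.ble (nat_lit 757) i))
noncomputable def t749_758 (i : ℕ) : ℕ := (@Bool.rec (fun _ => ℕ) (@Bool.rec (fun _ => ℕ) (@Bool.rec (fun _ => ℕ) l749 l750 (Nat.ble (nat_lit 750) i)) (@Bool.rec (fun _ => ℕ) l751 l752 (Nat.ble (nat_lit 752) i)) (Nat.ble (nat_lit 751) i)) (@Bool.rec (fun _ => ℕ) (@Bool.rec (fun _ => ℕ) l753 l754 (Nat.ble (nat_lit 754) i)) (@Bool.rec (fun _ => ℕ) l755 (t756_758 i) (Nat.ble (nat_lit 756) i)) (Nat.ble (nat_lit 755) i)) (Nat.ble (nat_lit 753) i))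
noncomputable def t765_767 (i : ℕ) : ℕ := (@Bool.rec (fun _ => ℕ) l765 l766 (Nat.ble (nat_lit 766) i))
noncomputable def t758_767 (i : ℕ) : ℕ := (@Bool.rec (fun _ => ℕ) (@Bool.rec (fun _ => ℕ) (@Bool.rec (fun _ => ℕ) l758 l759 (Nat.ble (nat_lit 759) i)) (@Bool.rec (fun _ => ℕ) l760 l761 (Nat.ble (nat_lit 761) i)) (Nat.ble (nat_lit 760) i)) (@Bool.rec (fun _ => ℕ) (@Bool.rec (fun _ => ℕ) l762 l763 (Nat.ble (nat_lit 763) i)) (@Bool.rec (fun _ => ℕ) l764 (t765_767 i) (Nat.ble (nat_lit 765) i)) (Nat.ble (nat_lit 764) i)) (Nat.ble (nat_lit 762) i))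
noncomputable def t774_776 (i : ℕ) : ℕ := (@Bool.rec (fun _ => ℕ) l774 l775 (Nat.ble (nat_lit 775) i))
noncomputable def t767_776 (i : ℕ) : ℕ := (@Bool.rec (fun _ => ℕ) (@Bool.rec (fun _ => ℕ) (@Bool.rec (fun _ => ℕ) l767 l768 (Nat.ble (nat_lit 768) i)) (@Bool.rec (fun _ => ℕ) l769 l770 (Nat.ble (nat_lit 770) i)) (Nat.ble (nat_lit 769) i)) (@Bool.rec (fun _ => ℕ) (@Bool.rec (fun _ => ℕ) l771 l772 (Nat.ble (nat_lit 772) i)) (@Bool.rec (fun _ => ℕ) l773 (t774_776 i) (Nat.ble (nat_lit 774) i)) (Nat.ble (nat_lit 773) i)) (Nat.ble (nat_lit 771) i))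
noncomputable def t779_781 (i : ℕ) : ℕ := (@Bool.rec (fun _ => ℕ) l779 l780 (Nat.ble (nat_lit 780) i))
noncomputable def t784_786 (i : ℕ) : ℕ := (@Bool.rec (fun _ => ℕ) l784 l785 (Nat.ble (nat_lit 785) i))
noncomputable def t776_786 (i : ℕ) : ℕ := (@Bool.rec (fun _ => ℕ) (@Bool.rec (fun _ => ℕ) (@Bool.rec (fun _ => ℕ) l776 l777 (Nat.ble (nat_lit 777) i)) (@Bool.rec (fun _ => ℕ) l778 (t779_781 i) (Nat.ble (nat_lit 779) i)) (Nat.ble (nat_lit 778) i)) (@Bool.rec (fun _ => ℕ) (@Bool.rec (fun _ => ℕ) l781 l782 (Nat.ble (nat_lit 782) i)) (@Bool.rec (fun _ => ℕ) l783 (t784_786 i) (Nat.ble (nat_lit 784) i)) (Nat.ble (nat_lit 783) i)) (Nat.ble (nat_lit 781) i))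
noncomputable def t793_795 (i : ℕ) : ℕ := (@Bool.rec (fun _ => ℕ) l793 l794 (Nat.ble (nat_lit 794) i))
noncomputable def t786_795 (i : ℕ) : ℕ := (@Bool.rec (fun _ => ℕ) (@Bool.rec (fun _ => ℕ) (@Bool.rec (fun _ => ℕ) l786 l787 (Nat.ble (nat_lit 787) i)) (@Bool.rec (fun _ => ℕ) l788 l789 (Nat.ble (nat_lit 789) i)) (Nat.ble (nat_lit 788) i)) (@Bool.rec (fun _ => ℕ) (@Bool.rec (fun _ => ℕ) l790 l791 (Nat.ble (nat_lit 791) i)) (@Bool.rec (fun _ => ℕ) l792 (t793_795 i) (Nat.ble (nat_lit 793) i)) (Nat.ble (nat_lit 792) i)) (Nat.ble (nat_lit 790) i))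
noncomputable def t798_800 (i : ℕ) : ℕ := (@Bool.rec (fun _ => ℕ) l798 l799 (Nat.ble (nat_lit 799) i))
noncomputable def t803_805 (i : ℕ) : ℕ := (@Bool.rec (fun _ => ℕ) l803 l804 (Nat.ble (nat_lit 804) i))
noncomputable def t795_805 (i : ℕ) : ℕ := (@Bool.rec (fun _ => ℕ) (@Bool.rec (fun _ => ℕ) (@Bool.rec (fun _ => ℕ) l795 l796 (Nat.ble (nat_lit 796) i)) (@Bool.rec (fun _ => ℕ) l797 (t798_800 i) (Nat.ble (nat_lit 798) i)) (Nat.ble (nat_lit 797) i)) (@Bool.rec (fun _ => ℕ) (@Bool.rec (fun _ => ℕ) l800 l801 (Nat.ble (nat_lit 801) i)) (@Bool.rec (fun _ => ℕ) l802 (t803_805 i) (Nat.ble (nat_lit 803) i)) (Nat.ble (nat_lit 802) i)) (Nat.ble (nat_lit 800) i))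
noncomputable def t812_814 (i : ℕ) : ℕ := (@Bool.rec (fun _ => ℕ) l812 l813 (Nat.ble (nat_lit 813) i))
noncomputable def t805_814 (i : ℕ) : ℕ := (@Bool.rec (fun _ => ℕ) (@Bool.rec (fun _ => ℕ) (@Bool.rec (fun _ => ℕ) l805 l806 (Nat.ble (nat_lit 806) i)) (@Bool.rec (fun _ => ℕ) l807 l808 (Nat.ble (nat_lit 808) i)) (Nat.ble (nat_lit 807) i)) (@Bool.rec (fun _ => ℕ) (@Bool.rec (fun _ => ℕ) l809 l810 (Nat.ble (nat_lit 810) i)) (@Bool.rec (fun _ => ℕ) l811 (t812_814 i) (Nat.ble (nat_lit 812) i)) (Nat.ble (nat_lit 811) i)) (Nat.ble (nat_lit 809) i))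
noncomputable def t817_819 (i : ℕ) : ℕ := (@Bool.rec (fun _ => ℕ) l817 l818 (Nat.ble (nat_lit 818) i))
noncomputable def t822_824 (i : ℕ) : ℕ := (@Bool.rec (fun _ => ℕ) l822 l823 (Nat.ble (nat_lit 823) i))
noncomputable def t814_824 (i : ℕ) : ℕ := (@Bool.rec (fun _ => ℕ) (@Bool.rec (fun _ => ℕ) (@Bool.rec (fun _ => ℕ) l814 l815 (Nat.ble (nat_lit 815) i)) (@Bool.rec (fun _ => ℕ) l816 (t817_819 i) (Nat.ble (nat_lit 817) i)) (Nat.ble (nat_lit 816) i)) (@Bool.rec (fun _ => ℕ) (@Bool.rec (fun _ => ℕ) l819 l820 (Nat.ble (nat_lit 820) i)) (@Bool.rec (fun _ => ℕ) l821 (t822_824 i) (Nat.ble (nat_lit 822) i)) (Nat.ble (nat_lit 821) i)) (Nat.ble (nat_lit 819) i))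
noncomputable def t749_824 (i : ℕ) : ℕ := (@Bool.rec (fun _ => ℕ) (@Bool.rec (fun _ => ℕ) (@Bool.rec (fun _ => ℕ) (t749_758 i) (t758_767 i) (Nat.ble (nat_lit 758) i)) (@Bool.rec (fun _ => ℕ) (t767_776 i) (t776_786 i) (Nat.ble (nat_lit 776) i)) (Nat.ble (nat_lit 767) i)) (@Bool.rec (fun _ => ℕ) (@Bool.rec (fun _ => ℕ) (t786_795 i) (t795_805 i) (Nat.ble (nat_lit 795) i)) (@Bool.rec (fun _ => ℕ) (t805_814 i) (t814_824 i) (Nat.ble (nat_lit 814) i)) (Nat.ble (nat_lit 805) i)) (Nat.ble (nat_lit 786) i))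
noncomputable def t831_833 (i : ℕ) : ℕ := (@Bool.rec (fun _ => ℕ) l831 l832 (Nat.ble (nat_lit 832) i))
noncomputable def t824_833 (i : ℕ) : ℕ := (@Bool.rec (fun _ => ℕ) (@Bool.rec (fun _ => ℕ) (@Bool.rec (fun _ => ℕ) l824 l825 (Nat.ble (nat_lit 825) i)) (@Bool.rec (fun _ => ℕ) l826 l827 (Nat.ble (nat_lit 827) i)) (Nat.ble (nat_lit 826) i)) (@Bool.rec (fun _ => ℕ) (@Bool.rec (fun _ => ℕ) l828 l829 (Nat.ble (nat_lit 829) i)) (@Bool.rec (fun _ => ℕ) l830 (t831_833 i) (Nat.ble (nat_lit 831) i)) (Nat.ble (nat_lit 830) i)) (Nat.ble (nat_lit 828) i))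
noncomputable def t840_842 (i : ℕ) : ℕ := (@Bool.rec (fun _ => ℕ) l840 l841 (Nat.ble (nat_lit 841) i))
noncomputable def t833_842 (i : ℕ) : ℕ := (@Bool.rec (fun _ => ℕ) (@Bool.rec (fun _ => ℕ) (@Bool.rec (fun _ => ℕ) l833 l834 (Nat.ble (nat_lit 834) i)) (@Bool.rec (fun _ => ℕ) l835 l836 (Nat.ble (nat_lit 836) i)) (Nat.ble (nat_lit 835) i)) (@Bool.rec (fun _ => ℕ) (@Bool.rec (fun _ => ℕ) l837 l838 (Nat.ble (nat_lit 838) i)) (@Bool.rec (fun _ => ℕ) l839 (t840_842 i) (Nat.ble (nat_lit 840) i)) (Nat.ble (nat_lit 839) i)) (Nat.ble (nat_lit 837) i))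
noncomputable def t849_851 (i : ℕ) : ℕ := (@Bool.rec (fun _ => ℕ) l849 l850 (Nat.ble (nat_lit 850) i))
noncomputable def t842_851 (i : ℕ) : ℕ := (@Bool.rec (fun _ => ℕ) (@Bool.rec (fun _ => ℕ) (@Bool.rec (fun _ => ℕ) l842 l843 (Nat.ble (nat_lit 843) i)) (@Bool.rec (fun _ => ℕ) l844 l845 (Nat.ble (nat_lit 845) i)) (Nat.ble (nat_lit 844) i)) (@Bool.rec (fun _ => ℕ) (@Bool.rec (fun _ => ℕ) l846 l847 (Nat.ble (nat_lit 847) i)) (@Bool.rec (fun _ => ℕ) l848 (t849_851 i) (Nat.ble (nat_lit 849) i)) (Nat.ble (nat_lit 848) i)) (Nat.ble (nat_lit 846) i))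
noncomputable def t854_856 (i : ℕ) : ℕ := (@Bool.rec (fun _ => ℕ) l854 l855 (Nat.ble (nat_lit 855) i))
noncomputable def t859_861 (i : ℕ) : ℕ := (@Bool.rec (fun _ => ℕ) l859 l860 (Nat.ble (nat_lit 860) i))
noncomputable def t851_861 (i : ℕ) : ℕ := (@Bool.rec (fun _ => ℕ) (@Bool.rec (fun _ => ℕ) (@Bool.rec (fun _ => ℕ) l851 l852 (Nat.ble (nat_lit 852) i)) (@Bool.rec (fun _ => ℕ) l853 (t854_856 i) (Nat.ble (nat_lit 854) i)) (Nat.ble (nat_lit 853) i)) (@Bool.rec (fun _ => ℕ) (@Bool.rec (fun _ => ℕ) l856 l857 (Nat.ble (nat_lit 857) i)) (@Bool.rec (fun _ => ℕ) l858 (t859_861 i) (Nat.ble (nat_lit 859) i)) (Nat.ble (nat_lit 858) i)) (Nat.ble (nat_lit 856) i))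
noncomputable def t868_870 (i : ℕ) : ℕ := (@Bool.rec (fun _ => ℕ) l868 l869 (Nat.ble (nat_lit 869) i))
noncomputable def t861_870 (i : ℕ) : ℕ := (@Bool.rec (fun _ => ℕ) (@Bool.rec (fun _ => ℕ) (@Bool.rec (fun _ => ℕ) l861 l862 (Nat.ble (nat_lit 862) i)) (@Bool.rec (fun _ => ℕ) l863 l864 (Nat.ble (nat_lit 864) i)) (Nat.ble (nat_lit 863) i)) (@Bool.rec (fun _ => ℕ) (@Bool.rec (fun _ => ℕ) l865 l866 (Nat.ble (nat_lit 866) i)) (@Bool.rec (fun _ => ℕ) l867 (t868_870 i) (Nat.ble (nat_lit 868) i)) (Nat.ble (nat_lit 867) i)) (Nat.ble (nat_lit 865) i))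
noncomputable def t873_875 (i : ℕ) : ℕ := (@Bool.rec (fun _ => ℕ) l873 l874 (Nat.ble (nat_lit 874) i))
noncomputable def t878_880 (i : ℕ) : ℕ := (@Bool.rec (fun _ => ℕ) l878 l879 (Nat.ble (nat_lit 879) i))
noncomputable def t870_880 (i : ℕ) : ℕ := (@Bool.rec (fun _ => ℕ) (@Bool.rec (fun _ => ℕ) (@Bool.rec (fun _ => ℕ) l870 l871 (Nat.ble (nat_lit 871) i)) (@Bool.rec (fun _ => ℕ) l872 (t873_875 i) (Nat.ble (nat_lit 873) i)) (Nat.ble (nat_lit 872) i)) (@Bool.rec (fun _ => ℕ) (@Bool.rec (fun _ => ℕ) l875 l876 (Nat.ble (nat_lit 876) i)) (@Bool.rec (fun _ => ℕ) l877 (t878_880 i) (Nat.ble (nat_lit 878) i)) (Nat.ble (nat_lit 877) i)) (Nat.ble (nat_lit 875) i))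
noncomputable def t887_889 (i : ℕ) : ℕ := (@Bool.rec (fun _ => ℕ) l887 l888 (Nat.ble (nat_lit 888) i))
noncomputable def t880_889 (i : ℕ) : ℕ := (@Bool.rec (fun _ => ℕ) (@Bool.rec (fun _ => ℕ) (@Bool.rec (fun _ => ℕ) l880 l881 (Nat.ble (nat_lit 881) i)) (@Bool.rec (fun _ => ℕ) l882 l883 (Nat.ble (nat_lit 883) i)) (Nat.ble (nat_lit 882) i)) (@Bool.rec (fun _ => ℕ) (@Bool.rec (fun _ => ℕ) l884 l885 (Nat.ble (nat_lit 885) i)) (@Bool.rec (fun _ => ℕ) l886 (t887_889 i) (Nat.ble (nat_lit 887) i)) (Nat.ble (nat_lit 886) i)) (Nat.ble (nat_lit 884) i))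
noncomputable def t892_894 (i : ℕ) : ℕ := (@Bool.rec (fun _ => ℕ) l892 l893 (Nat.ble (nat_lit 893) i))
noncomputable def t897_899 (i : ℕ) : ℕ := (@Bool.rec (fun _ => ℕ) l897 l898 (Nat.ble (nat_lit 898) i))
noncomputable def t889_899 (i : ℕ) : ℕ := (@Bool.rec (fun _ => ℕ) (@Bool.rec (fun _ => ℕ) (@Bool.rec (fun _ => ℕ) l889 l890 (Nat.ble (nat_lit 890) i)) (@Bool.rec (fun _ => ℕ) l891 (t892_894 i) (Nat.ble (nat_lit 892) i)) (Nat.ble (nat_lit 891) i)) (@Bool.rec (fun _ => ℕ) (@Bool.rec (fun _ => ℕ) l894 l895 (Nat.ble (nat_lit 895) i)) (@Bool.rec (fun _ => ℕ) l896 (t897_899 i) (Nat.ble (nat_lit 897) i)) (Nat.ble (nat_lit 896) i)) (Nat.ble (nat_lit 894) i))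
noncomputable def t824_899 (i : ℕ) : ℕ := (@Bool.rec (fun _ => ℕ) (@Bool.rec (fun _ => ℕ) (@Bool.rec (fun _ => ℕ) (t824_833 i) (t833_842 i) (Nat.ble (nat_lit 833) i)) (@Bool.rec (fun _ => ℕ) (t842_851 i) (t851_861 i) (Nat.ble (nat_lit 851) i)) (Nat.ble (nat_lit 842) i)) (@Bool.rec (fun _ => ℕ) (@Bool.rec (fun _ => ℕ) (t861_870 i) (t870_880 i) (Nat.ble (nat_lit 870) i)) (@Bool.rec (fun _ => ℕ) (t880_889 i) (t889_899 i) (Nat.ble (nat_lit 889) i)) (Nat.ble (nat_lit 880) i)) (Nat.ble (nat_lit 861) i))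
noncomputable def t906_908 (i : ℕ) : ℕ := (@Bool.rec (fun _ => ℕ) l906 l907 (Nat.ble (nat_lit 907) i))
noncomputable def t899_908 (i : ℕ) : ℕ := (@Bool.rec (fun _ => ℕ) (@Bool.rec (fun _ => ℕ) (@Bool.rec (fun _ => ℕ) l899 l900 (Nat.ble (nat_lit 900) i)) (@Bool.rec (fun _ => ℕ) l901 l902 (Nat.ble (nat_lit 902) i)) (Nat.ble (nat_lit 901) i)) (@Bool.rec (fun _ => ℕ) (@Bool.rec (fun _ => ℕ) l903 l904 (Nat.ble (nat_lit 904) i)) (@Bool.rec (fun _ => ℕ) l905 (t906_908 i) (Nat.ble (nat_lit 906) i)) (Nat.ble (nat_lit 905) i)) (Nat.ble (nat_lit 903) i))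
noncomputable def t915_917 (i : ℕ) : ℕ := (@Bool.rec (fun _ => ℕ) l915 l916 (Nat.ble (nat_lit 916) i))
noncomputable def t908_917 (i : ℕ) : ℕ := (@Bool.rec (fun _ => ℕ) (@Bool.rec (fun _ => ℕ) (@Bool.rec (fun _ => ℕ) l908 l909 (Nat.ble (nat_lit 909) i)) (@Bool.rec (fun _ => ℕ) l910 l911 (Nat.ble (nat_lit 911) i)) (Nat.ble (nat_lit 910) i)) (@Bool.rec (fun _ => ℕ) (@Bool.rec (fun _ => ℕ) l912 l913 (Nat.ble (nat_lit 913) i)) (@Bool.rec (fun _ => ℕ) l914 (t915_917 i) (Nat.ble (nat_lit 915) i)) (Nat.ble (nat_lit 914) i)) (Nat.ble (nat_lit 912) i))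
noncomputable def t924_926 (i : ℕ) : ℕ := (@Bool.rec (fun _ => ℕ) l924 l925 (Nat.ble (nat_lit 925) i))
noncomputable def t917_926 (i : ℕ) : ℕ := (@Bool.rec (fun _ => ℕ) (@Bool.rec (fun _ => ℕ) (@Bool.rec (fun _ => ℕ) l917 l918 (Nat.ble (nat_lit 918) i)) (@Bool.rec (fun _ => ℕ) l919 l920 (Nat.ble (nat_lit 920) i)) (Nat.ble (nat_lit 919) i)) (@Bool.rec (fun _ => ℕ) (@Bool.rec (fun _ => ℕ) l921 l922 (Nat.ble (nat_lit 922) i)) (@Bool.rec (fun _ => ℕ) l923 (t924_926 i) (Nat.ble (nat_lit 924) i)) (Nat.ble (nat_lit 923) i)) (Nat.ble (nat_lit 921) i))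
noncomputable def t929_931 (i : ℕ) : ℕ := (@Bool.rec (fun _ => ℕ) l929 l930 (Nat.ble (nat_lit 930) i))
noncomputable def t934_936 (i : ℕ) : ℕ := (@Bool.rec (fun _ => ℕ) l934 l935 (Nat.ble (nat_lit 935) i))
noncomputable def t926_936 (i : ℕ) : ℕ := (@Bool.rec (fun _ => ℕ) (@Bool.rec (fun _ => ℕ) (@Bool.rec (fun _ => ℕ) l926 l927 (Nat.ble (nat_lit 927) i)) (@Bool.rec (fun _ => ℕ) l928 (t929_931 i) (Nat.ble (nat_lit 929) i)) (Nat.ble (nat_lit 928) i)) (@Bool.rec (fun _ => ℕ) (@Bool.rec (fun _ => ℕ) l931 l932 (Nat.ble (nat_lit 932) i)) (@Bool.rec (fun _ => ℕ) l933 (t934_936 i) (Nat.ble (nat_lit 934) i)) (Nat.ble (nat_lit 933) i)) (Nat.ble (nat_lit 931) i))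
noncomputable def t943_945 (i : ℕ) : ℕ := (@Bool.rec (fun _ => ℕ) l943 l944 (Nat.ble (nat_lit 944) i))
noncomputable def t936_945 (i : ℕ) : ℕ := (@Bool.rec (fun _ => ℕ) (@Bool.rec (fun _ => ℕ) (@Bool.rec (fun _ => ℕ) l936 l937 (Nat.ble (nat_lit 937) i)) (@Bool.rec (fun _ => ℕ) l938 l939 (Nat.ble (nat_lit 939) i)) (Nat.ble (nat_lit 938) i)) (@Bool.rec (fun _ => ℕ) (@Bool.rec (fun _ => ℕ) l940 l941 (Nat.ble (nat_lit 941) i)) (@Bool.rec (fun _ => ℕ) l942 (t943_945 i) (Nat.ble (nat_lit 943) i)) (Nat.ble (nat_lit 942) i)) (Nat.ble (nat_lit 940) i))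
noncomputable def t948_950 (i : ℕ) : ℕ := (@Bool.rec (fun _ => ℕ) l948 l949 (Nat.ble (nat_lit 949) i))
noncomputable def t953_955 (i : ℕ) : ℕ := (@Bool.rec (fun _ => ℕ) l953 l954 (Nat.ble (nat_lit 954) i))
noncomputable def t945_955 (i : ℕ) : ℕ := (@Bool.rec (fun _ => ℕ) (@Bool.rec (fun _ => ℕ) (@Bool.rec (fun _ => ℕ) l945 l946 (Nat.ble (nat_lit 946) i)) (@Bool.rec (fun _ => ℕ) l947 (t948_950 i) (Nat.ble (nat_lit 948) i)) (Nat.ble (nat_lit 947) i)) (@Bool.rec (fun _ => ℕ) (@Bool.rec (fun _ => ℕ) l950 l951 (Nat.ble (nat_lit 951) i)) (@Bool.rec (fun _ => ℕ) l952 (t953_955 i) (Nat.ble (nat_lit 953) i)) (Nat.ble (nat_lit 952) i)) (Nat.ble (nat_lit 950) i))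
noncomputable def t962_964 (i : ℕ) : ℕ := (@Bool.rec (fun _ => ℕ) l962 l963 (Nat.ble (nat_lit 963) i))
noncomputable def t955_964 (i : ℕ) : ℕ := (@Bool.rec (fun _ => ℕ) (@Bool.rec (fun _ => ℕ) (@Bool.rec (fun _ => ℕ) l955 l956 (Nat.ble (nat_lit 956) i)) (@Bool.rec (fun _ => ℕ) l957 l958 (Nat.ble (nat_lit 958) i)) (Nat.ble (nat_lit 957) i)) (@Bool.rec (fun _ => ℕ) (@Bool.rec (fun _ => ℕ) l959 l960 (Nat.ble (nat_lit 960) i)) (@Bool.rec (fun _ => ℕ) l961 (t962_964 i) (Nat.ble (nat_lit 962) i)) (Nat.ble (nat_lit 961) i)) (Nat.ble (nat_lit 959) i))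
noncomputable def t967_969 (i : ℕ) : ℕ := (@Bool.rec (fun _ => ℕ) l967 l968 (Nat.ble (nat_lit 968) i))
noncomputable def t972_974 (i : ℕ) : ℕ := (@Bool.rec (fun _ => ℕ) l972 l973 (Nat.ble (nat_lit 973) i))
noncomputable def t964_974 (i : ℕ) : ℕ := (@Bool.rec (fun _ => ℕ) (@Bool.rec (fun _ => ℕ) (@Bool.rec (fun _ => ℕ) l964 l965 (Nat.ble (nat_lit 965) i)) (@Bool.rec (fun _ => ℕ) l966 (t967_969 i) (Nat.ble (nat_lit 967) i)) (Nat.ble (nat_lit 966) i)) (@Bool.rec (fun _ => ℕ) (@Bool.rec (fun _ => ℕ) l969 l970 (Nat.ble (nat_lit 970) i)) (@Bool.rec (fun _ => ℕ) l971 (t972_974 i) (Nat.ble (nat_lit 972) i)) (Nat.ble (nat_lit 971) i)) (Nat.ble (nat_lit 969) i))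
noncomputable def t899_974 (i : ℕ) : ℕ := (@Bool.rec (fun _ => ℕ) (@Bool.rec (fun _ => ℕ) (@Bool.rec (fun _ => ℕ) (t899_908 i) (t908_917 i) (Nat.ble (nat_lit 908) i)) (@Bool.rec (fun _ => ℕ) (t917_926 i) (t926_936 i) (Nat.ble (nat_lit 926) i)) (Nat.ble (nat_lit 917) i)) (@Bool.rec (fun _ => ℕ) (@Bool.rec (fun _ => ℕ) (t936_945 i) (t945_955 i) (Nat.ble (nat_lit 945) i)) (@Bool.rec (fun _ => ℕ) (t955_964 i) (t964_974 i) (Nat.ble (nat_lit 964) i)) (Nat.ble (nat_lit 955) i)) (Nat.ble (nat_lit 936) i))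
noncomputable def t981_983 (i : ℕ) : ℕ := (@Bool.rec (fun _ => ℕ) l981 l982 (Nat.ble (nat_lit 982) i))
noncomputable def t974_983 (i : ℕ) : ℕ := (@Bool.rec (fun _ => ℕ) (@Bool.rec (fun _ => ℕ) (@Bool.rec (fun _ => ℕ) l974 l975 (Nat.ble (nat_lit 975) i)) (@Bool.rec (fun _ => ℕ) l976 l977 (Nat.ble (nat_lit 977) i)) (Nat.ble (nat_lit 976) i)) (@Bool.rec (fun _ => ℕ) (@Bool.rec (fun _ => ℕ) l978 l979 (Nat.ble (nat_lit 979) i)) (@Bool.rec (fun _ => ℕ) l980 (t981_983 i) (Nat.ble (nat_lit 981) i)) (Nat.ble (nat_lit 980) i)) (Nat.ble (nat_lit 978) i))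
noncomputable def t990_992 (i : ℕ) : ℕ := (@Bool.rec (fun _ => ℕ) l990 l991 (Nat.ble (nat_lit 991) i))
noncomputable def t983_992 (i : ℕ) : ℕ := (@Bool.rec (fun _ => ℕ) (@Bool.rec (fun _ => ℕ) (@Bool.rec (fun _ => ℕ) l983 l984 (Nat.ble (nat_lit 984) i)) (@Bool.rec (fun _ => ℕ) l985 l986 (Nat.ble (nat_lit 986) i)) (Nat.ble (nat_lit 985) i)) (@Bool.rec (fun _ => ℕ) (@Bool.rec (fun _ => ℕ) l987 l988 (Nat.ble (nat_lit 988) i)) (@Bool.rec (fun _ => ℕ) l989 (t990_992 i) (Nat.ble (nat_lit 990) i)) (Nat.ble (nat_lit 989) i)) (Nat.ble (nat_lit 987) i))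
noncomputable def t999_1001 (i : ℕ) : ℕ := (@Bool.rec (fun _ => ℕ) l999 l1000 (Nat.ble (nat_lit 1000) i))
noncomputable def t992_1001 (i : ℕ) : ℕ := (@Bool.rec (fun _ => ℕ) (@Bool.rec (fun _ => ℕ) (@Bool.rec (fun _ => ℕ) l992 l993 (Nat.ble (nat_lit 993) i)) (@Bool.rec (fun _ => ℕ) l994 l995 (Nat.ble (nat_lit 995) i)) (Nat.ble (nat_lit 994) i)) (@Bool.rec (fun _ => ℕ) (@Bool.rec (fun _ => ℕ) l996 l997 (Nat.ble (nat_lit 997) i)) (@Bool.rec (fun _ => ℕ) l998 (t999_1001 i) (Nat.ble (nat_lit 999) i)) (Nat.ble (nat_lit 998) i)) (Nat.ble (nat_lit 996) i))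
noncomputable def t1004_1006 (i : ℕ) : ℕ := (@Bool.rec (fun _ => ℕ) l1004 l1005 (Nat.ble (nat_lit 1005) i))
noncomputable def t1009_1011 (i : ℕ) : ℕ := (@Bool.rec (fun _ => ℕ) l1009 l1010 (Nat.ble (nat_lit 1010) i))
noncomputable def t1001_1011 (i : ℕ) : ℕ := (@Bool.rec (fun _ => ℕ) (@Bool.rec (fun _ => ℕ) (@Bool.rec (fun _ => ℕ) l1001 l1002 (Nat.ble (nat_lit 1002) i)) (@Bool.rec (fun _ => ℕ) l1003 (t1004_1006 i) (Nat.ble (nat_lit 1004) i)) (Nat.ble (nat_lit 1003) i)) (@Bool.rec (fun _ => ℕ) (@Bool.rec (fun _ => ℕ) l1006 l1007 (Nat.ble (nat_lit 1007) i)) (@Bool.rec (fun _ => ℕ) l1008 (t1009_1011 i) (Nat.ble (nat_lit 1009) i)) (Nat.ble (nat_lit 1008) i)) (Nat.ble (nat_lit 1006) i))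
noncomputable def t1018_1020 (i : ℕ) : ℕ := (@Bool.rec (fun _ => ℕ) l1018 l1019 (Nat.ble (nat_lit 1019) i))
noncomputable def t1011_1020 (i : ℕ) : ℕ := (@Bool.rec (fun _ => ℕ) (@Bool.rec (fun _ => ℕ) (@Bool.rec (fun _ => ℕ) l1011 l1012 (Nat.ble (nat_lit 1012) i)) (@Bool.rec (fun _ => ℕ) l1013 l1014 (Nat.ble (nat_lit 1014) i)) (Nat.ble (nat_lit 1013) i)) (@Bool.rec (fun _ => ℕ) (@Bool.rec (fun _ => ℕ) l1015 l1016 (Nat.ble (nat_lit 1016) i)) (@Bool.rec (fun _ => ℕ) l1017 (t1018_1020 i) (Nat.ble (nat_lit 1018) i)) (Nat.ble (nat_lit 1017) i)) (Nat.ble (nat_lit 1015) i))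
noncomputable def t1023_1025 (i : ℕ) : ℕ := (@Bool.rec (fun _ => ℕ) l1023 l1024 (Nat.ble (nat_lit 1024) i))
noncomputable def t1028_1030 (i : ℕ) : ℕ := (@Bool.rec (fun _ => ℕ) l1028 l1029 (Nat.ble (nat_lit 1029) i))
noncomputable def t1020_1030 (i : ℕ) : ℕ := (@Bool.rec (fun _ => ℕ) (@Bool.rec (fun _ => ℕ) (@Bool.rec (fun _ => ℕ) l1020 l1021 (Nat.ble (nat_lit 1021) i)) (@Bool.rec (fun _ => ℕ) l1022 (t1023_1025 i) (Nat.ble (nat_lit 1023) i)) (Nat.ble (nat_lit 1022) i)) (@Bool.rec (fun _ => ℕ) (@Bool.rec (fun _ => ℕ) l1025 l1026 (Nat.ble (nat_lit 1026) i)) (@Bool.rec (fun _ => ℕ) l1027 (t1028_1030 i) (Nat.ble (nat_lit 1028) i)) (Nat.ble (nat_lit 1027) i)) (Nat.ble (nat_lit 1025) i))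
noncomputable def t1037_1039 (i : ℕ) : ℕ := (@Bool.rec (fun _ => ℕ) l1037 l1038 (Nat.ble (nat_lit 1038) i))
noncomputable def t1030_1039 (i : ℕ) : ℕ := (@Bool.rec (fun _ => ℕ) (@Bool.rec (fun _ => ℕ) (@Bool.rec (fun _ => ℕ) l1030 l1031 (Nat.ble (nat_lit 1031) i)) (@Bool.rec (fun _ => ℕ) l1032 l1033 (Nat.ble (nat_lit 1033) i)) (Nat.ble (nat_lit 1032) i)) (@Bool.rec (fun _ => ℕ) (@Bool.rec (fun _ => ℕ) l1034 l1035 (Nat.ble (nat_lit 1035) i)) (@Bool.rec (fun _ => ℕ) l1036 (t1037_1039 i) (Nat.ble (nat_lit 1037) i)) (Nat.ble (nat_lit 1036) i)) (Nat.ble (nat_lit 1034) i))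
noncomputable def t1042_1044 (i : ℕ) : ℕ := (@Bool.rec (fun _ => ℕ) l1042 l1043 (Nat.ble (nat_lit 1043) i))
noncomputable def t1047_1049 (i : ℕ) : ℕ := (@Bool.rec (fun _ => ℕ) l1047 l1048 (Nat.ble (nat_lit 1048) i))
noncomputable def t1039_1049 (i : ℕ) : ℕ := (@Bool.rec (fun _ => ℕ) (@Bool.rec (fun _ => ℕ) (@Bool.rec (fun _ => ℕ) l1039 l1040 (Nat.ble (nat_lit 1040) i)) (@Bool.rec (fun _ => ℕ) l1041 (t1042_1044 i) (Nat.ble (nat_lit 1042) i)) (Nat.ble (nat_lit 1041) i)) (@Bool.rec (fun _ => ℕ) (@Bool.rec (fun _ => ℕ) l1044 l1045 (Nat.ble (nat_lit 1045) i)) (@Bool.rec (fun _ => ℕ) l1046 (t1047_1049 i) (Nat.ble (nat_lit 1047) i)) (Nat.ble (nat_lit 1046) i)) (Nat.ble (nat_lit 1044) i))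
noncomputable def t974_1049 (i : ℕ) : ℕ := (@Bool.rec (fun _ => ℕ) (@Bool.rec (fun _ => ℕ) (@Bool.rec (fun _ => ℕ) (t974_983 i) (t983_992 i) (Nat.ble (nat_lit 983) i)) (@Bool.rec (fun _ => ℕ) (t992_1001 i) (t1001_1011 i) (Nat.ble (nat_lit 1001) i)) (Nat.ble (nat_lit 992) i)) (@Bool.rec (fun _ => ℕ) (@Bool.rec (fun _ => ℕ) (t1011_1020 i) (t1020_1030 i) (Nat.ble (nat_lit 1020) i)) (@Bool.rec (fun _ => ℕ) (t1030_1039 i) (t1039_1049 i) (Nat.ble (nat_lit 1039) i)) (Nat.ble (nat_lit 1030) i)) (Nat.ble (nat_lit 1011) i))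
noncomputable def t1056_1058 (i : ℕ) : ℕ := (@Bool.rec (fun _ => ℕ) l1056 l1057 (Nat.ble (nat_lit 1057) i))
noncomputable def t1049_1058 (i : ℕ) : ℕ := (@Bool.rec (fun _ => ℕ) (@Bool.rec (fun _ => ℕ) (@Bool.rec (fun _ => ℕ) l1049 l1050 (Nat.ble (nat_lit 1050) i)) (@Bool.rec (fun _ => ℕ) l1051 l1052 (Nat.ble (nat_lit 1052) i)) (Nat.ble (nat_lit 1051) i)) (@Bool.rec (fun _ => ℕ) (@Bool.rec (fun _ => ℕ) l1053 l1054 (Nat.ble (nat_lit 1054) i)) (@Bool.rec (fun _ => ℕ) l1055 (t1056_1058 i) (Nat.ble (nat_lit 1056) i)) (Nat.ble (nat_lit 1055) i)) (Nat.ble (nat_lit 1053) i))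
noncomputable def t1065_1067 (i : ℕ) : ℕ := (@Bool.rec (fun _ => ℕ) l1065 l1066 (Nat.ble (nat_lit 1066) i))
noncomputable def t1058_1067 (i : ℕ) : ℕ := (@Bool.rec (fun _ => ℕ) (@Bool.rec (fun _ => ℕ) (@Bool.rec (fun _ => ℕ) l1058 l1059 (Nat.ble (nat_lit 1059) i)) (@Bool.rec (fun _ => ℕ) l1060 l1061 (Nat.ble (nat_lit 1061) i)) (Nat.ble (nat_lit 1060) i)) (@Bool.rec (fun _ => ℕ) (@Bool.rec (fun _ => ℕ) l1062 l1063 (Nat.ble (nat_lit 1063) i)) (@Bool.rec (fun _ => ℕ) l1064 (t1065_1067 i) (Nat.ble (nat_lit 1065) i)) (Nat.ble (nat_lit 1064) i)) (Nat.ble (nat_lit 1062) i))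
noncomputable def t1074_1076 (i : ℕ) : ℕ := (@Bool.rec (fun _ => ℕ) l1074 l1075 (Nat.ble (nat_lit 1075) i))
noncomputable def t1067_1076 (i : ℕ) : ℕ := (@Bool.rec (fun _ => ℕ) (@Bool.rec (fun _ => ℕ) (@Bool.rec (fun _ => ℕ) l1067 l1068 (Nat.ble (nat_lit 1068) i)) (@Bool.rec (fun _ => ℕ) l1069 l1070 (Nat.ble (nat_lit 1070) i)) (Nat.ble (nat_lit 1069) i)) (@Bool.rec (fun _ => ℕ) (@Bool.rec (fun _ => ℕ) l1071 l1072 (Nat.ble (nat_lit 1072) i)) (@Bool.rec (fun _ => ℕ) l1073 (t1074_1076 i) (Nat.ble (nat_lit 1074) i)) (Nat.ble (nat_lit 1073) i)) (Nat.ble (nat_lit 1071) i))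
noncomputable def t1079_1081 (i : ℕ) : ℕ := (@Bool.rec (fun _ => ℕ) l1079 l1080 (Nat.ble (nat_lit 1080) i))
noncomputable def t1084_1086 (i : ℕ) : ℕ := (@Bool.rec (fun _ => ℕ) l1084 l1085 (Nat.ble (nat_lit 1085) i))
noncomputable def t1076_1086 (i : ℕ) : ℕ := (@Bool.rec (fun _ => ℕ) (@Bool.rec (fun _ => ℕ) (@Bool.rec (fun _ => ℕ) l1076 l1077 (Nat.ble (nat_lit 1077) i)) (@Bool.rec (fun _ => ℕ) l1078 (t1079_1081 i) (Nat.ble (nat_lit 1079) i)) (Nat.ble (nat_lit 1078) i)) (@Bool.rec (fun _ => ℕ) (@Bool.rec (fun _ => ℕ) l1081 l1082 (Nat.ble (nat_lit 1082) i)) (@Bool.rec (fun _ => ℕ) l1083 (t1084_1086 i) (Nat.ble (nat_lit 1084) i)) (Nat.ble (nat_lit 1083) i)) (Nat.ble (nat_lit 1081) i))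
noncomputable def t1093_1095 (i : ℕ) : ℕ := (@Bool.rec (fun _ => ℕ) l1093 l1094 (Nat.ble (nat_lit 1094) i))
noncomputable def t1086_1095 (i : ℕ) : ℕ := (@Bool.rec (fun _ => ℕ) (@Bool.rec (fun _ => ℕ) (@Bool.rec (fun _ => ℕ) l1086 l1087 (Nat.ble (nat_lit 1087) i)) (@Bool.rec (fun _ => ℕ) l1088 l1089 (Nat.ble (nat_lit 1089) i)) (Nat.ble (nat_lit 1088) i)) (@Bool.rec (fun _ => ℕ) (@Bool.rec (fun _ => ℕ) l1090 l1091 (Nat.ble (nat_lit 1091) i)) (@Bool.rec (fun _ => ℕ) l1092 (t1093_1095 i) (Nat.ble (nat_lit 1093) i)) (Nat.ble (nat_lit 1092) i)) (Nat.ble (nat_lit 1090) i))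
noncomputable def t1098_1100 (i : ℕ) : ℕ := (@Bool.rec (fun _ => ℕ) l1098 l1099 (Nat.ble (nat_lit 1099) i))
noncomputable def t1103_1105 (i : ℕ) : ℕ := (@Bool.rec (fun _ => ℕ) l1103 l1104 (Nat.ble (nat_lit 1104) i))
noncomputable def t1095_1105 (i : ℕ) : ℕ := (@Bool.rec (fun _ => ℕ) (@Bool.rec (fun _ => ℕ) (@Bool.rec (fun _ => ℕ) l1095 l1096 (Nat.ble (nat_lit 1096) i)) (@Bool.rec (fun _ => ℕ) l1097 (t1098_1100 i) (Nat.ble (nat_lit 1098) i)) (Nat.ble (nat_lit 1097) i)) (@Bool.rec (fun _ => ℕ) (@Bool.rec (fun _ => ℕ) l1100 l1101 (Nat.ble (nat_lit 1101) i)) (@Bool.rec (fun _ => ℕ) l1102 (t1103_1105 i) (Nat.ble (nat_lit 1103) i)) (Nat.ble (nat_lit 1102) i)) (Nat.ble (nat_lit 1100) i))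
noncomputable def t1112_1114 (i : ℕ) : ℕ := (@Bool.rec (fun _ => ℕ) l1112 l1113 (Nat.ble (nat_lit 1113) i))
noncomputable def t1105_1114 (i : ℕ) : ℕ := (@Bool.rec (fun _ => ℕ) (@Bool.rec (fun _ => ℕ) (@Bool.rec (fun _ => ℕ) l1105 l1106 (Nat.ble (nat_lit 1106) i)) (@Bool.rec (fun _ => ℕ) l1107 l1108 (Nat.ble (nat_lit 1108) i)) (Nat.ble (nat_lit 1107) i)) (@Bool.rec (fun _ => ℕ) (@Bool.rec (fun _ => ℕ) l1109 l1110 (Nat.ble (nat_lit 1110) i)) (@Bool.rec (fun _ => ℕ) l1111 (t1112_1114 i) (Nat.ble (nat_lit 1112) i)) (Nat.ble (nat_lit 1111) i)) (Nat.ble (nat_lit 1109) i))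
noncomputable def t1117_1119 (i : ℕ) : ℕ := (@Bool.rec (fun _ => ℕ) l1117 l1118 (Nat.ble (nat_lit 1118) i))
noncomputable def t1122_1124 (i : ℕ) : ℕ := (@Bool.rec (fun _ => ℕ) l1122 l1123 (Nat.ble (nat_lit 1123) i))
noncomputable def t1114_1124 (i : ℕ) : ℕ := (@Bool.rec (fun _ => ℕ) (@Bool.rec (fun _ => ℕ) (@Bool.rec (fun _ => ℕ) l1114 l1115 (Nat.ble (nat_lit 1115) i)) (@Bool.rec (fun _ => ℕ) l1116 (t1117_1119 i) (Nat.ble (nat_lit 1117) i)) (Nat.ble (nat_lit 1116) i)) (@Bool.rec (fun _ => ℕ) (@Bool.rec (fun _ => ℕ) l1119 l1120 (Nat.ble (nat_lit 1120) i)) (@Bool.rec (fun _ => ℕ) l1121 (t1122_1124 i) (Nat.ble (nat_lit 1122) i)) (Nat.ble (nat_lit 1121) i)) (Nat.ble (nat_lit 1119) i))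
noncomputable def t1049_1124 (i : ℕ) : ℕ := (@Bool.rec (fun _ => ℕ) (@Bool.rec (fun _ => ℕ) (@Bool.rec (fun _ => ℕ) (t1049_1058 i) (t1058_1067 i) (Nat.ble (nat_lit 1058) i)) (@Bool.rec (fun _ => ℕ) (t1067_1076 i) (t1076_1086 i) (Nat.ble (nat_lit 1076) i)) (Nat.ble (nat_lit 1067) i)) (@Bool.rec (fun _ => ℕ) (@Bool.rec (fun _ => ℕ) (t1086_1095 i) (t1095_1105 i) (Nat.ble (nat_lit 1095) i)) (@Bool.rec (fun _ => ℕ) (t1105_1114 i) (t1114_1124 i) (Nat.ble (nat_lit 1114) i)) (Nat.ble (nat_lit 1105) i)) (Nat.ble (nat_lit 1086) i))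
noncomputable def t1131_1133 (i : ℕ) : ℕ := (@Bool.rec (fun _ => ℕ) l1131 l1132 (Nat.ble (nat_lit 1132) i))
noncomputable def t1124_1133 (i : ℕ) : ℕ := (@Bool.rec (fun _ => ℕ) (@Bool.rec (fun _ => ℕ) (@Bool.rec (fun _ => ℕ) l1124 l1125 (Nat.ble (nat_lit 1125) i)) (@Bool.rec (fun _ => ℕ) l1126 l1127 (Nat.ble (nat_lit 1127) i)) (Nat.ble (nat_lit 1126) i)) (@Bool.rec (fun _ => ℕ) (@Bool.rec (fun _ => ℕ) l1128 l1129 (Nat.ble (nat_lit 1129) i)) (@Bool.rec (fun _ => ℕ) l1130 (t1131_1133 i) (Nat.ble (nat_lit 1131) i)) (Nat.ble (nat_lit 1130) i)) (Nat.ble (nat_lit 1128) i))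
noncomputable def t1140_1142 (i : ℕ) : ℕ := (@Bool.rec (fun _ => ℕ) l1140 l1141 (Nat.ble (nat_lit 1141) i))
noncomputable def t1133_1142 (i : ℕ) : ℕ := (@Bool.rec (fun _ => ℕ) (@Bool.rec (fun _ => ℕ) (@Bool.rec (fun _ => ℕ) l1133 l1134 (Nat.ble (nat_lit 1134) i)) (@Bool.rec (fun _ => ℕ) l1135 l1136 (Nat.ble (nat_lit 1136) i)) (Nat.ble (nat_lit 1135) i)) (@Bool.rec (fun _ => ℕ) (@Bool.rec (fun _ => ℕ) l1137 l1138 (Nat.ble (nat_lit 1138) i)) (@Bool.rec (fun _ => ℕ) l1139 (t1140_1142 i) (Nat.ble (nat_lit 1140) i)) (Nat.ble (nat_lit 1139) i)) (Nat.ble (nat_lit 1137) i))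
noncomputable def t1149_1151 (i : ℕ) : ℕ := (@Bool.rec (fun _ => ℕ) l1149 l1150 (Nat.ble (nat_lit 1150) i))
noncomputable def t1142_1151 (i : ℕ) : ℕ := (@Bool.rec (fun _ => ℕ) (@Bool.rec (fun _ => ℕ) (@Bool.rec (fun _ => ℕ) l1142 l1143 (Nat.ble (nat_lit 1143) i)) (@Bool.rec (fun _ => ℕ) l1144 l1145 (Nat.ble (nat_lit 1145) i)) (Nat.ble (nat_lit 1144) i)) (@Bool.rec (fun _ => ℕ) (@Bool.rec (fun _ => ℕ) l1146 l1147 (Nat.ble (nat_lit 1147) i)) (@Bool.rec (fun _ => ℕ) l1148 (t1149_1151 i) (Nat.ble (nat_lit 1149) i)) (Nat.ble (nat_lit 1148) i)) (Nat.ble (nat_lit 1146) i))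
noncomputable def t1154_1156 (i : ℕ) : ℕ := (@Bool.rec (fun _ => ℕ) l1154 l1155 (Nat.ble (nat_lit 1155) i))
noncomputable def t1159_1161 (i : ℕ) : ℕ := (@Bool.rec (fun _ => ℕ) l1159 l1160 (Nat.ble (nat_lit 1160) i))
noncomputable def t1151_1161 (i : ℕ) : ℕ := (@Bool.rec (fun _ => ℕ) (@Bool.rec (fun _ => ℕ) (@Bool.rec (fun _ => ℕ) l1151 l1152 (Nat.ble (nat_lit 1152) i)) (@Bool.rec (fun _ => ℕ) l1153 (t1154_1156 i) (Nat.ble (nat_lit 1154) i)) (Nat.ble (nat_lit 1153) i)) (@Bool.rec (fun _ => ℕ) (@Bool.rec (fun _ => ℕ) l1156 l1157 (Nat.ble (nat_lit 1157) i)) (@Bool.rec (fun _ => ℕ) l1158 (t1159_1161 i) (Nat.ble (nat_lit 1159) i)) (Nat.ble (nat_lit 1158) i)) (Nat.ble (nat_lit 1156) i))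
noncomputable def t1168_1170 (i : ℕ) : ℕ := (@Bool.rec (fun _ => ℕ) l1168 l1169 (Nat.ble (nat_lit 1169) i))
noncomputable def t1161_1170 (i : ℕ) : ℕ := (@Bool.rec (fun _ => ℕ) (@Bool.rec (fun _ => ℕ) (@Bool.rec (fun _ => ℕ) l1161 l1162 (Nat.ble (nat_lit 1162) i)) (@Bool.rec (fun _ => ℕ) l1163 l1164 (Nat.ble (nat_lit 1164) i)) (Nat.ble (nat_lit 1163) i)) (@Bool.rec (fun _ => ℕ) (@Bool.rec (fun _ => ℕ) l1165 l1166 (Nat.ble (nat_lit 1166) i)) (@Bool.rec (fun _ => ℕ) l1167 (t1168_1170 i) (Nat.ble (nat_lit 1168) i)) (Nat.ble (nat_lit 1167) i)) (Nat.ble (nat_lit 1165) i))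
noncomputable def t1173_1175 (i : ℕ) : ℕ := (@Bool.rec (fun _ => ℕ) l1173 l1174 (Nat.ble (nat_lit 1174) i))
noncomputable def t1178_1180 (i : ℕ) : ℕ := (@Bool.rec (fun _ => ℕ) l1178 l1179 (Nat.ble (nat_lit 1179) i))
noncomputable def t1170_1180 (i : ℕ) : ℕ := (@Bool.rec (fun _ => ℕ) (@Bool.rec (fun _ => ℕ) (@Bool.rec (fun _ => ℕ) l1170 l1171 (Nat.ble (nat_lit 1171) i)) (@Bool.rec (fun _ => ℕ) l1172 (t1173_1175 i) (Nat.ble (nat_lit 1173) i)) (Nat.ble (nat_lit 1172) i)) (@Bool.rec (fun _ => ℕ) (@Bool.rec (fun _ => ℕ) l1175 l1176 (Nat.ble (nat_lit 1176) i)) (@Bool.rec (fun _ => ℕ) l1177 (t1178_1180 i) (Nat.ble (nat_lit 1178) i)) (Nat.ble (nat_lit 1177) i)) (Nat.ble (nat_lit 1175) i))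
noncomputable def t1187_1189 (i : ℕ) : ℕ := (@Bool.rec (fun _ => ℕ) l1187 l1188 (Nat.ble (nat_lit 1188) i))
noncomputable def t1180_1189 (i : ℕ) : ℕ := (@Bool.rec (fun _ => ℕ) (@Bool.rec (fun _ => ℕ) (@Bool.rec (fun _ => ℕ) l1180 l1181 (Nat.ble (nat_lit 1181) i)) (@Bool.rec (fun _ => ℕ) l1182 l1183 (Nat.ble (nat_lit 1183) i)) (Nat.ble (nat_lit 1182) i)) (@Bool.rec (fun _ => ℕ) (@Bool.rec (fun _ => ℕ) l1184 l1185 (Nat.ble (nat_lit 1185) i)) (@Bool.rec (fun _ => ℕ) l1186 (t1187_1189 i) (Nat.ble (nat_lit 1187) i)) (Nat.ble (nat_lit 1186) i)) (Nat.ble (nat_lit 1184) i))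
noncomputable def t1192_1194 (i : ℕ) : ℕ := (@Bool.rec (fun _ => ℕ) l1192 l1193 (Nat.ble (nat_lit 1193) i))
noncomputable def t1197_1199 (i : ℕ) : ℕ := (@Bool.rec (fun _ => ℕ) l1197 l1198 (Nat.ble (nat_lit 1198) i))
noncomputable def t1189_1199 (i : ℕ) : ℕ := (@Bool.rec (fun _ => ℕ) (@Bool.rec (fun _ => ℕ) (@Bool.rec (fun _ => ℕ) l1189 l1190 (Nat.ble (nat_lit 1190) i)) (@Bool.rec (fun _ => ℕ) l1191 (t1192_1194 i) (Nat.ble (nat_lit 1192) i)) (Nat.ble (nat_lit 1191) i)) (@Bool.rec (fun _ => ℕ) (@Bool.rec (fun _ => ℕ) l1194 l1195 (Nat.ble (nat_lit 1195) i)) (@Bool.rec (fun _ => ℕ) l1196 (t1197_1199 i) (Nat.ble (nat_lit 1197) i)) (Nat.ble (nat_lit 1196) i)) (Nat.ble (nat_lit 1194) i))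
noncomputable def t1124_1199 (i : ℕ) : ℕ := (@Bool.rec (fun _ => ℕ) (@Bool.rec (fun _ => ℕ) (@Bool.rec (fun _ => ℕ) (t1124_1133 i) (t1133_1142 i) (Nat.ble (nat_lit 1133) i)) (@Bool.rec (fun _ => ℕ) (t1142_1151 i) (t1151_1161 i) (Nat.ble (nat_lit 1151) i)) (Nat.ble (nat_lit 1142) i)) (@Bool.rec (fun _ => ℕ) (@Bool.rec (fun _ => ℕ) (t1161_1170 i) (t1170_1180 i) (Nat.ble (nat_lit 1170) i)) (@Bool.rec (fun _ => ℕ) (t1180_1189 i) (t1189_1199 i) (Nat.ble (nat_lit 1189) i)) (Nat.ble (nat_lit 1180) i)) (Nat.ble (nat_lit 1161) i))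
noncomputable def t599_1199 (i : ℕ) : ℕ := (@Bool.rec (fun _ => ℕ) (@Bool.rec (fun _ => ℕ) (@Bool.rec (fun _ => ℕ) (t599_674 i) (t674_749 i) (Nat.ble (nat_lit 674) i)) (@Bool.rec (fun _ => ℕ) (t749_824 i) (t824_899 i) (Nat.ble (nat_lit 824) i)) (Nat.ble (nat_lit 749) i)) (@Bool.rec (fun _ => ℕ) (@Bool.rec (fun _ => ℕ) (t899_974 i) (t974_1049 i) (Nat.ble (nat_lit 974) i)) (@Bool.rec (fun _ => ℕ) (t1049_1124 i) (t1124_1199 i) (Nat.ble (nat_lit 1124) i)) (Nat.ble (nat_lit 1049) i)) (Nat.ble (nat_lit 899) i))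
noncomputable def t1206_1208 (i : ℕ) : ℕ := (@Bool.rec (fun _ => ℕ) l1206 l1207 (Nat.ble (nat_lit 1207) i))
noncomputable def t1199_1208 (i : ℕ) : ℕ := (@Bool.rec (fun _ => ℕ) (@Bool.rec (fun _ => ℕ) (@Bool.rec (fun _ => ℕ) l1199 l1200 (Nat.ble (nat_lit 1200) i)) (@Bool.rec (fun _ => ℕ) l1201 l1202 (Nat.ble (nat_lit 1202) i)) (Nat.ble (nat_lit 1201) i)) (@Bool.rec (fun _ => ℕ) (@Bool.rec (fun _ => ℕ) l1203 l1204 (Nat.ble (nat_lit 1204) i)) (@Bool.rec (fun _ => ℕ) l1205 (t1206_1208 i) (Nat.ble (nat_lit 1206) i)) (Nat.ble (nat_lit 1205) i)) (Nat.ble (nat_lit 1203) i))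
noncomputable def t1215_1217 (i : ℕ) : ℕ := (@Bool.rec (fun _ => ℕ) l1215 l1216 (Nat.ble (nat_lit 1216) i))
noncomputable def t1208_1217 (i : ℕ) : ℕ := (@Bool.rec (fun _ => ℕ) (@Bool.rec (fun _ => ℕ) (@Bool.rec (fun _ => ℕ) l1208 l1209 (Nat.ble (nat_lit 1209) i)) (@Bool.rec (fun _ => ℕ) l1210 l1211 (Nat.ble (nat_lit 1211) i)) (Nat.ble (nat_lit 1210) i)) (@Bool.rec (fun _ => ℕ) (@Bool.rec (fun _ => ℕ) l1212 l1213 (Nat.ble (nat_lit 1213) i)) (@Bool.rec (fun _ => ℕ) l1214 (t1215_1217 i) (Nat.ble (nat_lit 1215) i)) (Nat.ble (nat_lit 1214) i)) (Nat.ble (nat_lit 1212) i))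
noncomputable def t1224_1226 (i : ℕ) : ℕ := (@Bool.rec (fun _ => ℕ) l1224 l1225 (Nat.ble (nat_lit 1225) i))
noncomputable def t1217_1226 (i : ℕ) : ℕ := (@Bool.rec (fun _ => ℕ) (@Bool.rec (fun _ => ℕ) (@Bool.rec (fun _ => ℕ) l1217 l1218 (Nat.ble (nat_lit 1218) i)) (@Bool.rec (fun _ => ℕ) l1219 l1220 (Nat.ble (nat_lit 1220) i)) (Nat.ble (nat_lit 1219) i)) (@Bool.rec (fun _ => ℕ) (@Bool.rec (fun _ => ℕ) l1221 l1222 (Nat.ble (nat_lit 1222) i)) (@Bool.rec (fun _ => ℕ) l1223 (t1224_1226 i) (Nat.ble (nat_lit 1224) i)) (Nat.ble (nat_lit 1223) i)) (Nat.ble (nat_lit 1221) i))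
noncomputable def t1229_1231 (i : ℕ) : ℕ := (@Bool.rec (fun _ => ℕ) l1229 l1230 (Nat.ble (nat_lit 1230) i))
noncomputable def t1234_1236 (i : ℕ) : ℕ := (@Bool.rec (fun _ => ℕ) l1234 l1235 (Nat.ble (nat_lit 1235) i))
noncomputable def t1226_1236 (i : ℕ) : ℕ := (@Bool.rec (fun _ => ℕ) (@Bool.rec (fun _ => ℕ) (@Bool.rec (fun _ => ℕ) l1226 l1227 (Nat.ble (nat_lit 1227) i)) (@Bool.rec (fun _ => ℕ) l1228 (t1229_1231 i) (Nat.ble (nat_lit 1229) i)) (Nat.ble (nat_lit 1228) i)) (@Bool.rec (fun _ => ℕ) (@Bool.rec (fun _ => ℕ) l1231 l1232 (Nat.ble (nat_lit 1232) i)) (@Bool.rec (fun _ => ℕ) l1233 (t1234_1236 i) (Nat.ble (nat_lit 1234) i)) (Nat.ble (nat_lit 1233) i)) (Nat.ble (nat_lit 1231) i))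
noncomputable def t1243_1245 (i : ℕ) : ℕ := (@Bool.rec (fun _ => ℕ) l1243 l1244 (Nat.ble (nat_lit 1244) i))
noncomputable def t1236_1245 (i : ℕ) : ℕ := (@Bool.rec (fun _ => ℕ) (@Bool.rec (fun _ => ℕ) (@Bool.rec (fun _ => ℕ) l1236 l1237 (Nat.ble (nat_lit 1237) i)) (@Bool.rec (fun _ => ℕ) l1238 l1239 (Nat.ble (nat_lit 1239) i)) (Nat.ble (nat_lit 1238) i)) (@Bool.rec (fun _ => ℕ) (@Bool.rec (fun _ => ℕ) l1240 l1241 (Nat.ble (nat_lit 1241) i)) (@Bool.rec (fun _ => ℕ) l1242 (t1243_1245 i) (Nat.ble (nat_lit 1243) i)) (Nat.ble (nat_lit 1242) i)) (Nat.ble (nat_lit 1240) i))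
noncomputable def t1252_1254 (i : ℕ) : ℕ := (@Bool.rec (fun _ => ℕ) l1252 l1253 (Nat.ble (nat_lit 1253) i))
noncomputable def t1245_1254 (i : ℕ) : ℕ := (@Bool.rec (fun _ => ℕ) (@Bool.rec (fun _ => ℕ) (@Bool.rec (fun _ => ℕ) l1245 l1246 (Nat.ble (nat_lit 1246) i)) (@Bool.rec (fun _ => ℕ) l1247 l1248 (Nat.ble (nat_lit 1248) i)) (Nat.ble (nat_lit 1247) i)) (@Bool.rec (fun _ => ℕ) (@Bool.rec (fun _ => ℕ) l1249 l1250 (Nat.ble (nat_lit 1250) i)) (@Bool.rec (fun _ => ℕ) l1251 (t1252_1254 i) (Nat.ble (nat_lit 1252) i)) (Nat.ble (nat_lit 1251) i)) (Nat.ble (nat_lit 1249) i))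
noncomputable def t1261_1263 (i : ℕ) : ℕ := (@Bool.rec (fun _ => ℕ) l1261 l1262 (Nat.ble (nat_lit 1262) i))
noncomputable def t1254_1263 (i : ℕ) : ℕ := (@Bool.rec (fun _ => ℕ) (@Bool.rec (fun _ => ℕ) (@Bool.rec (fun _ => ℕ) l1254 l1255 (Nat.ble (nat_lit 1255) i)) (@Bool.rec (fun _ => ℕ) l1256 l1257 (Nat.ble (nat_lit 1257) i)) (Nat.ble (nat_lit 1256) i)) (@Bool.rec (fun _ => ℕ) (@Bool.rec (fun _ => ℕ) l1258 l1259 (Nat.ble (nat_lit 1259) i)) (@Bool.rec (fun _ => ℕ) l1260 (t1261_1263 i) (Nat.ble (nat_lit 1261) i)) (Nat.ble (nat_lit 1260) i)) (Nat.ble (nat_lit 1258) i))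
noncomputable def t1266_1268 (i : ℕ) : ℕ := (@Bool.rec (fun _ => ℕ) l1266 l1267 (Nat.ble (nat_lit 1267) i))
noncomputable def t1271_1273 (i : ℕ) : ℕ := (@Bool.rec (fun _ => ℕ) l1271 l1272 (Nat.ble (nat_lit 1272) i))
noncomputable def t1263_1273 (i : ℕ) : ℕ := (@Bool.rec (fun _ => ℕ) (@Bool.rec (fun _ => ℕ) (@Bool.rec (fun _ => ℕ) l1263 l1264 (Nat.ble (nat_lit 1264) i)) (@Bool.rec (fun _ => ℕ) l1265 (t1266_1268 i) (Nat.ble (nat_lit 1266) i)) (Nat.ble (nat_lit 1265) i)) (@Bool.rec (fun _ => ℕ) (@Bool.rec (fun _ => ℕ) l1268 l1269 (Nat.ble (nat_lit 1269) i)) (@Bool.rec (fun _ => ℕ) l1270 (t1271_1273 i) (Nat.ble (nat_lit 1271) i)) (Nat.ble (nat_lit 1270) i)) (Nat.ble (nat_lit 1268) i))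
noncomputable def t1199_1273 (i : ℕ) : ℕ := (@Bool.rec (fun _ => ℕ) (@Bool.rec (fun _ => ℕ) (@Bool.rec (fun _ => ℕ) (t1199_1208 i) (t1208_1217 i) (Nat.ble (nat_lit 1208) i)) (@Bool.rec (fun _ => ℕ) (t1217_1226 i) (t1226_1236 i) (Nat.ble (nat_lit 1226) i)) (Nat.ble (nat_lit 1217) i)) (@Bool.rec (fun _ => ℕ) (@Bool.rec (fun _ => ℕ) (t1236_1245 i) (t1245_1254 i) (Nat.ble (nat_lit 1245) i)) (@Bool.rec (fun _ => ℕ) (t1254_1263 i) (t1263_1273 i) (Nat.ble (nat_lit 1263) i)) (Nat.ble (nat_lit 1254) i)) (Nat.ble (nat_lit 1236) i))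
noncomputable def t1280_1282 (i : ℕ) : ℕ := (@Bool.rec (fun _ => ℕ) l1280 l1281 (Nat.ble (nat_lit 1281) i))
noncomputable def t1273_1282 (i : ℕ) : ℕ := (@Bool.rec (fun _ => ℕ) (@Bool.rec (fun _ => ℕ) (@Bool.rec (fun _ => ℕ) l1273 l1274 (Nat.ble (nat_lit 1274) i)) (@Bool.rec (fun _ => ℕ) l1275 l1276 (Nat.ble (nat_lit 1276) i)) (Nat.ble (nat_lit 1275) i)) (@Bool.rec (fun _ => ℕ) (@Bool.rec (fun _ => ℕ) l1277 l1278 (Nat.ble (nat_lit 1278) i)) (@Bool.rec (fun _ => ℕ) l1279 (t1280_1282 i) (Nat.ble (nat_lit 1280) i)) (Nat.ble (nat_lit 1279) i)) (Nat.ble (nat_lit 1277) i))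
noncomputable def t1289_1291 (i : ℕ) : ℕ := (@Bool.rec (fun _ => ℕ) l1289 l1290 (Nat.ble (nat_lit 1290) i))
noncomputable def t1282_1291 (i : ℕ) : ℕ := (@Bool.rec (fun _ => ℕ) (@Bool.rec (fun _ => ℕ) (@Bool.rec (fun _ => ℕ) l1282 l1283 (Nat.ble (nat_lit 1283) i)) (@Bool.rec (fun _ => ℕ) l1284 l1285 (Nat.ble (nat_lit 1285) i)) (Nat.ble (nat_lit 1284) i)) (@Bool.rec (fun _ => ℕ) (@Bool.rec (fun _ => ℕ) l1286 l1287 (Nat.ble (nat_lit 1287) i)) (@Bool.rec (fun _ => ℕ) l1288 (t1289_1291 i) (Nat.ble (nat_lit 1289) i)) (Nat.ble (nat_lit 1288) i)) (Nat.ble (nat_lit 1286) i))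
noncomputable def t1298_1300 (i : ℕ) : ℕ := (@Bool.rec (fun _ => ℕ) l1298 l1299 (Nat.ble (nat_lit 1299) i))
noncomputable def t1291_1300 (i : ℕ) : ℕ := (@Bool.rec (fun _ => ℕ) (@Bool.rec (fun _ => ℕ) (@Bool.rec (fun _ => ℕ) l1291 l1292 (Nat.ble (nat_lit 1292) i)) (@Bool.rec (fun _ => ℕ) l1293 l1294 (Nat.ble (nat_lit 1294) i)) (Nat.ble (nat_lit 1293) i)) (@Bool.rec (fun _ => ℕ) (@Bool.rec (fun _ => ℕ) l1295 l1296 (Nat.ble (nat_lit 1296) i)) (@Bool.rec (fun _ => ℕ) l1297 (t1298_1300 i) (Nat.ble (nat_lit 1298) i)) (Nat.ble (nat_lit 1297) i)) (Nat.ble (nat_lit 1295) i))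
noncomputable def t1303_1305 (i : ℕ) : ℕ := (@Bool.rec (fun _ => ℕ) l1303 l1304 (Nat.ble (nat_lit 1304) i))
noncomputable def t1308_1310 (i : ℕ) : ℕ := (@Bool.rec (fun _ => ℕ) l1308 l1309 (Nat.ble (nat_lit 1309) i))
noncomputable def t1300_1310 (i : ℕ) : ℕ := (@Bool.rec (fun _ => ℕ) (@Bool.rec (fun _ => ℕ) (@Bool.rec (fun _ => ℕ) l1300 l1301 (Nat.ble (nat_lit 1301) i)) (@Bool.rec (fun _ => ℕ) l1302 (t1303_1305 i) (Nat.ble (nat_lit 1303) i)) (Nat.ble (nat_lit 1302) i)) (@Bool.rec (fun _ => ℕ) (@Bool.rec (fun _ => ℕ) l1305 l1306 (Nat.ble (nat_lit 1306) i)) (@Bool.rec (fun _ => ℕ) l1307 (t1308_1310 i) (Nat.ble (nat_lit 1308) i)) (Nat.ble (nat_lit 1307) i)) (Nat.ble (nat_lit 1305) i))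
noncomputable def t1317_1319 (i : ℕ) : ℕ := (@Bool.rec (fun _ => ℕ) l1317 l1318 (Nat.ble (nat_lit 1318) i))
noncomputable def t1310_1319 (i : ℕ) : ℕ := (@Bool.rec (fun _ => ℕ) (@Bool.rec (fun _ => ℕ) (@Bool.rec (fun _ => ℕ) l1310 l1311 (Nat.ble (nat_lit 1311) i)) (@Bool.rec (fun _ => ℕ) l1312 l1313 (Nat.ble (nat_lit 1313) i)) (Nat.ble (nat_lit 1312) i)) (@Bool.rec (fun _ => ℕ) (@Bool.rec (fun _ => ℕ) l1314 l1315 (Nat.ble (nat_lit 1315) i)) (@Bool.rec (fun _ => ℕ) l1316 (t1317_1319 i) (Nat.ble (nat_lit 1317) i)) (Nat.ble (nat_lit 1316) i)) (Nat.ble (nat_lit 1314) i))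
noncomputable def t1322_1324 (i : ℕ) : ℕ := (@Bool.rec (fun _ => ℕ) l1322 l1323 (Nat.ble (nat_lit 1323) i))
noncomputable def t1327_1329 (i : ℕ) : ℕ := (@Bool.rec (fun _ => ℕ) l1327 l1328 (Nat.ble (nat_lit 1328) i))
noncomputable def t1319_1329 (i : ℕ) : ℕ := (@Bool.rec (fun _ => ℕ) (@Bool.rec (fun _ => ℕ) (@Bool.rec (fun _ => ℕ) l1319 l1320 (Nat.ble (nat_lit 1320) i)) (@Bool.rec (fun _ => ℕ) l1321 (t1322_1324 i) (Nat.ble (nat_lit 1322) i)) (Nat.ble (nat_lit 1321) i)) (@Bool.rec (fun _ => ℕ) (@Bool.rec (fun _ => ℕ) l1324 l1325 (Nat.ble (nat_lit 1325) i)) (@Bool.rec (fun _ => ℕ) l1326 (t1327_1329 i) (Nat.ble (nat_lit 1327) i)) (Nat.ble (nat_lit 1326) i)) (Nat.ble (nat_lit 1324) i))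
noncomputable def t1336_1338 (i : ℕ) : ℕ := (@Bool.rec (fun _ => ℕ) l1336 l1337 (Nat.ble (nat_lit 1337) i))
noncomputable def t1329_1338 (i : ℕ) : ℕ := (@Bool.rec (fun _ => ℕ) (@Bool.rec (fun _ => ℕ) (@Bool.rec (fun _ => ℕ) l1329 l1330 (Nat.ble (nat_lit 1330) i)) (@Bool.rec (fun _ => ℕ) l1331 l1332 (Nat.ble (nat_lit 1332) i)) (Nat.ble (nat_lit 1331) i)) (@Bool.rec (fun _ => ℕ) (@Bool.rec (fun _ => ℕ) l1333 l1334 (Nat.ble (nat_lit 1334) i)) (@Bool.rec (fun _ => ℕ) l1335 (t1336_1338 i) (Nat.ble (nat_lit 1336) i)) (Nat.ble (nat_lit 1335) i)) (Nat.ble (nat_lit 1333) i))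
noncomputable def t1341_1343 (i : ℕ) : ℕ := (@Bool.rec (fun _ => ℕ) l1341 l1342 (Nat.ble (nat_lit 1342) i))
noncomputable def t1346_1348 (i : ℕ) : ℕ := (@Bool.rec (fun _ => ℕ) l1346 l1347 (Nat.ble (nat_lit 1347) i))
noncomputable def t1338_1348 (i : ℕ) : ℕ := (@Bool.rec (fun _ => ℕ) (@Bool.rec (fun _ => ℕ) (@Bool.rec (fun _ => ℕ) l1338 l1339 (Nat.ble (nat_lit 1339) i)) (@Bool.rec (fun _ => ℕ) l1340 (t1341_1343 i) (Nat.ble (nat_lit 1341) i)) (Nat.ble (nat_lit 1340) i)) (@Bool.rec (fun _ => ℕ) (@Bool.rec (fun _ => ℕ) l1343 l1344 (Nat.ble (nat_lit 1344) i)) (@Bool.rec (fun _ => ℕ) l1345 (t1346_1348 i) (Nat.ble (nat_lit 1346) i)) (Nat.ble (nat_lit 1345) i)) (Nat.ble (nat_lit 1343) i))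
noncomputable def t1273_1348 (i : ℕ) : ℕ := (@Bool.rec (fun _ => ℕ) (@Bool.rec (fun _ => ℕ) (@Bool.rec (fun _ => ℕ) (t1273_1282 i) (t1282_1291 i) (Nat.ble (nat_lit 1282) i)) (@Bool.rec (fun _ => ℕ) (t1291_1300 i) (t1300_1310 i) (Nat.ble (nat_lit 1300) i)) (Nat.ble (nat_lit 1291) i)) (@Bool.rec (fun _ => ℕ) (@Bool.rec (fun _ => ℕ) (t1310_1319 i) (t1319_1329 i) (Nat.ble (nat_lit 1319) i)) (@Bool.rec (fun _ => ℕ) (t1329_1338 i) (t1338_1348 i) (Nat.ble (nat_lit 1338) i)) (Nat.ble (nat_lit 1329) i)) (Nat.ble (nat_lit 1310) i))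
noncomputable def t1355_1357 (i : ℕ) : ℕ := (@Bool.rec (fun _ => ℕ) l1355 l1356 (Nat.ble (nat_lit 1356) i))
noncomputable def t1348_1357 (i : ℕ) : ℕ := (@Bool.rec (fun _ => ℕ) (@Bool.rec (fun _ => ℕ) (@Bool.rec (fun _ => ℕ) l1348 l1349 (Nat.ble (nat_lit 1349) i)) (@Bool.rec (fun _ => ℕ) l1350 l1351 (Nat.ble (nat_lit 1351) i)) (Nat.ble (nat_lit 1350) i)) (@Bool.rec (fun _ => ℕ) (@Bool.rec (fun _ => ℕ) l1352 l1353 (Nat.ble (nat_lit 1353) i)) (@Bool.rec (fun _ => ℕ) l1354 (t1355_1357 i) (Nat.ble (nat_lit 1355) i)) (Nat.ble (nat_lit 1354) i)) (Nat.ble (nat_lit 1352) i))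
noncomputable def t1364_1366 (i : ℕ) : ℕ := (@Bool.rec (fun _ => ℕ) l1364 l1365 (Nat.ble (nat_lit 1365) i))
noncomputable def t1357_1366 (i : ℕ) : ℕ := (@Bool.rec (fun _ => ℕ) (@Bool.rec (fun _ => ℕ) (@Bool.rec (fun _ => ℕ) l1357 l1358 (Nat.ble (nat_lit 1358) i)) (@Bool.rec (fun _ => ℕ) l1359 l1360 (Nat.ble (nat_lit 1360) i)) (Nat.ble (nat_lit 1359) i)) (@Bool.rec (fun _ => ℕ) (@Bool.rec (fun _ => ℕ) l1361 l1362 (Nat.ble (nat_lit 1362) i)) (@Bool.rec (fun _ => ℕ) l1363 (t1364_1366 i) (Nat.ble (nat_lit 1364) i)) (Nat.ble (nat_lit 1363) i)) (Nat.ble (nat_lit 1361) i))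
noncomputable def t1373_1375 (i : ℕ) : ℕ := (@Bool.rec (fun _ => ℕ) l1373 l1374 (Nat.ble (nat_lit 1374) i))
noncomputable def t1366_1375 (i : ℕ) : ℕ := (@Bool.rec (fun _ => ℕ) (@Bool.rec (fun _ => ℕ) (@Bool.rec (fun _ => ℕ) l1366 l1367 (Nat.ble (nat_lit 1367) i)) (@Bool.rec (fun _ => ℕ) l1368 l1369 (Nat.ble (nat_lit 1369) i)) (Nat.ble (nat_lit 1368) i)) (@Bool.rec (fun _ => ℕ) (@Bool.rec (fun _ => ℕ) l1370 l1371 (Nat.ble (nat_lit 1371) i)) (@Bool.rec (fun _ => ℕ) l1372 (t1373_1375 i) (Nat.ble (nat_lit 1373) i)) (Nat.ble (nat_lit 1372) i)) (Nat.ble (nat_lit 1370) i))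
noncomputable def t1378_1380 (i : ℕ) : ℕ := (@Bool.rec (fun _ => ℕ) l1378 l1379 (Nat.ble (nat_lit 1379) i))
noncomputable def t1383_1385 (i : ℕ) : ℕ := (@Bool.rec (fun _ => ℕ) l1383 l1384 (Nat.ble (nat_lit 1384) i))
noncomputable def t1375_1385 (i : ℕ) : ℕ := (@Bool.rec (fun _ => ℕ) (@Bool.rec (fun _ => ℕ) (@Bool.rec (fun _ => ℕ) l1375 l1376 (Nat.ble (nat_lit 1376) i)) (@Bool.rec (fun _ => ℕ) l1377 (t1378_1380 i) (Nat.ble (nat_lit 1378) i)) (Nat.ble (nat_lit 1377) i)) (@Bool.rec (fun _ => ℕ) (@Bool.rec (fun _ => ℕ) l1380 l1381 (Nat.ble (nat_lit 1381) i)) (@Bool.rec (fun _ => ℕ) l1382 (t1383_1385 i) (Nat.ble (nat_lit 1383) i)) (Nat.ble (nat_lit 1382) i)) (Nat.ble (nat_lit 1380) i))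
noncomputable def t1392_1394 (i : ℕ) : ℕ := (@Bool.rec (fun _ => ℕ) l1392 l1393 (Nat.ble (nat_lit 1393) i))
noncomputable def t1385_1394 (i : ℕ) : ℕ := (@Bool.rec (fun _ => ℕ) (@Bool.rec (fun _ => ℕ) (@Bool.rec (fun _ => ℕ) l1385 l1386 (Nat.ble (nat_lit 1386) i)) (@Bool.rec (fun _ => ℕ) l1387 l1388 (Nat.ble (nat_lit 1388) i)) (Nat.ble (nat_lit 1387) i)) (@Bool.rec (fun _ => ℕ) (@Bool.rec (fun _ => ℕ) l1389 l1390 (Nat.ble (nat_lit 1390) i)) (@Bool.rec (fun _ => ℕ) l1391 (t1392_1394 i) (Nat.ble (nat_lit 1392) i)) (Nat.ble (nat_lit 1391) i)) (Nat.ble (nat_lit 1389) i))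
noncomputable def t1397_1399 (i : ℕ) : ℕ := (@Bool.rec (fun _ => ℕ) l1397 l1398 (Nat.ble (nat_lit 1398) i))
noncomputable def t1402_1404 (i : ℕ) : ℕ := (@Bool.rec (fun _ => ℕ) l1402 l1403 (Nat.ble (nat_lit 1403) i))
noncomputable def t1394_1404 (i : ℕ) : ℕ := (@Bool.rec (fun _ => ℕ) (@Bool.rec (fun _ => ℕ) (@Bool.rec (fun _ => ℕ) l1394 l1395 (Nat.ble (nat_lit 1395) i)) (@Bool.rec (fun _ => ℕ) l1396 (t1397_1399 i) (Nat.ble (nat_lit 1397) i)) (Nat.ble (nat_lit 1396) i)) (@Bool.rec (fun _ => ℕ) (@Bool.rec (fun _ => ℕ) l1399 l1400 (Nat.ble (nat_lit 1400) i)) (@Bool.rec (fun _ => ℕ) l1401 (t1402_1404 i) (Nat.ble (nat_lit 1402) i)) (Nat.ble (nat_lit 1401) i)) (Nat.ble (nat_lit 1399) i))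
noncomputable def t1411_1413 (i : ℕ) : ℕ := (@Bool.rec (fun _ => ℕ) l1411 l1412 (Nat.ble (nat_lit 1412) i))
noncomputable def t1404_1413 (i : ℕ) : ℕ := (@Bool.rec (fun _ => ℕ) (@Bool.rec (fun _ => ℕ) (@Bool.rec (fun _ => ℕ) l1404 l1405 (Nat.ble (nat_lit 1405) i)) (@Bool.rec (fun _ => ℕ) l1406 l1407 (Nat.ble (nat_lit 1407) i)) (Nat.ble (nat_lit 1406) i)) (@Bool.rec (fun _ => ℕ) (@Bool.rec (fun _ => ℕ) l1408 l1409 (Nat.ble (nat_lit 1409) i)) (@Bool.rec (fun _ => ℕ) l1410 (t1411_1413 i) (Nat.ble (nat_lit 1411) i)) (Nat.ble (nat_lit 1410) i)) (Nat.ble (nat_lit 1408) i))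
noncomputable def t1416_1418 (i : ℕ) : ℕ := (@Bool.rec (fun _ => ℕ) l1416 l1417 (Nat.ble (nat_lit 1417) i))
noncomputable def t1421_1423 (i : ℕ) : ℕ := (@Bool.rec (fun _ => ℕ) l1421 l1422 (Nat.ble (nat_lit 1422) i))
noncomputable def t1413_1423 (i : ℕ) : ℕ := (@Bool.rec (fun _ => ℕ) (@Bool.rec (fun _ => ℕ) (@Bool.rec (fun _ => ℕ) l1413 l1414 (Nat.ble (nat_lit 1414) i)) (@Bool.rec (fun _ => ℕ) l1415 (t1416_1418 i) (Nat.ble (nat_lit 1416) i)) (Nat.ble (nat_lit 1415) i)) (@Bool.rec (fun _ => ℕ) (@Bool.rec (fun _ => ℕ) l1418 l1419 (Nat.ble (nat_lit 1419) i)) (@Bool.rec (fun _ => ℕ) l1420 (t1421_1423 i) (Nat.ble (nat_lit 1421) i)) (Nat.ble (nat_lit 1420) i)) (Nat.ble (nat_lit 1418) i))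
noncomputable def t1348_1423 (i : ℕ) : ℕ := (@Bool.rec (fun _ => ℕ) (@Bool.rec (fun _ => ℕ) (@Bool.rec (fun _ => ℕ) (t1348_1357 i) (t1357_1366 i) (Nat.ble (nat_lit 1357) i)) (@Bool.rec (fun _ => ℕ) (t1366_1375 i) (t1375_1385 i) (Nat.ble (nat_lit 1375) i)) (Nat.ble (nat_lit 1366) i)) (@Bool.rec (fun _ => ℕ) (@Bool.rec (fun _ => ℕ) (t1385_1394 i) (t1394_1404 i) (Nat.ble (nat_lit 1394) i)) (@Bool.rec (fun _ => ℕ) (t1404_1413 i) (t1413_1423 i) (Nat.ble (nat_lit 1413) i)) (Nat.ble (nat_lit 1404) i)) (Nat.ble (nat_lit 1385) i))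
noncomputable def t1430_1432 (i : ℕ) : ℕ := (@Bool.rec (fun _ => ℕ) l1430 l1431 (Nat.ble (nat_lit 1431) i))
noncomputable def t1423_1432 (i : ℕ) : ℕ := (@Bool.rec (fun _ => ℕ) (@Bool.rec (fun _ => ℕ) (@Bool.rec (fun _ => ℕ) l1423 l1424 (Nat.ble (nat_lit 1424) i)) (@Bool.rec (fun _ => ℕ) l1425 l1426 (Nat.ble (nat_lit 1426) i)) (Nat.ble (nat_lit 1425) i)) (@Bool.rec (fun _ => ℕ) (@Bool.rec (fun _ => ℕ) l1427 l1428 (Nat.ble (nat_lit 1428) i)) (@Bool.rec (fun _ => ℕ) l1429 (t1430_1432 i) (Nat.ble (nat_lit 1430) i)) (Nat.ble (nat_lit 1429) i)) (Nat.ble (nat_lit 1427) i))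
noncomputable def t1439_1441 (i : ℕ) : ℕ := (@Bool.rec (fun _ => ℕ) l1439 l1440 (Nat.ble (nat_lit 1440) i))
noncomputable def t1432_1441 (i : ℕ) : ℕ := (@Bool.rec (fun _ => ℕ) (@Bool.rec (fun _ => ℕ) (@Bool.rec (fun _ => ℕ) l1432 l1433 (Nat.ble (nat_lit 1433) i)) (@Bool.rec (fun _ => ℕ) l1434 l1435 (Nat.ble (nat_lit 1435) i)) (Nat.ble (nat_lit 1434) i)) (@Bool.rec (fun _ => ℕ) (@Bool.rec (fun _ => ℕ) l1436 l1437 (Nat.ble (nat_lit 1437) i)) (@Bool.rec (fun _ => ℕ) l1438 (t1439_1441 i) (Nat.ble (nat_lit 1439) i)) (Nat.ble (nat_lit 1438) i)) (Nat.ble (nat_lit 1436) i))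
noncomputable def t1448_1450 (i : ℕ) : ℕ := (@Bool.rec (fun _ => ℕ) l1448 l1449 (Nat.ble (nat_lit 1449) i))
noncomputable def t1441_1450 (i : ℕ) : ℕ := (@Bool.rec (fun _ => ℕ) (@Bool.rec (fun _ => ℕ) (@Bool.rec (fun _ => ℕ) l1441 l1442 (Nat.ble (nat_lit 1442) i)) (@Bool.rec (fun _ => ℕ) l1443 l1444 (Nat.ble (nat_lit 1444) i)) (Nat.ble (nat_lit 1443) i)) (@Bool.rec (fun _ => ℕ) (@Bool.rec (fun _ => ℕ) l1445 l1446 (Nat.ble (nat_lit 1446) i)) (@Bool.rec (fun _ => ℕ) l1447 (t1448_1450 i) (Nat.ble (nat_lit 1448) i)) (Nat.ble (nat_lit 1447) i)) (Nat.ble (nat_lit 1445) i))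
noncomputable def t1453_1455 (i : ℕ) : ℕ := (@Bool.rec (fun _ => ℕ) l1453 l1454 (Nat.ble (nat_lit 1454) i))
noncomputable def t1458_1460 (i : ℕ) : ℕ := (@Bool.rec (fun _ => ℕ) l1458 l1459 (Nat.ble (nat_lit 1459) i))
noncomputable def t1450_1460 (i : ℕ) : ℕ := (@Bool.rec (fun _ => ℕ) (@Bool.rec (fun _ => ℕ) (@Bool.rec (fun _ => ℕ) l1450 l1451 (Nat.ble (nat_lit 1451) i)) (@Bool.rec (fun _ => ℕ) l1452 (t1453_1455 i) (Nat.ble (nat_lit 1453) i)) (Nat.ble (nat_lit 1452) i)) (@Bool.rec (fun _ => ℕ) (@Bool.rec (fun _ => ℕ) l1455 l1456 (Nat.ble (nat_lit 1456) i)) (@Bool.rec (fun _ => ℕ) l1457 (t1458_1460 i) (Nat.ble (nat_lit 1458) i)) (Nat.ble (nat_lit 1457) i)) (Nat.ble (nat_lit 1455) i))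
noncomputable def t1467_1469 (i : ℕ) : ℕ := (@Bool.rec (fun _ => ℕ) l1467 l1468 (Nat.ble (nat_lit 1468) i))
noncomputable def t1460_1469 (i : ℕ) : ℕ := (@Bool.rec (fun _ => ℕ) (@Bool.rec (fun _ => ℕ) (@Bool.rec (fun _ => ℕ) l1460 l1461 (Nat.ble (nat_lit 1461) i)) (@Bool.rec (fun _ => ℕ) l1462 l1463 (Nat.ble (nat_lit 1463) i)) (Nat.ble (nat_lit 1462) i)) (@Bool.rec (fun _ => ℕ) (@Bool.rec (fun _ => ℕ) l1464 l1465 (Nat.ble (nat_lit 1465) i)) (@Bool.rec (fun _ => ℕ) l1466 (t1467_1469 i) (Nat.ble (nat_lit 1467) i)) (Nat.ble (nat_lit 1466) i)) (Nat.ble (nat_lit 1464) i))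
noncomputable def t1472_1474 (i : ℕ) : ℕ := (@Bool.rec (fun _ => ℕ) l1472 l1473 (Nat.ble (nat_lit 1473) i))
noncomputable def t1477_1479 (i : ℕ) : ℕ := (@Bool.rec (fun _ => ℕ) l1477 l1478 (Nat.ble (nat_lit 1478) i))
noncomputable def t1469_1479 (i : ℕ) : ℕ := (@Bool.rec (fun _ => ℕ) (@Bool.rec (fun _ => ℕ) (@Bool.rec (fun _ => ℕ) l1469 l1470 (Nat.ble (nat_lit 1470) i)) (@Bool.rec (fun _ => ℕ) l1471 (t1472_1474 i) (Nat.ble (nat_lit 1472) i)) (Nat.ble (nat_lit 1471) i)) (@Bool.rec (fun _ => ℕ) (@Bool.rec (fun _ => ℕ) l1474 l1475 (Nat.ble (nat_lit 1475) i)) (@Bool.rec (fun _ => ℕ) l1476 (t1477_1479 i) (Nat.ble (nat_lit 1477) i)) (Nat.ble (nat_lit 1476) i)) (Nat.ble (nat_lit 1474) i))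
noncomputable def t1486_1488 (i : ℕ) : ℕ := (@Bool.rec (fun _ => ℕ) l1486 l1487 (Nat.ble (nat_lit 1487) i))
noncomputable def t1479_1488 (i : ℕ) : ℕ := (@Bool.rec (fun _ => ℕ) (@Bool.rec (fun _ => ℕ) (@Bool.rec (fun _ => ℕ) l1479 l1480 (Nat.ble (nat_lit 1480) i)) (@Bool.rec (fun _ => ℕ) l1481 l1482 (Nat.ble (nat_lit 1482) i)) (Nat.ble (nat_lit 1481) i)) (@Bool.rec (fun _ => ℕ) (@Bool.rec (fun _ => ℕ) l1483 l1484 (Nat.ble (nat_lit 1484) i)) (@Bool.rec (fun _ => ℕ) l1485 (t1486_1488 i) (Nat.ble (nat_lit 1486) i)) (Nat.ble (nat_lit 1485) i)) (Nat.ble (nat_lit 1483) i))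
noncomputable def t1491_1493 (i : ℕ) : ℕ := (@Bool.rec (fun _ => ℕ) l1491 l1492 (Nat.ble (nat_lit 1492) i))
noncomputable def t1496_1498 (i : ℕ) : ℕ := (@Bool.rec (fun _ => ℕ) l1496 l1497 (Nat.ble (nat_lit 1497) i))
noncomputable def t1488_1498 (i : ℕ) : ℕ := (@Bool.rec (fun _ => ℕ) (@Bool.rec (fun _ => ℕ) (@Bool.rec (fun _ => ℕ) l1488 l1489 (Nat.ble (nat_lit 1489) i)) (@Bool.rec (fun _ => ℕ) l1490 (t1491_1493 i) (Nat.ble (nat_lit 1491) i)) (Nat.ble (nat_lit 1490) i)) (@Bool.rec (fun _ => ℕ) (@Bool.rec (fun _ => ℕ) l1493 l1494 (Nat.ble (nat_lit 1494) i)) (@Bool.rec (fun _ => ℕ) l1495 (t1496_1498 i) (Nat.ble (nat_lit 1496) i)) (Nat.ble (nat_lit 1495) i)) (Nat.ble (nat_lit 1493) i))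
noncomputable def t1423_1498 (i : ℕ) : ℕ := (@Bool.rec (fun _ => ℕ) (@Bool.rec (fun _ => ℕ) (@Bool.rec (fun _ => ℕ) (t1423_1432 i) (t1432_1441 i) (Nat.ble (nat_lit 1432) i)) (@Bool.rec (fun _ => ℕ) (t1441_1450 i) (t1450_1460 i) (Nat.ble (nat_lit 1450) i)) (Nat.ble (nat_lit 1441) i)) (@Bool.rec (fun _ => ℕ) (@Bool.rec (fun _ => ℕ) (t1460_1469 i) (t1469_1479 i) (Nat.ble (nat_lit 1469) i)) (@Bool.rec (fun _ => ℕ) (t1479_1488 i) (t1488_1498 i) (Nat.ble (nat_lit 1488) i)) (Nat.ble (nat_lit 1479) i)) (Nat.ble (nat_lit 1460) i))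
noncomputable def t1505_1507 (i : ℕ) : ℕ := (@Bool.rec (fun _ => ℕ) l1505 l1506 (Nat.ble (nat_lit 1506) i))
noncomputable def t1498_1507 (i : ℕ) : ℕ := (@Bool.rec (fun _ => ℕ) (@Bool.rec (fun _ => ℕ) (@Bool.rec (fun _ => ℕ) l1498 l1499 (Nat.ble (nat_lit 1499) i)) (@Bool.rec (fun _ => ℕ) l1500 l1501 (Nat.ble (nat_lit 1501) i)) (Nat.ble (nat_lit 1500) i)) (@Bool.rec (fun _ => ℕ) (@Bool.rec (fun _ => ℕ) l1502 l1503 (Nat.ble (nat_lit 1503) i)) (@Bool.rec (fun _ => ℕ) l1504 (t1505_1507 i) (Nat.ble (nat_lit 1505) i)) (Nat.ble (nat_lit 1504) i)) (Nat.ble (nat_lit 1502) i))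
noncomputable def t1514_1516 (i : ℕ) : ℕ := (@Bool.rec (fun _ => ℕ) l1514 l1515 (Nat.ble (nat_lit 1515) i))
noncomputable def t1507_1516 (i : ℕ) : ℕ := (@Bool.rec (fun _ => ℕ) (@Bool.rec (fun _ => ℕ) (@Bool.rec (fun _ => ℕ) l1507 l1508 (Nat.ble (nat_lit 1508) i)) (@Bool.rec (fun _ => ℕ) l1509 l1510 (Nat.ble (nat_lit 1510) i)) (Nat.ble (nat_lit 1509) i)) (@Bool.rec (fun _ => ℕ) (@Bool.rec (fun _ => ℕ) l1511 l1512 (Nat.ble (nat_lit 1512) i)) (@Bool.rec (fun _ => ℕ) l1513 (t1514_1516 i) (Nat.ble (nat_lit 1514) i)) (Nat.ble (nat_lit 1513) i)) (Nat.ble (nat_lit 1511) i))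
noncomputable def t1523_1525 (i : ℕ) : ℕ := (@Bool.rec (fun _ => ℕ) l1523 l1524 (Nat.ble (nat_lit 1524) i))
noncomputable def t1516_1525 (i : ℕ) : ℕ := (@Bool.rec (fun _ => ℕ) (@Bool.rec (fun _ => ℕ) (@Bool.rec (fun _ => ℕ) l1516 l1517 (Nat.ble (nat_lit 1517) i)) (@Bool.rec (fun _ => ℕ) l1518 l1519 (Nat.ble (nat_lit 1519) i)) (Nat.ble (nat_lit 1518) i)) (@Bool.rec (fun _ => ℕ) (@Bool.rec (fun _ => ℕ) l1520 l1521 (Nat.ble (nat_lit 1521) i)) (@Bool.rec (fun _ => ℕ) l1522 (t1523_1525 i) (Nat.ble (nat_lit 1523) i)) (Nat.ble (nat_lit 1522) i)) (Nat.ble (nat_lit 1520) i))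
noncomputable def t1528_1530 (i : ℕ) : ℕ := (@Bool.rec (fun _ => ℕ) l1528 l1529 (Nat.ble (nat_lit 1529) i))
noncomputable def t1533_1535 (i : ℕ) : ℕ := (@Bool.rec (fun _ => ℕ) l1533 l1534 (Nat.ble (nat_lit 1534) i))
noncomputable def t1525_1535 (i : ℕ) : ℕ := (@Bool.rec (fun _ => ℕ) (@Bool.rec (fun _ => ℕ) (@Bool.rec (fun _ => ℕ) l1525 l1526 (Nat.ble (nat_lit 1526) i)) (@Bool.rec (fun _ => ℕ) l1527 (t1528_1530 i) (Nat.ble (nat_lit 1528) i)) (Nat.ble (nat_lit 1527) i)) (@Bool.rec (fun _ => ℕ) (@Bool.rec (fun _ => ℕ) l1530 l1531 (Nat.ble (nat_lit 1531) i)) (@Bool.rec (fun _ => ℕ) l1532 (t1533_1535 i) (Nat.ble (nat_lit 1533) i)) (Nat.ble (nat_lit 1532) i)) (Nat.ble (nat_lit 1530) i))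
noncomputable def t1542_1544 (i : ℕ) : ℕ := (@Bool.rec (fun _ => ℕ) l1542 l1543 (Nat.ble (nat_lit 1543) i))
noncomputable def t1535_1544 (i : ℕ) : ℕ := (@Bool.rec (fun _ => ℕ) (@Bool.rec (fun _ => ℕ) (@Bool.rec (fun _ => ℕ) l1535 l1536 (Nat.ble (nat_lit 1536) i)) (@Bool.rec (fun _ => ℕ) l1537 l1538 (Nat.ble (nat_lit 1538) i)) (Nat.ble (nat_lit 1537) i)) (@Bool.rec (fun _ => ℕ) (@Bool.rec (fun _ => ℕ) l1539 l1540 (Nat.ble (nat_lit 1540) i)) (@Bool.rec (fun _ => ℕ) l1541 (t1542_1544 i) (Nat.ble (nat_lit 1542) i)) (Nat.ble (nat_lit 1541) i)) (Nat.ble (nat_lit 1539) i))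
noncomputable def t1547_1549 (i : ℕ) : ℕ := (@Bool.rec (fun _ => ℕ) l1547 l1548 (Nat.ble (nat_lit 1548) i))
noncomputable def t1552_1554 (i : ℕ) : ℕ := (@Bool.rec (fun _ => ℕ) l1552 l1553 (Nat.ble (nat_lit 1553) i))
noncomputable def t1544_1554 (i : ℕ) : ℕ := (@Bool.rec (fun _ => ℕ) (@Bool.rec (fun _ => ℕ) (@Bool.rec (fun _ => ℕ) l1544 l1545 (Nat.ble (nat_lit 1545) i)) (@Bool.rec (fun _ => ℕ) l1546 (t1547_1549 i) (Nat.ble (nat_lit 1547) i)) (Nat.ble (nat_lit 1546) i)) (@Bool.rec (fun _ => ℕ) (@Bool.rec (fun _ => ℕ) l1549 l1550 (Nat.ble (nat_lit 1550) i)) (@Bool.rec (fun _ => ℕ) l1551 (t1552_1554 i) (Nat.ble (nat_lit 1552) i)) (Nat.ble (nat_lit 1551) i)) (Nat.ble (nat_lit 1549) i))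
noncomputable def t1561_1563 (i : ℕ) : ℕ := (@Bool.rec (fun _ => ℕ) l1561 l1562 (Nat.ble (nat_lit 1562) i))
noncomputable def t1554_1563 (i : ℕ) : ℕ := (@Bool.rec (fun _ => ℕ) (@Bool.rec (fun _ => ℕ) (@Bool.rec (fun _ => ℕ) l1554 l1555 (Nat.ble (nat_lit 1555) i)) (@Bool.rec (fun _ => ℕ) l1556 l1557 (Nat.ble (nat_lit 1557) i)) (Nat.ble (nat_lit 1556) i)) (@Bool.rec (fun _ => ℕ) (@Bool.rec (fun _ => ℕ) l1558 l1559 (Nat.ble (nat_lit 1559) i)) (@Bool.rec (fun _ => ℕ) l1560 (t1561_1563 i) (Nat.ble (nat_lit 1561) i)) (Nat.ble (nat_lit 1560) i)) (Nat.ble (nat_lit 1558) i))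
noncomputable def t1566_1568 (i : ℕ) : ℕ := (@Bool.rec (fun _ => ℕ) l1566 l1567 (Nat.ble (nat_lit 1567) i))
noncomputable def t1571_1573 (i : ℕ) : ℕ := (@Bool.rec (fun _ => ℕ) l1571 l1572 (Nat.ble (nat_lit 1572) i))
noncomputable def t1563_1573 (i : ℕ) : ℕ := (@Bool.rec (fun _ => ℕ) (@Bool.rec (fun _ => ℕ) (@Bool.rec (fun _ => ℕ) l1563 l1564 (Nat.ble (nat_lit 1564) i)) (@Bool.rec (fun _ => ℕ) l1565 (t1566_1568 i) (Nat.ble (nat_lit 1566) i)) (Nat.ble (nat_lit 1565) i)) (@Bool.rec (fun _ => ℕ) (@Bool.rec (fun _ => ℕ) l1568 l1569 (Nat.ble (nat_lit 1569) i)) (@Bool.rec (fun _ => ℕ) l1570 (t1571_1573 i) (Nat.ble (nat_lit 1571) i)) (Nat.ble (nat_lit 1570) i)) (Nat.ble (nat_lit 1568) i))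
noncomputable def t1498_1573 (i : ℕ) : ℕ := (@Bool.rec (fun _ => ℕ) (@Bool.rec (fun _ => ℕ) (@Bool.rec (fun _ => ℕ) (t1498_1507 i) (t1507_1516 i) (Nat.ble (nat_lit 1507) i)) (@Bool.rec (fun _ => ℕ) (t1516_1525 i) (t1525_1535 i) (Nat.ble (nat_lit 1525) i)) (Nat.ble (nat_lit 1516) i)) (@Bool.rec (fun _ => ℕ) (@Bool.rec (fun _ => ℕ) (t1535_1544 i) (t1544_1554 i) (Nat.ble (nat_lit 1544) i)) (@Bool.rec (fun _ => ℕ) (t1554_1563 i) (t1563_1573 i) (Nat.ble (nat_lit 1563) i)) (Nat.ble (nat_lit 1554) i)) (Nat.ble (nat_lit 1535) i))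
noncomputable def t1580_1582 (i : ℕ) : ℕ := (@Bool.rec (fun _ => ℕ) l1580 l1581 (Nat.ble (nat_lit 1581) i))
noncomputable def t1573_1582 (i : ℕ) : ℕ := (@Bool.rec (fun _ => ℕ) (@Bool.rec (fun _ => ℕ) (@Bool.rec (fun _ => ℕ) l1573 l1574 (Nat.ble (nat_lit 1574) i)) (@Bool.rec (fun _ => ℕ) l1575 l1576 (Nat.ble (nat_lit 1576) i)) (Nat.ble (nat_lit 1575) i)) (@Bool.rec (fun _ => ℕ) (@Bool.rec (fun _ => ℕ) l1577 l1578 (Nat.ble (nat_lit 1578) i)) (@Bool.rec (fun _ => ℕ) l1579 (t1580_1582 i) (Nat.ble (nat_lit 1580) i)) (Nat.ble (nat_lit 1579) i)) (Nat.ble (nat_lit 1577) i))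
noncomputable def t1589_1591 (i : ℕ) : ℕ := (@Bool.rec (fun _ => ℕ) l1589 l1590 (Nat.ble (nat_lit 1590) i))
noncomputable def t1582_1591 (i : ℕ) : ℕ := (@Bool.rec (fun _ => ℕ) (@Bool.rec (fun _ => ℕ) (@Bool.rec (fun _ => ℕ) l1582 l1583 (Nat.ble (nat_lit 1583) i)) (@Bool.rec (fun _ => ℕ) l1584 l1585 (Nat.ble (nat_lit 1585) i)) (Nat.ble (nat_lit 1584) i)) (@Bool.rec (fun _ => ℕ) (@Bool.rec (fun _ => ℕ) l1586 l1587 (Nat.ble (nat_lit 1587) i)) (@Bool.rec (fun _ => ℕ) l1588 (t1589_1591 i) (Nat.ble (nat_lit 1589) i)) (Nat.ble (nat_lit 1588) i)) (Nat.ble (nat_lit 1586) i))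
noncomputable def t1598_1600 (i : ℕ) : ℕ := (@Bool.rec (fun _ => ℕ) l1598 l1599 (Nat.ble (nat_lit 1599) i))
noncomputable def t1591_1600 (i : ℕ) : ℕ := (@Bool.rec (fun _ => ℕ) (@Bool.rec (fun _ => ℕ) (@Bool.rec (fun _ => ℕ) l1591 l1592 (Nat.ble (nat_lit 1592) i)) (@Bool.rec (fun _ => ℕ) l1593 l1594 (Nat.ble (nat_lit 1594) i)) (Nat.ble (nat_lit 1593) i)) (@Bool.rec (fun _ => ℕ) (@Bool.rec (fun _ => ℕ) l1595 l1596 (Nat.ble (nat_lit 1596) i)) (@Bool.rec (fun _ => ℕ) l1597 (t1598_1600 i) (Nat.ble (nat_lit 1598) i)) (Nat.ble (nat_lit 1597) i)) (Nat.ble (nat_lit 1595) i))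
noncomputable def t1603_1605 (i : ℕ) : ℕ := (@Bool.rec (fun _ => ℕ) l1603 l1604 (Nat.ble (nat_lit 1604) i))
noncomputable def t1608_1610 (i : ℕ) : ℕ := (@Bool.rec (fun _ => ℕ) l1608 l1609 (Nat.ble (nat_lit 1609) i))
noncomputable def t1600_1610 (i : ℕ) : ℕ := (@Bool.rec (fun _ => ℕ) (@Bool.rec (fun _ => ℕ) (@Bool.rec (fun _ => ℕ) l1600 l1601 (Nat.ble (nat_lit 1601) i)) (@Bool.rec (fun _ => ℕ) l1602 (t1603_1605 i) (Nat.ble (nat_lit 1603) i)) (Nat.ble (nat_lit 1602) i)) (@Bool.rec (fun _ => ℕ) (@Bool.rec (fun _ => ℕ) l1605 l1606 (Nat.ble (nat_lit 1606) i)) (@Bool.rec (fun _ => ℕ) l1607 (t1608_1610 i) (Nat.ble (nat_lit 1608) i)) (Nat.ble (nat_lit 1607) i)) (Nat.ble (nat_lit 1605) i))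
noncomputable def t1617_1619 (i : ℕ) : ℕ := (@Bool.rec (fun _ => ℕ) l1617 l1618 (Nat.ble (nat_lit 1618) i))
noncomputable def t1610_1619 (i : ℕ) : ℕ := (@Bool.rec (fun _ => ℕ) (@Bool.rec (fun _ => ℕ) (@Bool.rec (fun _ => ℕ) l1610 l1611 (Nat.ble (nat_lit 1611) i)) (@Bool.rec (fun _ => ℕ) l1612 l1613 (Nat.ble (nat_lit 1613) i)) (Nat.ble (nat_lit 1612) i)) (@Bool.rec (fun _ => ℕ) (@Bool.rec (fun _ => ℕ) l1614 l1615 (Nat.ble (nat_lit 1615) i)) (@Bool.rec (fun _ => ℕ) l1616 (t1617_1619 i) (Nat.ble (nat_lit 1617) i)) (Nat.ble (nat_lit 1616) i)) (Nat.ble (nat_lit 1614) i))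
noncomputable def t1622_1624 (i : ℕ) : ℕ := (@Bool.rec (fun _ => ℕ) l1622 l1623 (Nat.ble (nat_lit 1623) i))
noncomputable def t1627_1629 (i : ℕ) : ℕ := (@Bool.rec (fun _ => ℕ) l1627 l1628 (Nat.ble (nat_lit 1628) i))
noncomputable def t1619_1629 (i : ℕ) : ℕ := (@Bool.rec (fun _ => ℕ) (@Bool.rec (fun _ => ℕ) (@Bool.rec (fun _ => ℕ) l1619 l1620 (Nat.ble (nat_lit 1620) i)) (@Bool.rec (fun _ => ℕ) l1621 (t1622_1624 i) (Nat.ble (nat_lit 1622) i)) (Nat.ble (nat_lit 1621) i)) (@Bool.rec (fun _ => ℕ) (@Bool.rec (fun _ => ℕ) l1624 l1625 (Nat.ble (nat_lit 1625) i)) (@Bool.rec (fun _ => ℕ) l1626 (t1627_1629 i) (Nat.ble (nat_lit 1627) i)) (Nat.ble (nat_lit 1626) i)) (Nat.ble (nat_lit 1624) i))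
noncomputable def t1636_1638 (i : ℕ) : ℕ := (@Bool.rec (fun _ => ℕ) l1636 l1637 (Nat.ble (nat_lit 1637) i))
noncomputable def t1629_1638 (i : ℕ) : ℕ := (@Bool.rec (fun _ => ℕ) (@Bool.rec (fun _ => ℕ) (@Bool.rec (fun _ => ℕ) l1629 l1630 (Nat.ble (nat_lit 1630) i)) (@Bool.rec (fun _ => ℕ) l1631 l1632 (Nat.ble (nat_lit 1632) i)) (Nat.ble (nat_lit 1631) i)) (@Bool.rec (fun _ => ℕ) (@Bool.rec (fun _ => ℕ) l1633 l1634 (Nat.ble (nat_lit 1634) i)) (@Bool.rec (fun _ => ℕ) l1635 (t1636_1638 i) (Nat.ble (nat_lit 1636) i)) (Nat.ble (nat_lit 1635) i)) (Nat.ble (nat_lit 1633) i))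
noncomputable def t1641_1643 (i : ℕ) : ℕ := (@Bool.rec (fun _ => ℕ) l1641 l1642 (Nat.ble (nat_lit 1642) i))
noncomputable def t1646_1648 (i : ℕ) : ℕ := (@Bool.rec (fun _ => ℕ) l1646 l1647 (Nat.ble (nat_lit 1647) i))
noncomputable def t1638_1648 (i : ℕ) : ℕ := (@Bool.rec (fun _ => ℕ) (@Bool.rec (fun _ => ℕ) (@Bool.rec (fun _ => ℕ) l1638 l1639 (Nat.ble (nat_lit 1639) i)) (@Bool.rec (fun _ => ℕ) l1640 (t1641_1643 i) (Nat.ble (nat_lit 1641) i)) (Nat.ble (nat_lit 1640) i)) (@Bool.rec (fun _ => ℕ) (@Bool.rec (fun _ => ℕ) l1643 l1644 (Nat.ble (nat_lit 1644) i)) (@Bool.rec (fun _ => ℕ) l1645 (t1646_1648 i) (Nat.ble (nat_lit 1646) i)) (Nat.ble (nat_lit 1645) i)) (Nat.ble (nat_lit 1643) i))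
noncomputable def t1573_1648 (i : ℕ) : ℕ := (@Bool.rec (fun _ => ℕ) (@Bool.rec (fun _ => ℕ) (@Bool.rec (fun _ => ℕ) (t1573_1582 i) (t1582_1591 i) (Nat.ble (nat_lit 1582) i)) (@Bool.rec (fun _ => ℕ) (t1591_1600 i) (t1600_1610 i) (Nat.ble (nat_lit 1600) i)) (Nat.ble (nat_lit 1591) i)) (@Bool.rec (fun _ => ℕ) (@Bool.rec (fun _ => ℕ) (t1610_1619 i) (t1619_1629 i) (Nat.ble (nat_lit 1619) i)) (@Bool.rec (fun _ => ℕ) (t1629_1638 i) (t1638_1648 i) (Nat.ble (nat_lit 1638) i)) (Nat.ble (nat_lit 1629) i)) (Nat.ble (nat_lit 1610) i))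
noncomputable def t1655_1657 (i : ℕ) : ℕ := (@Bool.rec (fun _ => ℕ) l1655 l1656 (Nat.ble (nat_lit 1656) i))
noncomputable def t1648_1657 (i : ℕ) : ℕ := (@Bool.rec (fun _ => ℕ) (@Bool.rec (fun _ => ℕ) (@Bool.rec (fun _ => ℕ) l1648 l1649 (Nat.ble (nat_lit 1649) i)) (@Bool.rec (fun _ => ℕ) l1650 l1651 (Nat.ble (nat_lit 1651) i)) (Nat.ble (nat_lit 1650) i)) (@Bool.rec (fun _ => ℕ) (@Bool.rec (fun _ => ℕ) l1652 l1653 (Nat.ble (nat_lit 1653) i)) (@Bool.rec (fun _ => ℕ) l1654 (t1655_1657 i) (Nat.ble (nat_lit 1655) i)) (Nat.ble (nat_lit 1654) i)) (Nat.ble (nat_lit 1652) i))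
noncomputable def t1664_1666 (i : ℕ) : ℕ := (@Bool.rec (fun _ => ℕ) l1664 l1665 (Nat.ble (nat_lit 1665) i))
noncomputable def t1657_1666 (i : ℕ) : ℕ := (@Bool.rec (fun _ => ℕ) (@Bool.rec (fun _ => ℕ) (@Bool.rec (fun _ => ℕ) l1657 l1658 (Nat.ble (nat_lit 1658) i)) (@Bool.rec (fun _ => ℕ) l1659 l1660 (Nat.ble (nat_lit 1660) i)) (Nat.ble (nat_lit 1659) i)) (@Bool.rec (fun _ => ℕ) (@Bool.rec (fun _ => ℕ) l1661 l1662 (Nat.ble (nat_lit 1662) i)) (@Bool.rec (fun _ => ℕ) l1663 (t1664_1666 i) (Nat.ble (nat_lit 1664) i)) (Nat.ble (nat_lit 1663) i)) (Nat.ble (nat_lit 1661) i))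
noncomputable def t1673_1675 (i : ℕ) : ℕ := (@Bool.rec (fun _ => ℕ) l1673 l1674 (Nat.ble (nat_lit 1674) i))
noncomputable def t1666_1675 (i : ℕ) : ℕ := (@Bool.rec (fun _ => ℕ) (@Bool.rec (fun _ => ℕ) (@Bool.rec (fun _ => ℕ) l1666 l1667 (Nat.ble (nat_lit 1667) i)) (@Bool.rec (fun _ => ℕ) l1668 l1669 (Nat.ble (nat_lit 1669) i)) (Nat.ble (nat_lit 1668) i)) (@Bool.rec (fun _ => ℕ) (@Bool.rec (fun _ => ℕ) l1670 l1671 (Nat.ble (nat_lit 1671) i)) (@Bool.rec (fun _ => ℕ) l1672 (t1673_1675 i) (Nat.ble (nat_lit 1673) i)) (Nat.ble (nat_lit 1672) i)) (Nat.ble (nat_lit 1670) i))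
noncomputable def t1678_1680 (i : ℕ) : ℕ := (@Bool.rec (fun _ => ℕ) l1678 l1679 (Nat.ble (nat_lit 1679) i))
noncomputable def t1683_1685 (i : ℕ) : ℕ := (@Bool.rec (fun _ => ℕ) l1683 l1684 (Nat.ble (nat_lit 1684) i))
noncomputable def t1675_1685 (i : ℕ) : ℕ := (@Bool.rec (fun _ => ℕ) (@Bool.rec (fun _ => ℕ) (@Bool.rec (fun _ => ℕ) l1675 l1676 (Nat.ble (nat_lit 1676) i)) (@Bool.rec (fun _ => ℕ) l1677 (t1678_1680 i) (Nat.ble (nat_lit 1678) i)) (Nat.ble (nat_lit 1677) i)) (@Bool.rec (fun _ => ℕ) (@Bool.rec (fun _ => ℕ) l1680 l1681 (Nat.ble (nat_lit 1681) i)) (@Bool.rec (fun _ => ℕ) l1682 (t1683_1685 i) (Nat.ble (nat_lit 1683) i)) (Nat.ble (nat_lit 1682) i)) (Nat.ble (nat_lit 1680) i))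
noncomputable def t1692_1694 (i : ℕ) : ℕ := (@Bool.rec (fun _ => ℕ) l1692 l1693 (Nat.ble (nat_lit 1693) i))
noncomputable def t1685_1694 (i : ℕ) : ℕ := (@Bool.rec (fun _ => ℕ) (@Bool.rec (fun _ => ℕ) (@Bool.rec (fun _ => ℕ) l1685 l1686 (Nat.ble (nat_lit 1686) i)) (@Bool.rec (fun _ => ℕ) l1687 l1688 (Nat.ble (nat_lit 1688) i)) (Nat.ble (nat_lit 1687) i)) (@Bool.rec (fun _ => ℕ) (@Bool.rec (fun _ => ℕ) l1689 l1690 (Nat.ble (nat_lit 1690) i)) (@Bool.rec (fun _ => ℕ) l1691 (t1692_1694 i) (Nat.ble (nat_lit 1692) i)) (Nat.ble (nat_lit 1691) i)) (Nat.ble (nat_lit 1689) i))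
noncomputable def t1697_1699 (i : ℕ) : ℕ := (@Bool.rec (fun _ => ℕ) l1697 l1698 (Nat.ble (nat_lit 1698) i))
noncomputable def t1702_1704 (i : ℕ) : ℕ := (@Bool.rec (fun _ => ℕ) l1702 l1703 (Nat.ble (nat_lit 1703) i))
noncomputable def t1694_1704 (i : ℕ) : ℕ := (@Bool.rec (fun _ => ℕ) (@Bool.rec (fun _ => ℕ) (@Bool.rec (fun _ => ℕ) l1694 l1695 (Nat.ble (nat_lit 1695) i)) (@Bool.rec (fun _ => ℕ) l1696 (t1697_1699 i) (Nat.ble (nat_lit 1697) i)) (Nat.ble (nat_lit 1696) i)) (@Bool.rec (fun _ => ℕ) (@Bool.rec (fun _ => ℕ) l1699 l1700 (Nat.ble (nat_lit 1700) i)) (@Bool.rec (fun _ => ℕ) l1701 (t1702_1704 i) (Nat.ble (nat_lit 1702) i)) (Nat.ble (nat_lit 1701) i)) (Nat.ble (nat_lit 1699) i))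
noncomputable def t1711_1713 (i : ℕ) : ℕ := (@Bool.rec (fun _ => ℕ) l1711 l1712 (Nat.ble (nat_lit 1712) i))
noncomputable def t1704_1713 (i : ℕ) : ℕ := (@Bool.rec (fun _ => ℕ) (@Bool.rec (fun _ => ℕ) (@Bool.rec (fun _ => ℕ) l1704 l1705 (Nat.ble (nat_lit 1705) i)) (@Bool.rec (fun _ => ℕ) l1706 l1707 (Nat.ble (nat_lit 1707) i)) (Nat.ble (nat_lit 1706) i)) (@Bool.rec (fun _ => ℕ) (@Bool.rec (fun _ => ℕ) l1708 l1709 (Nat.ble (nat_lit 1709) i)) (@Bool.rec (fun _ => ℕ) l1710 (t1711_1713 i) (Nat.ble (nat_lit 1711) i)) (Nat.ble (nat_lit 1710) i)) (Nat.ble (nat_lit 1708) i))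
noncomputable def t1716_1718 (i : ℕ) : ℕ := (@Bool.rec (fun _ => ℕ) l1716 l1717 (Nat.ble (nat_lit 1717) i))
noncomputable def t1721_1723 (i : ℕ) : ℕ := (@Bool.rec (fun _ => ℕ) l1721 l1722 (Nat.ble (nat_lit 1722) i))
noncomputable def t1713_1723 (i : ℕ) : ℕ := (@Bool.rec (fun _ => ℕ) (@Bool.rec (fun _ => ℕ) (@Bool.rec (fun _ => ℕ) l1713 l1714 (Nat.ble (nat_lit 1714) i)) (@Bool.rec (fun _ => ℕ) l1715 (t1716_1718 i) (Nat.ble (nat_lit 1716) i)) (Nat.ble (nat_lit 1715) i)) (@Bool.rec (fun _ => ℕ) (@Bool.rec (fun _ => ℕ) l1718 l1719 (Nat.ble (nat_lit 1719) i)) (@Bool.rec (fun _ => ℕ) l1720 (t1721_1723 i) (Nat.ble (nat_lit 1721) i)) (Nat.ble (nat_lit 1720) i)) (Nat.ble (nat_lit 1718) i))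
noncomputable def t1648_1723 (i : ℕ) : ℕ := (@Bool.rec (fun _ => ℕ) (@Bool.rec (fun _ => ℕ) (@Bool.rec (fun _ => ℕ) (t1648_1657 i) (t1657_1666 i) (Nat.ble (nat_lit 1657) i)) (@Bool.rec (fun _ => ℕ) (t1666_1675 i) (t1675_1685 i) (Nat.ble (nat_lit 1675) i)) (Nat.ble (nat_lit 1666) i)) (@Bool.rec (fun _ => ℕ) (@Bool.rec (fun _ => ℕ) (t1685_1694 i) (t1694_1704 i) (Nat.ble (nat_lit 1694) i)) (@Bool.rec (fun _ => ℕ) (t1704_1713 i) (t1713_1723 i) (Nat.ble (nat_lit 1713) i)) (Nat.ble (nat_lit 1704) i)) (Nat.ble (nat_lit 1685) i))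
noncomputable def t1730_1732 (i : ℕ) : ℕ := (@Bool.rec (fun _ => ℕ) l1730 l1731 (Nat.ble (nat_lit 1731) i))
noncomputable def t1723_1732 (i : ℕ) : ℕ := (@Bool.rec (fun _ => ℕ) (@Bool.rec (fun _ => ℕ) (@Bool.rec (fun _ => ℕ) l1723 l1724 (Nat.ble (nat_lit 1724) i)) (@Bool.rec (fun _ => ℕ) l1725 l1726 (Nat.ble (nat_lit 1726) i)) (Nat.ble (nat_lit 1725) i)) (@Bool.rec (fun _ => ℕ) (@Bool.rec (fun _ => ℕ) l1727 l1728 (Nat.ble (nat_lit 1728) i)) (@Bool.rec (fun _ => ℕ) l1729 (t1730_1732 i) (Nat.ble (nat_lit 1730) i)) (Nat.ble (nat_lit 1729) i)) (Nat.ble (nat_lit 1727) i))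
noncomputable def t1739_1741 (i : ℕ) : ℕ := (@Bool.rec (fun _ => ℕ) l1739 l1740 (Nat.ble (nat_lit 1740) i))
noncomputable def t1732_1741 (i : ℕ) : ℕ := (@Bool.rec (fun _ => ℕ) (@Bool.rec (fun _ => ℕ) (@Bool.rec (fun _ => ℕ) l1732 l1733 (Nat.ble (nat_lit 1733) i)) (@Bool.rec (fun _ => ℕ) l1734 l1735 (Nat.ble (nat_lit 1735) i)) (Nat.ble (nat_lit 1734) i)) (@Bool.rec (fun _ => ℕ) (@Bool.rec (fun _ => ℕ) l1736 l1737 (Nat.ble (nat_lit 1737) i)) (@Bool.rec (fun _ => ℕ) l1738 (t1739_1741 i) (Nat.ble (nat_lit 1739) i)) (Nat.ble (nat_lit 1738) i)) (Nat.ble (nat_lit 1736) i))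
noncomputable def t1748_1750 (i : ℕ) : ℕ := (@Bool.rec (fun _ => ℕ) l1748 l1749 (Nat.ble (nat_lit 1749) i))
noncomputable def t1741_1750 (i : ℕ) : ℕ := (@Bool.rec (fun _ => ℕ) (@Bool.rec (fun _ => ℕ) (@Bool.rec (fun _ => ℕ) l1741 l1742 (Nat.ble (nat_lit 1742) i)) (@Bool.rec (fun _ => ℕ) l1743 l1744 (Nat.ble (nat_lit 1744) i)) (Nat.ble (nat_lit 1743) i)) (@Bool.rec (fun _ => ℕ) (@Bool.rec (fun _ => ℕ) l1745 l1746 (Nat.ble (nat_lit 1746) i)) (@Bool.rec (fun _ => ℕ) l1747 (t1748_1750 i) (Nat.ble (nat_lit 1748) i)) (Nat.ble (nat_lit 1747) i)) (Nat.ble (nat_lit 1745) i))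
noncomputable def t1753_1755 (i : ℕ) : ℕ := (@Bool.rec (fun _ => ℕ) l1753 l1754 (Nat.ble (nat_lit 1754) i))
noncomputable def t1758_1760 (i : ℕ) : ℕ := (@Bool.rec (fun _ => ℕ) l1758 l1759 (Nat.ble (nat_lit 1759) i))
noncomputable def t1750_1760 (i : ℕ) : ℕ := (@Bool.rec (fun _ => ℕ) (@Bool.rec (fun _ => ℕ) (@Bool.rec (fun _ => ℕ) l1750 l1751 (Nat.ble (nat_lit 1751) i)) (@Bool.rec (fun _ => ℕ) l1752 (t1753_1755 i) (Nat.ble (nat_lit 1753) i)) (Nat.ble (nat_lit 1752) i)) (@Bool.rec (fun _ => ℕ) (@Bool.rec (fun _ => ℕ) l1755 l1756 (Nat.ble (nat_lit 1756) i)) (@Bool.rec (fun _ => ℕ) l1757 (t1758_1760 i) (Nat.ble (nat_lit 1758) i)) (Nat.ble (nat_lit 1757) i)) (Nat.ble (nat_lit 1755) i))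
noncomputable def t1767_1769 (i : ℕ) : ℕ := (@Bool.rec (fun _ => ℕ) l1767 l1768 (Nat.ble (nat_lit 1768) i))
noncomputable def t1760_1769 (i : ℕ) : ℕ := (@Bool.rec (fun _ => ℕ) (@Bool.rec (fun _ => ℕ) (@Bool.rec (fun _ => ℕ) l1760 l1761 (Nat.ble (nat_lit 1761) i)) (@Bool.rec (fun _ => ℕ) l1762 l1763 (Nat.ble (nat_lit 1763) i)) (Nat.ble (nat_lit 1762) i)) (@Bool.rec (fun _ => ℕ) (@Bool.rec (fun _ => ℕ) l1764 l1765 (Nat.ble (nat_lit 1765) i)) (@Bool.rec (fun _ => ℕ) l1766 (t1767_1769 i) (Nat.ble (nat_lit 1767) i)) (Nat.ble (nat_lit 1766) i)) (Nat.ble (nat_lit 1764) i))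
noncomputable def t1772_1774 (i : ℕ) : ℕ := (@Bool.rec (fun _ => ℕ) l1772 l1773 (Nat.ble (nat_lit 1773) i))
noncomputable def t1777_1779 (i : ℕ) : ℕ := (@Bool.rec (fun _ => ℕ) l1777 l1778 (Nat.ble (nat_lit 1778) i))
noncomputable def t1769_1779 (i : ℕ) : ℕ := (@Bool.rec (fun _ => ℕ) (@Bool.rec (fun _ => ℕ) (@Bool.rec (fun _ => ℕ) l1769 l1770 (Nat.ble (nat_lit 1770) i)) (@Bool.rec (fun _ => ℕ) l1771 (t1772_1774 i) (Nat.ble (nat_lit 1772) i)) (Nat.ble (nat_lit 1771) i)) (@Bool.rec (fun _ => ℕ) (@Bool.rec (fun _ => ℕ) l1774 l1775 (Nat.ble (nat_lit 1775) i)) (@Bool.rec (fun _ => ℕ) l1776 (t1777_1779 i) (Nat.ble (nat_lit 1777) i)) (Nat.ble (nat_lit 1776) i)) (Nat.ble (nat_lit 1774) i))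
noncomputable def t1786_1788 (i : ℕ) : ℕ := (@Bool.rec (fun _ => ℕ) l1786 l1787 (Nat.ble (nat_lit 1787) i))
noncomputable def t1779_1788 (i : ℕ) : ℕ := (@Bool.rec (fun _ => ℕ) (@Bool.rec (fun _ => ℕ) (@Bool.rec (fun _ => ℕ) l1779 l1780 (Nat.ble (nat_lit 1780) i)) (@Bool.rec (fun _ => ℕ) l1781 l1782 (Nat.ble (nat_lit 1782) i)) (Nat.ble (nat_lit 1781) i)) (@Bool.rec (fun _ => ℕ) (@Bool.rec (fun _ => ℕ) l1783 l1784 (Nat.ble (nat_lit 1784) i)) (@Bool.rec (fun _ => ℕ) l1785 (t1786_1788 i) (Nat.ble (nat_lit 1786) i)) (Nat.ble (nat_lit 1785) i)) (Nat.ble (nat_lit 1783) i))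
noncomputable def t1791_1793 (i : ℕ) : ℕ := (@Bool.rec (fun _ => ℕ) l1791 l1792 (Nat.ble (nat_lit 1792) i))
noncomputable def t1796_1798 (i : ℕ) : ℕ := (@Bool.rec (fun _ => ℕ) l1796 l1797 (Nat.ble (nat_lit 1797) i))
noncomputable def t1788_1798 (i : ℕ) : ℕ := (@Bool.rec (fun _ => ℕ) (@Bool.rec (fun _ => ℕ) (@Bool.rec (fun _ => ℕ) l1788 l1789 (Nat.ble (nat_lit 1789) i)) (@Bool.rec (fun _ => ℕ) l1790 (t1791_1793 i) (Nat.ble (nat_lit 1791) i)) (Nat.ble (nat_lit 1790) i)) (@Bool.rec (fun _ => ℕ) (@Bool.rec (fun _ => ℕ) l1793 l1794 (Nat.ble (nat_lit 1794) i)) (@Bool.rec (fun _ => ℕ) l1795 (t1796_1798 i) (Nat.ble (nat_lit 1796) i)) (Nat.ble (nat_lit 1795) i)) (Nat.ble (nat_lit 1793) i))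
noncomputable def t1723_1798 (i : ℕ) : ℕ := (@Bool.rec (fun _ => ℕ) (@Bool.rec (fun _ => ℕ) (@Bool.rec (fun _ => ℕ) (t1723_1732 i) (t1732_1741 i) (Nat.ble (nat_lit 1732) i)) (@Bool.rec (fun _ => ℕ) (t1741_1750 i) (t1750_1760 i) (Nat.ble (nat_lit 1750) i)) (Nat.ble (nat_lit 1741) i)) (@Bool.rec (fun _ => ℕ) (@Bool.rec (fun _ => ℕ) (t1760_1769 i) (t1769_1779 i) (Nat.ble (nat_lit 1769) i)) (@Bool.rec (fun _ => ℕ) (t1779_1788 i) (t1788_1798 i) (Nat.ble (nat_lit 1788) i)) (Nat.ble (nat_lit 1779) i)) (Nat.ble (nat_lit 1760) i))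
noncomputable def t1199_1798 (i : ℕ) : ℕ := (@Bool.rec (fun _ => ℕ) (@Bool.rec (fun _ => ℕ) (@Bool.rec (fun _ => ℕ) (t1199_1273 i) (t1273_1348 i) (Nat.ble (nat_lit 1273) i)) (@Bool.rec (fun _ => ℕ) (t1348_1423 i) (t1423_1498 i) (Nat.ble (nat_lit 1423) i)) (Nat.ble (nat_lit 1348) i)) (@Bool.rec (fun _ => ℕ) (@Bool.rec (fun _ => ℕ) (t1498_1573 i) (t1573_1648 i) (Nat.ble (nat_lit 1573) i)) (@Bool.rec (fun _ => ℕ) (t1648_1723 i) (t1723_1798 i) (Nat.ble (nat_lit 1723) i)) (Nat.ble (nat_lit 1648) i)) (Nat.ble (nat_lit 1498) i))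
noncomputable def t1805_1807 (i : ℕ) : ℕ := (@Bool.rec (fun _ => ℕ) l1805 l1806 (Nat.ble (nat_lit 1806) i))
noncomputable def t1798_1807 (i : ℕ) : ℕ := (@Bool.rec (fun _ => ℕ) (@Bool.rec (fun _ => ℕ) (@Bool.rec (fun _ => ℕ) l1798 l1799 (Nat.ble (nat_lit 1799) i)) (@Bool.rec (fun _ => ℕ) l1800 l1801 (Nat.ble (nat_lit 1801) i)) (Nat.ble (nat_lit 1800) i)) (@Bool.rec (fun _ => ℕ) (@Bool.rec (fun _ => ℕ) l1802 l1803 (Nat.ble (nat_lit 1803) i)) (@Bool.rec (fun _ => ℕ) l1804 (t1805_1807 i) (Nat.ble (nat_lit 1805) i)) (Nat.ble (nat_lit 1804) i)) (Nat.ble (nat_lit 1802) i))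
noncomputable def t1814_1816 (i : ℕ) : ℕ := (@Bool.rec (fun _ => ℕ) l1814 l1815 (Nat.ble (nat_lit 1815) i))
noncomputable def t1807_1816 (i : ℕ) : ℕ := (@Bool.rec (fun _ => ℕ) (@Bool.rec (fun _ => ℕ) (@Bool.rec (fun _ => ℕ) l1807 l1808 (Nat.ble (nat_lit 1808) i)) (@Bool.rec (fun _ => ℕ) l1809 l1810 (Nat.ble (nat_lit 1810) i)) (Nat.ble (nat_lit 1809) i)) (@Bool.rec (fun _ => ℕ) (@Bool.rec (fun _ => ℕ) l1811 l1812 (Nat.ble (nat_lit 1812) i)) (@Bool.rec (fun _ => ℕ) l1813 (t1814_1816 i) (Nat.ble (nat_lit 1814) i)) (Nat.ble (nat_lit 1813) i)) (Nat.ble (nat_lit 1811) i))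
noncomputable def t1823_1825 (i : ℕ) : ℕ := (@Bool.rec (fun _ => ℕ) l1823 l1824 (Nat.ble (nat_lit 1824) i))
noncomputable def t1816_1825 (i : ℕ) : ℕ := (@Bool.rec (fun _ => ℕ) (@Bool.rec (fun _ => ℕ) (@Bool.rec (fun _ => ℕ) l1816 l1817 (Nat.ble (nat_lit 1817) i)) (@Bool.rec (fun _ => ℕ) l1818 l1819 (Nat.ble (nat_lit 1819) i)) (Nat.ble (nat_lit 1818) i)) (@Bool.rec (fun _ => ℕ) (@Bool.rec (fun _ => ℕ) l1820 l1821 (Nat.ble (nat_lit 1821) i)) (@Bool.rec (fun _ => ℕ) l1822 (t1823_1825 i) (Nat.ble (nat_lit 1823) i)) (Nat.ble (nat_lit 1822) i)) (Nat.ble (nat_lit 1820) i))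
noncomputable def t1828_1830 (i : ℕ) : ℕ := (@Bool.rec (fun _ => ℕ) l1828 l1829 (Nat.ble (nat_lit 1829) i))
noncomputable def t1833_1835 (i : ℕ) : ℕ := (@Bool.rec (fun _ => ℕ) l1833 l1834 (Nat.ble (nat_lit 1834) i))
noncomputable def t1825_1835 (i : ℕ) : ℕ := (@Bool.rec (fun _ => ℕ) (@Bool.rec (fun _ => ℕ) (@Bool.rec (fun _ => ℕ) l1825 l1826 (Nat.ble (nat_lit 1826) i)) (@Bool.rec (fun _ => ℕ) l1827 (t1828_1830 i) (Nat.ble (nat_lit 1828) i)) (Nat.ble (nat_lit 1827) i)) (@Bool.rec (fun _ => ℕ) (@Bool.rec (fun _ => ℕ) l1830 l1831 (Nat.ble (nat_lit 1831) i)) (@Bool.rec (fun _ => ℕ) l1832 (t1833_1835 i) (Nat.ble (nat_lit 1833) i)) (Nat.ble (nat_lit 1832) i)) (Nat.ble (nat_lit 1830) i))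
noncomputable def t1842_1844 (i : ℕ) : ℕ := (@Bool.rec (fun _ => ℕ) l1842 l1843 (Nat.ble (nat_lit 1843) i))
noncomputable def t1835_1844 (i : ℕ) : ℕ := (@Bool.rec (fun _ => ℕ) (@Bool.rec (fun _ => ℕ) (@Bool.rec (fun _ => ℕ) l1835 l1836 (Nat.ble (nat_lit 1836) i)) (@Bool.rec (fun _ => ℕ) l1837 l1838 (Nat.ble (nat_lit 1838) i)) (Nat.ble (nat_lit 1837) i)) (@Bool.rec (fun _ => ℕ) (@Bool.rec (fun _ => ℕ) l1839 l1840 (Nat.ble (nat_lit 1840) i)) (@Bool.rec (fun _ => ℕ) l1841 (t1842_1844 i) (Nat.ble (nat_lit 1842) i)) (Nat.ble (nat_lit 1841) i)) (Nat.ble (nat_lit 1839) i))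
noncomputable def t1847_1849 (i : ℕ) : ℕ := (@Bool.rec (fun _ => ℕ) l1847 l1848 (Nat.ble (nat_lit 1848) i))
noncomputable def t1852_1854 (i : ℕ) : ℕ := (@Bool.rec (fun _ => ℕ) l1852 l1853 (Nat.ble (nat_lit 1853) i))
noncomputable def t1844_1854 (i : ℕ) : ℕ := (@Bool.rec (fun _ => ℕ) (@Bool.rec (fun _ => ℕ) (@Bool.rec (fun _ => ℕ) l1844 l1845 (Nat.ble (nat_lit 1845) i)) (@Bool.rec (fun _ => ℕ) l1846 (t1847_1849 i) (Nat.ble (nat_lit 1847) i)) (Nat.ble (nat_lit 1846) i)) (@Bool.rec (fun _ => ℕ) (@Bool.rec (fun _ => ℕ) l1849 l1850 (Nat.ble (nat_lit 1850) i)) (@Bool.rec (fun _ => ℕ) l1851 (t1852_1854 i) (Nat.ble (nat_lit 1852) i)) (Nat.ble (nat_lit 1851) i)) (Nat.ble (nat_lit 1849) i))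
noncomputable def t1861_1863 (i : ℕ) : ℕ := (@Bool.rec (fun _ => ℕ) l1861 l1862 (Nat.ble (nat_lit 1862) i))
noncomputable def t1854_1863 (i : ℕ) : ℕ := (@Bool.rec (fun _ => ℕ) (@Bool.rec (fun _ => ℕ) (@Bool.rec (fun _ => ℕ) l1854 l1855 (Nat.ble (nat_lit 1855) i)) (@Bool.rec (fun _ => ℕ) l1856 l1857 (Nat.ble (nat_lit 1857) i)) (Nat.ble (nat_lit 1856) i)) (@Bool.rec (fun _ => ℕ) (@Bool.rec (fun _ => ℕ) l1858 l1859 (Nat.ble (nat_lit 1859) i)) (@Bool.rec (fun _ => ℕ) l1860 (t1861_1863 i) (Nat.ble (nat_lit 1861) i)) (Nat.ble (nat_lit 1860) i)) (Nat.ble (nat_lit 1858) i))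
noncomputable def t1866_1868 (i : ℕ) : ℕ := (@Bool.rec (fun _ => ℕ) l1866 l1867 (Nat.ble (nat_lit 1867) i))
noncomputable def t1871_1873 (i : ℕ) : ℕ := (@Bool.rec (fun _ => ℕ) l1871 l1872 (Nat.ble (nat_lit 1872) i))
noncomputable def t1863_1873 (i : ℕ) : ℕ := (@Bool.rec (fun _ => ℕ) (@Bool.rec (fun _ => ℕ) (@Bool.rec (fun _ => ℕ) l1863 l1864 (Nat.ble (nat_lit 1864) i)) (@Bool.rec (fun _ => ℕ) l1865 (t1866_1868 i) (Nat.ble (nat_lit 1866) i)) (Nat.ble (nat_lit 1865) i)) (@Bool.rec (fun _ => ℕ) (@Bool.rec (fun _ => ℕ) l1868 l1869 (Nat.ble (nat_lit 1869) i)) (@Bool.rec (fun _ => ℕ) l1870 (t1871_1873 i) (Nat.ble (nat_lit 1871) i)) (Nat.ble (nat_lit 1870) i)) (Nat.ble (nat_lit 1868) i))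
noncomputable def t1798_1873 (i : ℕ) : ℕ := (@Bool.rec (fun _ => ℕ) (@Bool.rec (fun _ => ℕ) (@Bool.rec (fun _ => ℕ) (t1798_1807 i) (t1807_1816 i) (Nat.ble (nat_lit 1807) i)) (@Bool.rec (fun _ => ℕ) (t1816_1825 i) (t1825_1835 i) (Nat.ble (nat_lit 1825) i)) (Nat.ble (nat_lit 1816) i)) (@Bool.rec (fun _ => ℕ) (@Bool.rec (fun _ => ℕ) (t1835_1844 i) (t1844_1854 i) (Nat.ble (nat_lit 1844) i)) (@Bool.rec (fun _ => ℕ) (t1854_1863 i) (t1863_1873 i) (Nat.ble (nat_lit 1863) i)) (Nat.ble (nat_lit 1854) i)) (Nat.ble (nat_lit 1835) i))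
noncomputable def t1880_1882 (i : ℕ) : ℕ := (@Bool.rec (fun _ => ℕ) l1880 l1881 (Nat.ble (nat_lit 1881) i))
noncomputable def t1873_1882 (i : ℕ) : ℕ := (@Bool.rec (fun _ => ℕ) (@Bool.rec (fun _ => ℕ) (@Bool.rec (fun _ => ℕ) l1873 l1874 (Nat.ble (nat_lit 1874) i)) (@Bool.rec (fun _ => ℕ) l1875 l1876 (Nat.ble (nat_lit 1876) i)) (Nat.ble (nat_lit 1875) i)) (@Bool.rec (fun _ => ℕ) (@Bool.rec (fun _ => ℕ) l1877 l1878 (Nat.ble (nat_lit 1878) i)) (@Bool.rec (fun _ => ℕ) l1879 (t1880_1882 i) (Nat.ble (nat_lit 1880) i)) (Nat.ble (nat_lit 1879) i)) (Nat.ble (nat_lit 1877) i))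
noncomputable def t1889_1891 (i : ℕ) : ℕ := (@Bool.rec (fun _ => ℕ) l1889 l1890 (Nat.ble (nat_lit 1890) i))
noncomputable def t1882_1891 (i : ℕ) : ℕ := (@Bool.rec (fun _ => ℕ) (@Bool.rec (fun _ => ℕ) (@Bool.rec (fun _ => ℕ) l1882 l1883 (Nat.ble (nat_lit 1883) i)) (@Bool.rec (fun _ => ℕ) l1884 l1885 (Nat.ble (nat_lit 1885) i)) (Nat.ble (nat_lit 1884) i)) (@Bool.rec (fun _ => ℕ) (@Bool.rec (fun _ => ℕ) l1886 l1887 (Nat.ble (nat_lit 1887) i)) (@Bool.rec (fun _ => ℕ) l1888 (t1889_1891 i) (Nat.ble (nat_lit 1889) i)) (Nat.ble (nat_lit 1888) i)) (Nat.ble (nat_lit 1886) i))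
noncomputable def t1898_1900 (i : ℕ) : ℕ := (@Bool.rec (fun _ => ℕ) l1898 l1899 (Nat.ble (nat_lit 1899) i))
noncomputable def t1891_1900 (i : ℕ) : ℕ := (@Bool.rec (fun _ => ℕ) (@Bool.rec (fun _ => ℕ) (@Bool.rec (fun _ => ℕ) l1891 l1892 (Nat.ble (nat_lit 1892) i)) (@Bool.rec (fun _ => ℕ) l1893 l1894 (Nat.ble (nat_lit 1894) i)) (Nat.ble (nat_lit 1893) i)) (@Bool.rec (fun _ => ℕ) (@Bool.rec (fun _ => ℕ) l1895 l1896 (Nat.ble (nat_lit 1896) i)) (@Bool.rec (fun _ => ℕ) l1897 (t1898_1900 i) (Nat.ble (nat_lit 1898) i)) (Nat.ble (nat_lit 1897) i)) (Nat.ble (nat_lit 1895) i))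
noncomputable def t1903_1905 (i : ℕ) : ℕ := (@Bool.rec (fun _ => ℕ) l1903 l1904 (Nat.ble (nat_lit 1904) i))
noncomputable def t1908_1910 (i : ℕ) : ℕ := (@Bool.rec (fun _ => ℕ) l1908 l1909 (Nat.ble (nat_lit 1909) i))
noncomputable def t1900_1910 (i : ℕ) : ℕ := (@Bool.rec (fun _ => ℕ) (@Bool.rec (fun _ => ℕ) (@Bool.rec (fun _ => ℕ) l1900 l1901 (Nat.ble (nat_lit 1901) i)) (@Bool.rec (fun _ => ℕ) l1902 (t1903_1905 i) (Nat.ble (nat_lit 1903) i)) (Nat.ble (nat_lit 1902) i)) (@Bool.rec (fun _ => ℕ) (@Bool.rec (fun _ => ℕ) l1905 l1906 (Nat.ble (nat_lit 1906) i)) (@Bool.rec (fun _ => ℕ) l1907 (t1908_1910 i) (Nat.ble (nat_lit 1908) i)) (Nat.ble (nat_lit 1907) i)) (Nat.ble (nat_lit 1905) i))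
noncomputable def t1917_1919 (i : ℕ) : ℕ := (@Bool.rec (fun _ => ℕ) l1917 l1918 (Nat.ble (nat_lit 1918) i))
noncomputable def t1910_1919 (i : ℕ) : ℕ := (@Bool.rec (fun _ => ℕ) (@Bool.rec (fun _ => ℕ) (@Bool.rec (fun _ => ℕ) l1910 l1911 (Nat.ble (nat_lit 1911) i)) (@Bool.rec (fun _ => ℕ) l1912 l1913 (Nat.ble (nat_lit 1913) i)) (Nat.ble (nat_lit 1912) i)) (@Bool.rec (fun _ => ℕ) (@Bool.rec (fun _ => ℕ) l1914 l1915 (Nat.ble (nat_lit 1915) i)) (@Bool.rec (fun _ => ℕ) l1916 (t1917_1919 i) (Nat.ble (nat_lit 1917) i)) (Nat.ble (nat_lit 1916) i)) (Nat.ble (nat_lit 1914) i))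
noncomputable def t1922_1924 (i : ℕ) : ℕ := (@Bool.rec (fun _ => ℕ) l1922 l1923 (Nat.ble (nat_lit 1923) i))
noncomputable def t1927_1929 (i : ℕ) : ℕ := (@Bool.rec (fun _ => ℕ) l1927 l1928 (Nat.ble (nat_lit 1928) i))
noncomputable def t1919_1929 (i : ℕ) : ℕ := (@Bool.rec (fun _ => ℕ) (@Bool.rec (fun _ => ℕ) (@Bool.rec (fun _ => ℕ) l1919 l1920 (Nat.ble (nat_lit 1920) i)) (@Bool.rec (fun _ => ℕ) l1921 (t1922_1924 i) (Nat.ble (nat_lit 1922) i)) (Nat.ble (nat_lit 1921) i)) (@Bool.rec (fun _ => ℕ) (@Bool.rec (fun _ => ℕ) l1924 l1925 (Nat.ble (nat_lit 1925) i)) (@Bool.rec (fun _ => ℕ) l1926 (t1927_1929 i) (Nat.ble (nat_lit 1927) i)) (Nat.ble (nat_lit 1926) i)) (Nat.ble (nat_lit 1924) i))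
noncomputable def t1936_1938 (i : ℕ) : ℕ := (@Bool.rec (fun _ => ℕ) l1936 l1937 (Nat.ble (nat_lit 1937) i))
noncomputable def t1929_1938 (i : ℕ) : ℕ := (@Bool.rec (fun _ => ℕ) (@Bool.rec (fun _ => ℕ) (@Bool.rec (fun _ => ℕ) l1929 l1930 (Nat.ble (nat_lit 1930) i)) (@Bool.rec (fun _ => ℕ) l1931 l1932 (Nat.ble (nat_lit 1932) i)) (Nat.ble (nat_lit 1931) i)) (@Bool.rec (fun _ => ℕ) (@Bool.rec (fun _ => ℕ) l1933 l1934 (Nat.ble (nat_lit 1934) i)) (@Bool.rec (fun _ => ℕ) l1935 (t1936_1938 i) (Nat.ble (nat_lit 1936) i)) (Nat.ble (nat_lit 1935) i)) (Nat.ble (nat_lit 1933) i))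
noncomputable def t1941_1943 (i : ℕ) : ℕ := (@Bool.rec (fun _ => ℕ) l1941 l1942 (Nat.ble (nat_lit 1942) i))
noncomputable def t1946_1948 (i : ℕ) : ℕ := (@Bool.rec (fun _ => ℕ) l1946 l1947 (Nat.ble (nat_lit 1947) i))
noncomputable def t1938_1948 (i : ℕ) : ℕ := (@Bool.rec (fun _ => ℕ) (@Bool.rec (fun _ => ℕ) (@Bool.rec (fun _ => ℕ) l1938 l1939 (Nat.ble (nat_lit 1939) i)) (@Bool.rec (fun _ => ℕ) l1940 (t1941_1943 i) (Nat.ble (nat_lit 1941) i)) (Nat.ble (nat_lit 1940) i)) (@Bool.rec (fun _ => ℕ) (@Bool.rec (fun _ => ℕ) l1943 l1944 (Nat.ble (nat_lit 1944) i)) (@Bool.rec (fun _ => ℕ) l1945 (t1946_1948 i) (Nat.ble (nat_lit 1946) i)) (Nat.ble (nat_lit 1945) i)) (Nat.ble (nat_lit 1943) i))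
noncomputable def t1873_1948 (i : ℕ) : ℕ := (@Bool.rec (fun _ => ℕ) (@Bool.rec (fun _ => ℕ) (@Bool.rec (fun _ => ℕ) (t1873_1882 i) (t1882_1891 i) (Nat.ble (nat_lit 1882) i)) (@Bool.rec (fun _ => ℕ) (t1891_1900 i) (t1900_1910 i) (Nat.ble (nat_lit 1900) i)) (Nat.ble (nat_lit 1891) i)) (@Bool.rec (fun _ => ℕ) (@Bool.rec (fun _ => ℕ) (t1910_1919 i) (t1919_1929 i) (Nat.ble (nat_lit 1919) i)) (@Bool.rec (fun _ => ℕ) (t1929_1938 i) (t1938_1948 i) (Nat.ble (nat_lit 1938) i)) (Nat.ble (nat_lit 1929) i)) (Nat.ble (nat_lit 1910) i))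
noncomputable def t1955_1957 (i : ℕ) : ℕ := (@Bool.rec (fun _ => ℕ) l1955 l1956 (Nat.ble (nat_lit 1956) i))
noncomputable def t1948_1957 (i : ℕ) : ℕ := (@Bool.rec (fun _ => ℕ) (@Bool.rec (fun _ => ℕ) (@Bool.rec (fun _ => ℕ) l1948 l1949 (Nat.ble (nat_lit 1949) i)) (@Bool.rec (fun _ => ℕ) l1950 l1951 (Nat.ble (nat_lit 1951) i)) (Nat.ble (nat_lit 1950) i)) (@Bool.rec (fun _ => ℕ) (@Bool.rec (fun _ => ℕ) l1952 l1953 (Nat.ble (nat_lit 1953) i)) (@Bool.rec (fun _ => ℕ) l1954 (t1955_1957 i) (Nat.ble (nat_lit 1955) i)) (Nat.ble (nat_lit 1954) i)) (Nat.ble (nat_lit 1952) i))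
noncomputable def t1964_1966 (i : ℕ) : ℕ := (@Bool.rec (fun _ => ℕ) l1964 l1965 (Nat.ble (nat_lit 1965) i))
noncomputable def t1957_1966 (i : ℕ) : ℕ := (@Bool.rec (fun _ => ℕ) (@Bool.rec (fun _ => ℕ) (@Bool.rec (fun _ => ℕ) l1957 l1958 (Nat.ble (nat_lit 1958) i)) (@Bool.rec (fun _ => ℕ) l1959 l1960 (Nat.ble (nat_lit 1960) i)) (Nat.ble (nat_lit 1959) i)) (@Bool.rec (fun _ => ℕ) (@Bool.rec (fun _ => ℕ) l1961 l1962 (Nat.ble (nat_lit 1962) i)) (@Bool.rec (fun _ => ℕ) l1963 (t1964_1966 i) (Nat.ble (nat_lit 1964) i)) (Nat.ble (nat_lit 1963) i)) (Nat.ble (nat_lit 1961) i))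
noncomputable def t1973_1975 (i : ℕ) : ℕ := (@Bool.rec (fun _ => ℕ) l1973 l1974 (Nat.ble (nat_lit 1974) i))
noncomputable def t1966_1975 (i : ℕ) : ℕ := (@Bool.rec (fun _ => ℕ) (@Bool.rec (fun _ => ℕ) (@Bool.rec (fun _ => ℕ) l1966 l1967 (Nat.ble (nat_lit 1967) i)) (@Bool.rec (fun _ => ℕ) l1968 l1969 (Nat.ble (nat_lit 1969) i)) (Nat.ble (nat_lit 1968) i)) (@Bool.rec (fun _ => ℕ) (@Bool.rec (fun _ => ℕ) l1970 l1971 (Nat.ble (nat_lit 1971) i)) (@Bool.rec (fun _ => ℕ) l1972 (t1973_1975 i) (Nat.ble (nat_lit 1973) i)) (Nat.ble (nat_lit 1972) i)) (Nat.ble (nat_lit 1970) i))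
noncomputable def t1978_1980 (i : ℕ) : ℕ := (@Bool.rec (fun _ => ℕ) l1978 l1979 (Nat.ble (nat_lit 1979) i))
noncomputable def t1983_1985 (i : ℕ) : ℕ := (@Bool.rec (fun _ => ℕ) l1983 l1984 (Nat.ble (nat_lit 1984) i))
noncomputable def t1975_1985 (i : ℕ) : ℕ := (@Bool.rec (fun _ => ℕ) (@Bool.rec (fun _ => ℕ) (@Bool.rec (fun _ => ℕ) l1975 l1976 (Nat.ble (nat_lit 1976) i)) (@Bool.rec (fun _ => ℕ) l1977 (t1978_1980 i) (Nat.ble (nat_lit 1978) i)) (Nat.ble (nat_lit 1977) i)) (@Bool.rec (fun _ => ℕ) (@Bool.rec (fun _ => ℕ) l1980 l1981 (Nat.ble (nat_lit 1981) i)) (@Bool.rec (fun _ => ℕ) l1982 (t1983_1985 i) (Nat.ble (nat_lit 1983) i)) (Nat.ble (nat_lit 1982) i)) (Nat.ble (nat_lit 1980) i))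
noncomputable def t1992_1994 (i : ℕ) : ℕ := (@Bool.rec (fun _ => ℕ) l1992 l1993 (Nat.ble (nat_lit 1993) i))
noncomputable def t1985_1994 (i : ℕ) : ℕ := (@Bool.rec (fun _ => ℕ) (@Bool.rec (fun _ => ℕ) (@Bool.rec (fun _ => ℕ) l1985 l1986 (Nat.ble (nat_lit 1986) i)) (@Bool.rec (fun _ => ℕ) l1987 l1988 (Nat.ble (nat_lit 1988) i)) (Nat.ble (nat_lit 1987) i)) (@Bool.rec (fun _ => ℕ) (@Bool.rec (fun _ => ℕ) l1989 l1990 (Nat.ble (nat_lit 1990) i)) (@Bool.rec (fun _ => ℕ) l1991 (t1992_1994 i) (Nat.ble (nat_lit 1992) i)) (Nat.ble (nat_lit 1991) i)) (Nat.ble (nat_lit 1989) i))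
noncomputable def t1997_1999 (i : ℕ) : ℕ := (@Bool.rec (fun _ => ℕ) l1997 l1998 (Nat.ble (nat_lit 1998) i))
noncomputable def t2002_2004 (i : ℕ) : ℕ := (@Bool.rec (fun _ => ℕ) l2002 l2003 (Nat.ble (nat_lit 2003) i))
noncomputable def t1994_2004 (i : ℕ) : ℕ := (@Bool.rec (fun _ => ℕ) (@Bool.rec (fun _ => ℕ) (@Bool.rec (fun _ => ℕ) l1994 l1995 (Nat.ble (nat_lit 1995) i)) (@Bool.rec (fun _ => ℕ) l1996 (t1997_1999 i) (Nat.ble (nat_lit 1997) i)) (Nat.ble (nat_lit 1996) i)) (@Bool.rec (fun _ => ℕ) (@Bool.rec (fun _ => ℕ) l1999 l2000 (Nat.ble (nat_lit 2000) i)) (@Bool.rec (fun _ => ℕ) l2001 (t2002_2004 i) (Nat.ble (nat_lit 2002) i)) (Nat.ble (nat_lit 2001) i)) (Nat.ble (nat_lit 1999) i))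
noncomputable def t2011_2013 (i : ℕ) : ℕ := (@Bool.rec (fun _ => ℕ) l2011 l2012 (Nat.ble (nat_lit 2012) i))
noncomputable def t2004_2013 (i : ℕ) : ℕ := (@Bool.rec (fun _ => ℕ) (@Bool.rec (fun _ => ℕ) (@Bool.rec (fun _ => ℕ) l2004 l2005 (Nat.ble (nat_lit 2005) i)) (@Bool.rec (fun _ => ℕ) l2006 l2007 (Nat.ble (nat_lit 2007) i)) (Nat.ble (nat_lit 2006) i)) (@Bool.rec (fun _ => ℕ) (@Bool.rec (fun _ => ℕ) l2008 l2009 (Nat.ble (nat_lit 2009) i)) (@Bool.rec (fun _ => ℕ) l2010 (t2011_2013 i) (Nat.ble (nat_lit 2011) i)) (Nat.ble (nat_lit 2010) i)) (Nat.ble (nat_lit 2008) i))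
noncomputable def t2016_2018 (i : ℕ) : ℕ := (@Bool.rec (fun _ => ℕ) l2016 l2017 (Nat.ble (nat_lit 2017) i))
noncomputable def t2021_2023 (i : ℕ) : ℕ := (@Bool.rec (fun _ => ℕ) l2021 l2022 (Nat.ble (nat_lit 2022) i))
noncomputable def t2013_2023 (i : ℕ) : ℕ := (@Bool.rec (fun _ => ℕ) (@Bool.rec (fun _ => ℕ) (@Bool.rec (fun _ => ℕ) l2013 l2014 (Nat.ble (nat_lit 2014) i)) (@Bool.rec (fun _ => ℕ) l2015 (t2016_2018 i) (Nat.ble (nat_lit 2016) i)) (Nat.ble (nat_lit 2015) i)) (@Bool.rec (fun _ => ℕ) (@Bool.rec (fun _ => ℕ) l2018 l2019 (Nat.ble (nat_lit 2019) i)) (@Bool.rec (fun _ => ℕ) l2020 (t2021_2023 i) (Nat.ble (nat_lit 2021) i)) (Nat.ble (nat_lit 2020) i)) (Nat.ble (nat_lit 2018) i))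
noncomputable def t1948_2023 (i : ℕ) : ℕ := (@Bool.rec (fun _ => ℕ) (@Bool.rec (fun _ => ℕ) (@Bool.rec (fun _ => ℕ) (t1948_1957 i) (t1957_1966 i) (Nat.ble (nat_lit 1957) i)) (@Bool.rec (fun _ => ℕ) (t1966_1975 i) (t1975_1985 i) (Nat.ble (nat_lit 1975) i)) (Nat.ble (nat_lit 1966) i)) (@Bool.rec (fun _ => ℕ) (@Bool.rec (fun _ => ℕ) (t1985_1994 i) (t1994_2004 i) (Nat.ble (nat_lit 1994) i)) (@Bool.rec (fun _ => ℕ) (t2004_2013 i) (t2013_2023 i) (Nat.ble (nat_lit 2013) i)) (Nat.ble (nat_lit 2004) i)) (Nat.ble (nat_lit 1985) i))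
noncomputable def t2030_2032 (i : ℕ) : ℕ := (@Bool.rec (fun _ => ℕ) l2030 l2031 (Nat.ble (nat_lit 2031) i))
noncomputable def t2023_2032 (i : ℕ) : ℕ := (@Bool.rec (fun _ => ℕ) (@Bool.rec (fun _ => ℕ) (@Bool.rec (fun _ => ℕ) l2023 l2024 (Nat.ble (nat_lit 2024) i)) (@Bool.rec (fun _ => ℕ) l2025 l2026 (Nat.ble (nat_lit 2026) i)) (Nat.ble (nat_lit 2025) i)) (@Bool.rec (fun _ => ℕ) (@Bool.rec (fun _ => ℕ) l2027 l2028 (Nat.ble (nat_lit 2028) i)) (@Bool.rec (fun _ => ℕ) l2029 (t2030_2032 i) (Nat.ble (nat_lit 2030) i)) (Nat.ble (nat_lit 2029) i)) (Nat.ble (nat_lit 2027) i))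
noncomputable def t2039_2041 (i : ℕ) : ℕ := (@Bool.rec (fun _ => ℕ) l2039 l2040 (Nat.ble (nat_lit 2040) i))
noncomputable def t2032_2041 (i : ℕ) : ℕ := (@Bool.rec (fun _ => ℕ) (@Bool.rec (fun _ => ℕ) (@Bool.rec (fun _ => ℕ) l2032 l2033 (Nat.ble (nat_lit 2033) i)) (@Bool.rec (fun _ => ℕ) l2034 l2035 (Nat.ble (nat_lit 2035) i)) (Nat.ble (nat_lit 2034) i)) (@Bool.rec (fun _ => ℕ) (@Bool.rec (fun _ => ℕ) l2036 l2037 (Nat.ble (nat_lit 2037) i)) (@Bool.rec (fun _ => ℕ) l2038 (t2039_2041 i) (Nat.ble (nat_lit 2039) i)) (Nat.ble (nat_lit 2038) i)) (Nat.ble (nat_lit 2036) i))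
noncomputable def t2048_2050 (i : ℕ) : ℕ := (@Bool.rec (fun _ => ℕ) l2048 l2049 (Nat.ble (nat_lit 2049) i))
noncomputable def t2041_2050 (i : ℕ) : ℕ := (@Bool.rec (fun _ => ℕ) (@Bool.rec (fun _ => ℕ) (@Bool.rec (fun _ => ℕ) l2041 l2042 (Nat.ble (nat_lit 2042) i)) (@Bool.rec (fun _ => ℕ) l2043 l2044 (Nat.ble (nat_lit 2044) i)) (Nat.ble (nat_lit 2043) i)) (@Bool.rec (fun _ => ℕ) (@Bool.rec (fun _ => ℕ) l2045 l2046 (Nat.ble (nat_lit 2046) i)) (@Bool.rec (fun _ => ℕ) l2047 (t2048_2050 i) (Nat.ble (nat_lit 2048) i)) (Nat.ble (nat_lit 2047) i)) (Nat.ble (nat_lit 2045) i))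
noncomputable def t2053_2055 (i : ℕ) : ℕ := (@Bool.rec (fun _ => ℕ) l2053 l2054 (Nat.ble (nat_lit 2054) i))
noncomputable def t2058_2060 (i : ℕ) : ℕ := (@Bool.rec (fun _ => ℕ) l2058 l2059 (Nat.ble (nat_lit 2059) i))
noncomputable def t2050_2060 (i : ℕ) : ℕ := (@Bool.rec (fun _ => ℕ) (@Bool.rec (fun _ => ℕ) (@Bool.rec (fun _ => ℕ) l2050 l2051 (Nat.ble (nat_lit 2051) i)) (@Bool.rec (fun _ => ℕ) l2052 (t2053_2055 i) (Nat.ble (nat_lit 2053) i)) (Nat.ble (nat_lit 2052) i)) (@Bool.rec (fun _ => ℕ) (@Bool.rec (fun _ => ℕ) l2055 l2056 (Nat.ble (nat_lit 2056) i)) (@Bool.rec (fun _ => ℕ) l2057 (t2058_2060 i) (Nat.ble (nat_lit 2058) i)) (Nat.ble (nat_lit 2057) i)) (Nat.ble (nat_lit 2055) i))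
noncomputable def t2067_2069 (i : ℕ) : ℕ := (@Bool.rec (fun _ => ℕ) l2067 l2068 (Nat.ble (nat_lit 2068) i))
noncomputable def t2060_2069 (i : ℕ) : ℕ := (@Bool.rec (fun _ => ℕ) (@Bool.rec (fun _ => ℕ) (@Bool.rec (fun _ => ℕ) l2060 l2061 (Nat.ble (nat_lit 2061) i)) (@Bool.rec (fun _ => ℕ) l2062 l2063 (Nat.ble (nat_lit 2063) i)) (Nat.ble (nat_lit 2062) i)) (@Bool.rec (fun _ => ℕ) (@Bool.rec (fun _ => ℕ) l2064 l2065 (Nat.ble (nat_lit 2065) i)) (@Bool.rec (fun _ => ℕ) l2066 (t2067_2069 i) (Nat.ble (nat_lit 2067) i)) (Nat.ble (nat_lit 2066) i)) (Nat.ble (nat_lit 2064) i))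
noncomputable def t2072_2074 (i : ℕ) : ℕ := (@Bool.rec (fun _ => ℕ) l2072 l2073 (Nat.ble (nat_lit 2073) i))
noncomputable def t2077_2079 (i : ℕ) : ℕ := (@Bool.rec (fun _ => ℕ) l2077 l2078 (Nat.ble (nat_lit 2078) i))
noncomputable def t2069_2079 (i : ℕ) : ℕ := (@Bool.rec (fun _ => ℕ) (@Bool.rec (fun _ => ℕ) (@Bool.rec (fun _ => ℕ) l2069 l2070 (Nat.ble (nat_lit 2070) i)) (@Bool.rec (fun _ => ℕ) l2071 (t2072_2074 i) (Nat.ble (nat_lit 2072) i)) (Nat.ble (nat_lit 2071) i)) (@Bool.rec (fun _ => ℕ) (@Bool.rec (fun _ => ℕ) l2074 l2075 (Nat.ble (nat_lit 2075) i)) (@Bool.rec (fun _ => ℕ) l2076 (t2077_2079 i) (Nat.ble (nat_lit 2077) i)) (Nat.ble (nat_lit 2076) i)) (Nat.ble (nat_lit 2074) i))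
noncomputable def t2086_2088 (i : ℕ) : ℕ := (@Bool.rec (fun _ => ℕ) l2086 l2087 (Nat.ble (nat_lit 2087) i))
noncomputable def t2079_2088 (i : ℕ) : ℕ := (@Bool.rec (fun _ => ℕ) (@Bool.rec (fun _ => ℕ) (@Bool.rec (fun _ => ℕ) l2079 l2080 (Nat.ble (nat_lit 2080) i)) (@Bool.rec (fun _ => ℕ) l2081 l2082 (Nat.ble (nat_lit 2082) i)) (Nat.ble (nat_lit 2081) i)) (@Bool.rec (fun _ => ℕ) (@Bool.rec (fun _ => ℕ) l2083 l2084 (Nat.ble (nat_lit 2084) i)) (@Bool.rec (fun _ => ℕ) l2085 (t2086_2088 i) (Nat.ble (nat_lit 2086) i)) (Nat.ble (nat_lit 2085) i)) (Nat.ble (nat_lit 2083) i))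
noncomputable def t2091_2093 (i : ℕ) : ℕ := (@Bool.rec (fun _ => ℕ) l2091 l2092 (Nat.ble (nat_lit 2092) i))
noncomputable def t2096_2098 (i : ℕ) : ℕ := (@Bool.rec (fun _ => ℕ) l2096 l2097 (Nat.ble (nat_lit 2097) i))
noncomputable def t2088_2098 (i : ℕ) : ℕ := (@Bool.rec (fun _ => ℕ) (@Bool.rec (fun _ => ℕ) (@Bool.rec (fun _ => ℕ) l2088 l2089 (Nat.ble (nat_lit 2089) i)) (@Bool.rec (fun _ => ℕ) l2090 (t2091_2093 i) (Nat.ble (nat_lit 2091) i)) (Nat.ble (nat_lit 2090) i)) (@Bool.rec (fun _ => ℕ) (@Bool.rec (fun _ => ℕ) l2093 l2094 (Nat.ble (nat_lit 2094) i)) (@Bool.rec (fun _ => ℕ) l2095 (t2096_2098 i) (Nat.ble (nat_lit 2096) i)) (Nat.ble (nat_lit 2095) i)) (Nat.ble (nat_lit 2093) i))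
noncomputable def t2023_2098 (i : ℕ) : ℕ := (@Bool.rec (fun _ => ℕ) (@Bool.rec (fun _ => ℕ) (@Bool.rec (fun _ => ℕ) (t2023_2032 i) (t2032_2041 i) (Nat.ble (nat_lit 2032) i)) (@Bool.rec (fun _ => ℕ) (t2041_2050 i) (t2050_2060 i) (Nat.ble (nat_lit 2050) i)) (Nat.ble (nat_lit 2041) i)) (@Bool.rec (fun _ => ℕ) (@Bool.rec (fun _ => ℕ) (t2060_2069 i) (t2069_2079 i) (Nat.ble (nat_lit 2069) i)) (@Bool.rec (fun _ => ℕ) (t2079_2088 i) (t2088_2098 i) (Nat.ble (nat_lit 2088) i)) (Nat.ble (nat_lit 2079) i)) (Nat.ble (nat_lit 2060) i))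
noncomputable def t2105_2107 (i : ℕ) : ℕ := (@Bool.rec (fun _ => ℕ) l2105 l2106 (Nat.ble (nat_lit 2106) i))
noncomputable def t2098_2107 (i : ℕ) : ℕ := (@Bool.rec (fun _ => ℕ) (@Bool.rec (fun _ => ℕ) (@Bool.rec (fun _ => ℕ) l2098 l2099 (Nat.ble (nat_lit 2099) i)) (@Bool.rec (fun _ => ℕ) l2100 l2101 (Nat.ble (nat_lit 2101) i)) (Nat.ble (nat_lit 2100) i)) (@Bool.rec (fun _ => ℕ) (@Bool.rec (fun _ => ℕ) l2102 l2103 (Nat.ble (nat_lit 2103) i)) (@Bool.rec (fun _ => ℕ) l2104 (t2105_2107 i) (Nat.ble (nat_lit 2105) i)) (Nat.ble (nat_lit 2104) i)) (Nat.ble (nat_lit 2102) i))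
noncomputable def t2114_2116 (i : ℕ) : ℕ := (@Bool.rec (fun _ => ℕ) l2114 l2115 (Nat.ble (nat_lit 2115) i))
noncomputable def t2107_2116 (i : ℕ) : ℕ := (@Bool.rec (fun _ => ℕ) (@Bool.rec (fun _ => ℕ) (@Bool.rec (fun _ => ℕ) l2107 l2108 (Nat.ble (nat_lit 2108) i)) (@Bool.rec (fun _ => ℕ) l2109 l2110 (Nat.ble (nat_lit 2110) i)) (Nat.ble (nat_lit 2109) i)) (@Bool.rec (fun _ => ℕ) (@Bool.rec (fun _ => ℕ) l2111 l2112 (Nat.ble (nat_lit 2112) i)) (@Bool.rec (fun _ => ℕ) l2113 (t2114_2116 i) (Nat.ble (nat_lit 2114) i)) (Nat.ble (nat_lit 2113) i)) (Nat.ble (nat_lit 2111) i))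
noncomputable def t2123_2125 (i : ℕ) : ℕ := (@Bool.rec (fun _ => ℕ) l2123 l2124 (Nat.ble (nat_lit 2124) i))
noncomputable def t2116_2125 (i : ℕ) : ℕ := (@Bool.rec (fun _ => ℕ) (@Bool.rec (fun _ => ℕ) (@Bool.rec (fun _ => ℕ) l2116 l2117 (Nat.ble (nat_lit 2117) i)) (@Bool.rec (fun _ => ℕ) l2118 l2119 (Nat.ble (nat_lit 2119) i)) (Nat.ble (nat_lit 2118) i)) (@Bool.rec (fun _ => ℕ) (@Bool.rec (fun _ => ℕ) l2120 l2121 (Nat.ble (nat_lit 2121) i)) (@Bool.rec (fun _ => ℕ) l2122 (t2123_2125 i) (Nat.ble (nat_lit 2123) i)) (Nat.ble (nat_lit 2122) i)) (Nat.ble (nat_lit 2120) i))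
noncomputable def t2128_2130 (i : ℕ) : ℕ := (@Bool.rec (fun _ => ℕ) l2128 l2129 (Nat.ble (nat_lit 2129) i))
noncomputable def t2133_2135 (i : ℕ) : ℕ := (@Bool.rec (fun _ => ℕ) l2133 l2134 (Nat.ble (nat_lit 2134) i))
noncomputable def t2125_2135 (i : ℕ) : ℕ := (@Bool.rec (fun _ => ℕ) (@Bool.rec (fun _ => ℕ) (@Bool.rec (fun _ => ℕ) l2125 l2126 (Nat.ble (nat_lit 2126) i)) (@Bool.rec (fun _ => ℕ) l2127 (t2128_2130 i) (Nat.ble (nat_lit 2128) i)) (Nat.ble (nat_lit 2127) i)) (@Bool.rec (fun _ => ℕ) (@Bool.rec (fun _ => ℕ) l2130 l2131 (Nat.ble (nat_lit 2131) i)) (@Bool.rec (fun _ => ℕ) l2132 (t2133_2135 i) (Nat.ble (nat_lit 2133) i)) (Nat.ble (nat_lit 2132) i)) (Nat.ble (nat_lit 2130) i))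
noncomputable def t2142_2144 (i : ℕ) : ℕ := (@Bool.rec (fun _ => ℕ) l2142 l2143 (Nat.ble (nat_lit 2143) i))
noncomputable def t2135_2144 (i : ℕ) : ℕ := (@Bool.rec (fun _ => ℕ) (@Bool.rec (fun _ => ℕ) (@Bool.rec (fun _ => ℕ) l2135 l2136 (Nat.ble (nat_lit 2136) i)) (@Bool.rec (fun _ => ℕ) l2137 l2138 (Nat.ble (nat_lit 2138) i)) (Nat.ble (nat_lit 2137) i)) (@Bool.rec (fun _ => ℕ) (@Bool.rec (fun _ => ℕ) l2139 l2140 (Nat.ble (nat_lit 2140) i)) (@Bool.rec (fun _ => ℕ) l2141 (t2142_2144 i) (Nat.ble (nat_lit 2142) i)) (Nat.ble (nat_lit 2141) i)) (Nat.ble (nat_lit 2139) i))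
noncomputable def t2147_2149 (i : ℕ) : ℕ := (@Bool.rec (fun _ => ℕ) l2147 l2148 (Nat.ble (nat_lit 2148) i))
noncomputable def t2152_2154 (i : ℕ) : ℕ := (@Bool.rec (fun _ => ℕ) l2152 l2153 (Nat.ble (nat_lit 2153) i))
noncomputable def t2144_2154 (i : ℕ) : ℕ := (@Bool.rec (fun _ => ℕ) (@Bool.rec (fun _ => ℕ) (@Bool.rec (fun _ => ℕ) l2144 l2145 (Nat.ble (nat_lit 2145) i)) (@Bool.rec (fun _ => ℕ) l2146 (t2147_2149 i) (Nat.ble (nat_lit 2147) i)) (Nat.ble (nat_lit 2146) i)) (@Bool.rec (fun _ => ℕ) (@Bool.rec (fun _ => ℕ) l2149 l2150 (Nat.ble (nat_lit 2150) i)) (@Bool.rec (fun _ => ℕ) l2151 (t2152_2154 i) (Nat.ble (nat_lit 2152) i)) (Nat.ble (nat_lit 2151) i)) (Nat.ble (nat_lit 2149) i))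
noncomputable def t2161_2163 (i : ℕ) : ℕ := (@Bool.rec (fun _ => ℕ) l2161 l2162 (Nat.ble (nat_lit 2162) i))
noncomputable def t2154_2163 (i : ℕ) : ℕ := (@Bool.rec (fun _ => ℕ) (@Bool.rec (fun _ => ℕ) (@Bool.rec (fun _ => ℕ) l2154 l2155 (Nat.ble (nat_lit 2155) i)) (@Bool.rec (fun _ => ℕ) l2156 l2157 (Nat.ble (nat_lit 2157) i)) (Nat.ble (nat_lit 2156) i)) (@Bool.rec (fun _ => ℕ) (@Bool.rec (fun _ => ℕ) l2158 l2159 (Nat.ble (nat_lit 2159) i)) (@Bool.rec (fun _ => ℕ) l2160 (t2161_2163 i) (Nat.ble (nat_lit 2161) i)) (Nat.ble (nat_lit 2160) i)) (Nat.ble (nat_lit 2158) i))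
noncomputable def t2166_2168 (i : ℕ) : ℕ := (@Bool.rec (fun _ => ℕ) l2166 l2167 (Nat.ble (nat_lit 2167) i))
noncomputable def t2171_2173 (i : ℕ) : ℕ := (@Bool.rec (fun _ => ℕ) l2171 l2172 (Nat.ble (nat_lit 2172) i))
noncomputable def t2163_2173 (i : ℕ) : ℕ := (@Bool.rec (fun _ => ℕ) (@Bool.rec (fun _ => ℕ) (@Bool.rec (fun _ => ℕ) l2163 l2164 (Nat.ble (nat_lit 2164) i)) (@Bool.rec (fun _ => ℕ) l2165 (t2166_2168 i) (Nat.ble (nat_lit 2166) i)) (Nat.ble (nat_lit 2165) i)) (@Bool.rec (fun _ => ℕ) (@Bool.rec (fun _ => ℕ) l2168 l2169 (Nat.ble (nat_lit 2169) i)) (@Bool.rec (fun _ => ℕ) l2170 (t2171_2173 i) (Nat.ble (nat_lit 2171) i)) (Nat.ble (nat_lit 2170) i)) (Nat.ble (nat_lit 2168) i))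
noncomputable def t2098_2173 (i : ℕ) : ℕ := (@Bool.rec (fun _ => ℕ) (@Bool.rec (fun _ => ℕ) (@Bool.rec (fun _ => ℕ) (t2098_2107 i) (t2107_2116 i) (Nat.ble (nat_lit 2107) i)) (@Bool.rec (fun _ => ℕ) (t2116_2125 i) (t2125_2135 i) (Nat.ble (nat_lit 2125) i)) (Nat.ble (nat_lit 2116) i)) (@Bool.rec (fun _ => ℕ) (@Bool.rec (fun _ => ℕ) (t2135_2144 i) (t2144_2154 i) (Nat.ble (nat_lit 2144) i)) (@Bool.rec (fun _ => ℕ) (t2154_2163 i) (t2163_2173 i) (Nat.ble (nat_lit 2163) i)) (Nat.ble (nat_lit 2154) i)) (Nat.ble (nat_lit 2135) i))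
noncomputable def t2180_2182 (i : ℕ) : ℕ := (@Bool.rec (fun _ => ℕ) l2180 l2181 (Nat.ble (nat_lit 2181) i))
noncomputable def t2173_2182 (i : ℕ) : ℕ := (@Bool.rec (fun _ => ℕ) (@Bool.rec (fun _ => ℕ) (@Bool.rec (fun _ => ℕ) l2173 l2174 (Nat.ble (nat_lit 2174) i)) (@Bool.rec (fun _ => ℕ) l2175 l2176 (Nat.ble (nat_lit 2176) i)) (Nat.ble (nat_lit 2175) i)) (@Bool.rec (fun _ => ℕ) (@Bool.rec (fun _ => ℕ) l2177 l2178 (Nat.ble (nat_lit 2178) i)) (@Bool.rec (fun _ => ℕ) l2179 (t2180_2182 i) (Nat.ble (nat_lit 2180) i)) (Nat.ble (nat_lit 2179) i)) (Nat.ble (nat_lit 2177) i))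
noncomputable def t2189_2191 (i : ℕ) : ℕ := (@Bool.rec (fun _ => ℕ) l2189 l2190 (Nat.ble (nat_lit 2190) i))
noncomputable def t2182_2191 (i : ℕ) : ℕ := (@Bool.rec (fun _ => ℕ) (@Bool.rec (fun _ => ℕ) (@Bool.rec (fun _ => ℕ) l2182 l2183 (Nat.ble (nat_lit 2183) i)) (@Bool.rec (fun _ => ℕ) l2184 l2185 (Nat.ble (nat_lit 2185) i)) (Nat.ble (nat_lit 2184) i)) (@Bool.rec (fun _ => ℕ) (@Bool.rec (fun _ => ℕ) l2186 l2187 (Nat.ble (nat_lit 2187) i)) (@Bool.rec (fun _ => ℕ) l2188 (t2189_2191 i) (Nat.ble (nat_lit 2189) i)) (Nat.ble (nat_lit 2188) i)) (Nat.ble (nat_lit 2186) i))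
noncomputable def t2198_2200 (i : ℕ) : ℕ := (@Bool.rec (fun _ => ℕ) l2198 l2199 (Nat.ble (nat_lit 2199) i))
noncomputable def t2191_2200 (i : ℕ) : ℕ := (@Bool.rec (fun _ => ℕ) (@Bool.rec (fun _ => ℕ) (@Bool.rec (fun _ => ℕ) l2191 l2192 (Nat.ble (nat_lit 2192) i)) (@Bool.rec (fun _ => ℕ) l2193 l2194 (Nat.ble (nat_lit 2194) i)) (Nat.ble (nat_lit 2193) i)) (@Bool.rec (fun _ => ℕ) (@Bool.rec (fun _ => ℕ) l2195 l2196 (Nat.ble (nat_lit 2196) i)) (@Bool.rec (fun _ => ℕ) l2197 (t2198_2200 i) (Nat.ble (nat_lit 2198) i)) (Nat.ble (nat_lit 2197) i)) (Nat.ble (nat_lit 2195) i))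
noncomputable def t2203_2205 (i : ℕ) : ℕ := (@Bool.rec (fun _ => ℕ) l2203 l2204 (Nat.ble (nat_lit 2204) i))
noncomputable def t2208_2210 (i : ℕ) : ℕ := (@Bool.rec (fun _ => ℕ) l2208 l2209 (Nat.ble (nat_lit 2209) i))
noncomputable def t2200_2210 (i : ℕ) : ℕ := (@Bool.rec (fun _ => ℕ) (@Bool.rec (fun _ => ℕ) (@Bool.rec (fun _ => ℕ) l2200 l2201 (Nat.ble (nat_lit 2201) i)) (@Bool.rec (fun _ => ℕ) l2202 (t2203_2205 i) (Nat.ble (nat_lit 2203) i)) (Nat.ble (nat_lit 2202) i)) (@Bool.rec (fun _ => ℕ) (@Bool.rec (fun _ => ℕ) l2205 l2206 (Nat.ble (nat_lit 2206) i)) (@Bool.rec (fun _ => ℕ) l2207 (t2208_2210 i) (Nat.ble (nat_lit 2208) i)) (Nat.ble (nat_lit 2207) i)) (Nat.ble (nat_lit 2205) i))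
noncomputable def t2217_2219 (i : ℕ) : ℕ := (@Bool.rec (fun _ => ℕ) l2217 l2218 (Nat.ble (nat_lit 2218) i))
noncomputable def t2210_2219 (i : ℕ) : ℕ := (@Bool.rec (fun _ => ℕ) (@Bool.rec (fun _ => ℕ) (@Bool.rec (fun _ => ℕ) l2210 l2211 (Nat.ble (nat_lit 2211) i)) (@Bool.rec (fun _ => ℕ) l2212 l2213 (Nat.ble (nat_lit 2213) i)) (Nat.ble (nat_lit 2212) i)) (@Bool.rec (fun _ => ℕ) (@Bool.rec (fun _ => ℕ) l2214 l2215 (Nat.ble (nat_lit 2215) i)) (@Bool.rec (fun _ => ℕ) l2216 (t2217_2219 i) (Nat.ble (nat_lit 2217) i)) (Nat.ble (nat_lit 2216) i)) (Nat.ble (nat_lit 2214) i))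
noncomputable def t2222_2224 (i : ℕ) : ℕ := (@Bool.rec (fun _ => ℕ) l2222 l2223 (Nat.ble (nat_lit 2223) i))
noncomputable def t2227_2229 (i : ℕ) : ℕ := (@Bool.rec (fun _ => ℕ) l2227 l2228 (Nat.ble (nat_lit 2228) i))
noncomputable def t2219_2229 (i : ℕ) : ℕ := (@Bool.rec (fun _ => ℕ) (@Bool.rec (fun _ => ℕ) (@Bool.rec (fun _ => ℕ) l2219 l2220 (Nat.ble (nat_lit 2220) i)) (@Bool.rec (fun _ => ℕ) l2221 (t2222_2224 i) (Nat.ble (nat_lit 2222) i)) (Nat.ble (nat_lit 2221) i)) (@Bool.rec (fun _ => ℕ) (@Bool.rec (fun _ => ℕ) l2224 l2225 (Nat.ble (nat_lit 2225) i)) (@Bool.rec (fun _ => ℕ) l2226 (t2227_2229 i) (Nat.ble (nat_lit 2227) i)) (Nat.ble (nat_lit 2226) i)) (Nat.ble (nat_lit 2224) i))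
noncomputable def t2236_2238 (i : ℕ) : ℕ := (@Bool.rec (fun _ => ℕ) l2236 l2237 (Nat.ble (nat_lit 2237) i))
noncomputable def t2229_2238 (i : ℕ) : ℕ := (@Bool.rec (fun _ => ℕ) (@Bool.rec (fun _ => ℕ) (@Bool.rec (fun _ => ℕ) l2229 l2230 (Nat.ble (nat_lit 2230) i)) (@Bool.rec (fun _ => ℕ) l2231 l2232 (Nat.ble (nat_lit 2232) i)) (Nat.ble (nat_lit 2231) i)) (@Bool.rec (fun _ => ℕ) (@Bool.rec (fun _ => ℕ) l2233 l2234 (Nat.ble (nat_lit 2234) i)) (@Bool.rec (fun _ => ℕ) l2235 (t2236_2238 i) (Nat.ble (nat_lit 2236) i)) (Nat.ble (nat_lit 2235) i)) (Nat.ble (nat_lit 2233) i))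
noncomputable def t2241_2243 (i : ℕ) : ℕ := (@Bool.rec (fun _ => ℕ) l2241 l2242 (Nat.ble (nat_lit 2242) i))
noncomputable def t2246_2248 (i : ℕ) : ℕ := (@Bool.rec (fun _ => ℕ) l2246 l2247 (Nat.ble (nat_lit 2247) i))
noncomputable def t2238_2248 (i : ℕ) : ℕ := (@Bool.rec (fun _ => ℕ) (@Bool.rec (fun _ => ℕ) (@Bool.rec (fun _ => ℕ) l2238 l2239 (Nat.ble (nat_lit 2239) i)) (@Bool.rec (fun _ => ℕ) l2240 (t2241_2243 i) (Nat.ble (nat_lit 2241) i)) (Nat.ble (nat_lit 2240) i)) (@Bool.rec (fun _ => ℕ) (@Bool.rec (fun _ => ℕ) l2243 l2244 (Nat.ble (nat_lit 2244) i)) (@Bool.rec (fun _ => ℕ) l2245 (t2246_2248 i) (Nat.ble (nat_lit 2246) i)) (Nat.ble (nat_lit 2245) i)) (Nat.ble (nat_lit 2243) i))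
noncomputable def t2173_2248 (i : ℕ) : ℕ := (@Bool.rec (fun _ => ℕ) (@Bool.rec (fun _ => ℕ) (@Bool.rec (fun _ => ℕ) (t2173_2182 i) (t2182_2191 i) (Nat.ble (nat_lit 2182) i)) (@Bool.rec (fun _ => ℕ) (t2191_2200 i) (t2200_2210 i) (Nat.ble (nat_lit 2200) i)) (Nat.ble (nat_lit 2191) i)) (@Bool.rec (fun _ => ℕ) (@Bool.rec (fun _ => ℕ) (t2210_2219 i) (t2219_2229 i) (Nat.ble (nat_lit 2219) i)) (@Bool.rec (fun _ => ℕ) (t2229_2238 i) (t2238_2248 i) (Nat.ble (nat_lit 2238) i)) (Nat.ble (nat_lit 2229) i)) (Nat.ble (nat_lit 2210) i))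
noncomputable def t2255_2257 (i : ℕ) : ℕ := (@Bool.rec (fun _ => ℕ) l2255 l2256 (Nat.ble (nat_lit 2256) i))
noncomputable def t2248_2257 (i : ℕ) : ℕ := (@Bool.rec (fun _ => ℕ) (@Bool.rec (fun _ => ℕ) (@Bool.rec (fun _ => ℕ) l2248 l2249 (Nat.ble (nat_lit 2249) i)) (@Bool.rec (fun _ => ℕ) l2250 l2251 (Nat.ble (nat_lit 2251) i)) (Nat.ble (nat_lit 2250) i)) (@Bool.rec (fun _ => ℕ) (@Bool.rec (fun _ => ℕ) l2252 l2253 (Nat.ble (nat_lit 2253) i)) (@Bool.rec (fun _ => ℕ) l2254 (t2255_2257 i) (Nat.ble (nat_lit 2255) i)) (Nat.ble (nat_lit 2254) i)) (Nat.ble (nat_lit 2252) i))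
noncomputable def t2264_2266 (i : ℕ) : ℕ := (@Bool.rec (fun _ => ℕ) l2264 l2265 (Nat.ble (nat_lit 2265) i))
noncomputable def t2257_2266 (i : ℕ) : ℕ := (@Bool.rec (fun _ => ℕ) (@Bool.rec (fun _ => ℕ) (@Bool.rec (fun _ => ℕ) l2257 l2258 (Nat.ble (nat_lit 2258) i)) (@Bool.rec (fun _ => ℕ) l2259 l2260 (Nat.ble (nat_lit 2260) i)) (Nat.ble (nat_lit 2259) i)) (@Bool.rec (fun _ => ℕ) (@Bool.rec (fun _ => ℕ) l2261 l2262 (Nat.ble (nat_lit 2262) i)) (@Bool.rec (fun _ => ℕ) l2263 (t2264_2266 i) (Nat.ble (nat_lit 2264) i)) (Nat.ble (nat_lit 2263) i)) (Nat.ble (nat_lit 2261) i))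
noncomputable def t2273_2275 (i : ℕ) : ℕ := (@Bool.rec (fun _ => ℕ) l2273 l2274 (Nat.ble (nat_lit 2274) i))
noncomputable def t2266_2275 (i : ℕ) : ℕ := (@Bool.rec (fun _ => ℕ) (@Bool.rec (fun _ => ℕ) (@Bool.rec (fun _ => ℕ) l2266 l2267 (Nat.ble (nat_lit 2267) i)) (@Bool.rec (fun _ => ℕ) l2268 l2269 (Nat.ble (nat_lit 2269) i)) (Nat.ble (nat_lit 2268) i)) (@Bool.rec (fun _ => ℕ) (@Bool.rec (fun _ => ℕ) l2270 l2271 (Nat.ble (nat_lit 2271) i)) (@Bool.rec (fun _ => ℕ) l2272 (t2273_2275 i) (Nat.ble (nat_lit 2273) i)) (Nat.ble (nat_lit 2272) i)) (Nat.ble (nat_lit 2270) i))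
noncomputable def t2278_2280 (i : ℕ) : ℕ := (@Bool.rec (fun _ => ℕ) l2278 l2279 (Nat.ble (nat_lit 2279) i))
noncomputable def t2283_2285 (i : ℕ) : ℕ := (@Bool.rec (fun _ => ℕ) l2283 l2284 (Nat.ble (nat_lit 2284) i))
noncomputable def t2275_2285 (i : ℕ) : ℕ := (@Bool.rec (fun _ => ℕ) (@Bool.rec (fun _ => ℕ) (@Bool.rec (fun _ => ℕ) l2275 l2276 (Nat.ble (nat_lit 2276) i)) (@Bool.rec (fun _ => ℕ) l2277 (t2278_2280 i) (Nat.ble (nat_lit 2278) i)) (Nat.ble (nat_lit 2277) i)) (@Bool.rec (fun _ => ℕ) (@Bool.rec (fun _ => ℕ) l2280 l2281 (Nat.ble (nat_lit 2281) i)) (@Bool.rec (fun _ => ℕ) l2282 (t2283_2285 i) (Nat.ble (nat_lit 2283) i)) (Nat.ble (nat_lit 2282) i)) (Nat.ble (nat_lit 2280) i))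
noncomputable def t2292_2294 (i : ℕ) : ℕ := (@Bool.rec (fun _ => ℕ) l2292 l2293 (Nat.ble (nat_lit 2293) i))
noncomputable def t2285_2294 (i : ℕ) : ℕ := (@Bool.rec (fun _ => ℕ) (@Bool.rec (fun _ => ℕ) (@Bool.rec (fun _ => ℕ) l2285 l2286 (Nat.ble (nat_lit 2286) i)) (@Bool.rec (fun _ => ℕ) l2287 l2288 (Nat.ble (nat_lit 2288) i)) (Nat.ble (nat_lit 2287) i)) (@Bool.rec (fun _ => ℕ) (@Bool.rec (fun _ => ℕ) l2289 l2290 (Nat.ble (nat_lit 2290) i)) (@Bool.rec (fun _ => ℕ) l2291 (t2292_2294 i) (Nat.ble (nat_lit 2292) i)) (Nat.ble (nat_lit 2291) i)) (Nat.ble (nat_lit 2289) i))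
noncomputable def t2297_2299 (i : ℕ) : ℕ := (@Bool.rec (fun _ => ℕ) l2297 l2298 (Nat.ble (nat_lit 2298) i))
noncomputable def t2302_2304 (i : ℕ) : ℕ := (@Bool.rec (fun _ => ℕ) l2302 l2303 (Nat.ble (nat_lit 2303) i))
noncomputable def t2294_2304 (i : ℕ) : ℕ := (@Bool.rec (fun _ => ℕ) (@Bool.rec (fun _ => ℕ) (@Bool.rec (fun _ => ℕ) l2294 l2295 (Nat.ble (nat_lit 2295) i)) (@Bool.rec (fun _ => ℕ) l2296 (t2297_2299 i) (Nat.ble (nat_lit 2297) i)) (Nat.ble (nat_lit 2296) i)) (@Bool.rec (fun _ => ℕ) (@Bool.rec (fun _ => ℕ) l2299 l2300 (Nat.ble (nat_lit 2300) i)) (@Bool.rec (fun _ => ℕ) l2301 (t2302_2304 i) (Nat.ble (nat_lit 2302) i)) (Nat.ble (nat_lit 2301) i)) (Nat.ble (nat_lit 2299) i))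
noncomputable def t2311_2313 (i : ℕ) : ℕ := (@Bool.rec (fun _ => ℕ) l2311 l2312 (Nat.ble (nat_lit 2312) i))
noncomputable def t2304_2313 (i : ℕ) : ℕ := (@Bool.rec (fun _ => ℕ) (@Bool.rec (fun _ => ℕ) (@Bool.rec (fun _ => ℕ) l2304 l2305 (Nat.ble (nat_lit 2305) i)) (@Bool.rec (fun _ => ℕ) l2306 l2307 (Nat.ble (nat_lit 2307) i)) (Nat.ble (nat_lit 2306) i)) (@Bool.rec (fun _ => ℕ) (@Bool.rec (fun _ => ℕ) l2308 l2309 (Nat.ble (nat_lit 2309) i)) (@Bool.rec (fun _ => ℕ) l2310 (t2311_2313 i) (Nat.ble (nat_lit 2311) i)) (Nat.ble (nat_lit 2310) i)) (Nat.ble (nat_lit 2308) i))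
noncomputable def t2316_2318 (i : ℕ) : ℕ := (@Bool.rec (fun _ => ℕ) l2316 l2317 (Nat.ble (nat_lit 2317) i))
noncomputable def t2321_2323 (i : ℕ) : ℕ := (@Bool.rec (fun _ => ℕ) l2321 l2322 (Nat.ble (nat_lit 2322) i))
noncomputable def t2313_2323 (i : ℕ) : ℕ := (@Bool.rec (fun _ => ℕ) (@Bool.rec (fun _ => ℕ) (@Bool.rec (fun _ => ℕ) l2313 l2314 (Nat.ble (nat_lit 2314) i)) (@Bool.rec (fun _ => ℕ) l2315 (t2316_2318 i) (Nat.ble (nat_lit 2316) i)) (Nat.ble (nat_lit 2315) i)) (@Bool.rec (fun _ => ℕ) (@Bool.rec (fun _ => ℕ) l2318 l2319 (Nat.ble (nat_lit 2319) i)) (@Bool.rec (fun _ => ℕ) l2320 (t2321_2323 i) (Nat.ble (nat_lit 2321) i)) (Nat.ble (nat_lit 2320) i)) (Nat.ble (nat_lit 2318) i))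
noncomputable def t2248_2323 (i : ℕ) : ℕ := (@Bool.rec (fun _ => ℕ) (@Bool.rec (fun _ => ℕ) (@Bool.rec (fun _ => ℕ) (t2248_2257 i) (t2257_2266 i) (Nat.ble (nat_lit 2257) i)) (@Bool.rec (fun _ => ℕ) (t2266_2275 i) (t2275_2285 i) (Nat.ble (nat_lit 2275) i)) (Nat.ble (nat_lit 2266) i)) (@Bool.rec (fun _ => ℕ) (@Bool.rec (fun _ => ℕ) (t2285_2294 i) (t2294_2304 i) (Nat.ble (nat_lit 2294) i)) (@Bool.rec (fun _ => ℕ) (t2304_2313 i) (t2313_2323 i) (Nat.ble (nat_lit 2313) i)) (Nat.ble (nat_lit 2304) i)) (Nat.ble (nat_lit 2285) i))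
noncomputable def t2330_2332 (i : ℕ) : ℕ := (@Bool.rec (fun _ => ℕ) l2330 l2331 (Nat.ble (nat_lit 2331) i))
noncomputable def t2323_2332 (i : ℕ) : ℕ := (@Bool.rec (fun _ => ℕ) (@Bool.rec (fun _ => ℕ) (@Bool.rec (fun _ => ℕ) l2323 l2324 (Nat.ble (nat_lit 2324) i)) (@Bool.rec (fun _ => ℕ) l2325 l2326 (Nat.ble (nat_lit 2326) i)) (Nat.ble (nat_lit 2325) i)) (@Bool.rec (fun _ => ℕ) (@Bool.rec (fun _ => ℕ) l2327 l2328 (Nat.ble (nat_lit 2328) i)) (@Bool.rec (fun _ => ℕ) l2329 (t2330_2332 i) (Nat.ble (nat_lit 2330) i)) (Nat.ble (nat_lit 2329) i)) (Nat.ble (nat_lit 2327) i))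
noncomputable def t2339_2341 (i : ℕ) : ℕ := (@Bool.rec (fun _ => ℕ) l2339 l2340 (Nat.ble (nat_lit 2340) i))
noncomputable def t2332_2341 (i : ℕ) : ℕ := (@Bool.rec (fun _ => ℕ) (@Bool.rec (fun _ => ℕ) (@Bool.rec (fun _ => ℕ) l2332 l2333 (Nat.ble (nat_lit 2333) i)) (@Bool.rec (fun _ => ℕ) l2334 l2335 (Nat.ble (nat_lit 2335) i)) (Nat.ble (nat_lit 2334) i)) (@Bool.rec (fun _ => ℕ) (@Bool.rec (fun _ => ℕ) l2336 l2337 (Nat.ble (nat_lit 2337) i)) (@Bool.rec (fun _ => ℕ) l2338 (t2339_2341 i) (Nat.ble (nat_lit 2339) i)) (Nat.ble (nat_lit 2338) i)) (Nat.ble (nat_lit 2336) i))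
noncomputable def t2348_2350 (i : ℕ) : ℕ := (@Bool.rec (fun _ => ℕ) l2348 l2349 (Nat.ble (nat_lit 2349) i))
noncomputable def t2341_2350 (i : ℕ) : ℕ := (@Bool.rec (fun _ => ℕ) (@Bool.rec (fun _ => ℕ) (@Bool.rec (fun _ => ℕ) l2341 l2342 (Nat.ble (nat_lit 2342) i)) (@Bool.rec (fun _ => ℕ) l2343 l2344 (Nat.ble (nat_lit 2344) i)) (Nat.ble (nat_lit 2343) i)) (@Bool.rec (fun _ => ℕ) (@Bool.rec (fun _ => ℕ) l2345 l2346 (Nat.ble (nat_lit 2346) i)) (@Bool.rec (fun _ => ℕ) l2347 (t2348_2350 i) (Nat.ble (nat_lit 2348) i)) (Nat.ble (nat_lit 2347) i)) (Nat.ble (nat_lit 2345) i))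
noncomputable def t2353_2355 (i : ℕ) : ℕ := (@Bool.rec (fun _ => ℕ) l2353 l2354 (Nat.ble (nat_lit 2354) i))
noncomputable def t2358_2360 (i : ℕ) : ℕ := (@Bool.rec (fun _ => ℕ) l2358 l2359 (Nat.ble (nat_lit 2359) i))
noncomputable def t2350_2360 (i : ℕ) : ℕ := (@Bool.rec (fun _ => ℕ) (@Bool.rec (fun _ => ℕ) (@Bool.rec (fun _ => ℕ) l2350 l2351 (Nat.ble (nat_lit 2351) i)) (@Bool.rec (fun _ => ℕ) l2352 (t2353_2355 i) (Nat.ble (nat_lit 2353) i)) (Nat.ble (nat_lit 2352) i)) (@Bool.rec (fun _ => ℕ) (@Bool.rec (fun _ => ℕ) l2355 l2356 (Nat.ble (nat_lit 2356) i)) (@Bool.rec (fun _ => ℕ) l2357 (t2358_2360 i) (Nat.ble (nat_lit 2358) i)) (Nat.ble (nat_lit 2357) i)) (Nat.ble (nat_lit 2355) i))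
noncomputable def t2367_2369 (i : ℕ) : ℕ := (@Bool.rec (fun _ => ℕ) l2367 l2368 (Nat.ble (nat_lit 2368) i))
noncomputable def t2360_2369 (i : ℕ) : ℕ := (@Bool.rec (fun _ => ℕ) (@Bool.rec (fun _ => ℕ) (@Bool.rec (fun _ => ℕ) l2360 l2361 (Nat.ble (nat_lit 2361) i)) (@Bool.rec (fun _ => ℕ) l2362 l2363 (Nat.ble (nat_lit 2363) i)) (Nat.ble (nat_lit 2362) i)) (@Bool.rec (fun _ => ℕ) (@Bool.rec (fun _ => ℕ) l2364 l2365 (Nat.ble (nat_lit 2365) i)) (@Bool.rec (fun _ => ℕ) l2366 (t2367_2369 i) (Nat.ble (nat_lit 2367) i)) (Nat.ble (nat_lit 2366) i)) (Nat.ble (nat_lit 2364) i))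
noncomputable def t2372_2374 (i : ℕ) : ℕ := (@Bool.rec (fun _ => ℕ) l2372 l2373 (Nat.ble (nat_lit 2373) i))
noncomputable def t2377_2379 (i : ℕ) : ℕ := (@Bool.rec (fun _ => ℕ) l2377 l2378 (Nat.ble (nat_lit 2378) i))
noncomputable def t2369_2379 (i : ℕ) : ℕ := (@Bool.rec (fun _ => ℕ) (@Bool.rec (fun _ => ℕ) (@Bool.rec (fun _ => ℕ) l2369 l2370 (Nat.ble (nat_lit 2370) i)) (@Bool.rec (fun _ => ℕ) l2371 (t2372_2374 i) (Nat.ble (nat_lit 2372) i)) (Nat.ble (nat_lit 2371) i)) (@Bool.rec (fun _ => ℕ) (@Bool.rec (fun _ => ℕ) l2374 l2375 (Nat.ble (nat_lit 2375) i)) (@Bool.rec (fun _ => ℕ) l2376 (t2377_2379 i) (Nat.ble (nat_lit 2377) i)) (Nat.ble (nat_lit 2376) i)) (Nat.ble (nat_lit 2374) i))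
noncomputable def t2386_2388 (i : ℕ) : ℕ := (@Bool.rec (fun _ => ℕ) l2386 l2387 (Nat.ble (nat_lit 2387) i))
noncomputable def t2379_2388 (i : ℕ) : ℕ := (@Bool.rec (fun _ => ℕ) (@Bool.rec (fun _ => ℕ) (@Bool.rec (fun _ => ℕ) l2379 l2380 (Nat.ble (nat_lit 2380) i)) (@Bool.rec (fun _ => ℕ) l2381 l2382 (Nat.ble (nat_lit 2382) i)) (Nat.ble (nat_lit 2381) i)) (@Bool.rec (fun _ => ℕ) (@Bool.rec (fun _ => ℕ) l2383 l2384 (Nat.ble (nat_lit 2384) i)) (@Bool.rec (fun _ => ℕ) l2385 (t2386_2388 i) (Nat.ble (nat_lit 2386) i)) (Nat.ble (nat_lit 2385) i)) (Nat.ble (nat_lit 2383) i))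
noncomputable def t2391_2393 (i : ℕ) : ℕ := (@Bool.rec (fun _ => ℕ) l2391 l2392 (Nat.ble (nat_lit 2392) i))
noncomputable def t2396_2398 (i : ℕ) : ℕ := (@Bool.rec (fun _ => ℕ) l2396 l2397 (Nat.ble (nat_lit 2397) i))
noncomputable def t2388_2398 (i : ℕ) : ℕ := (@Bool.rec (fun _ => ℕ) (@Bool.rec (fun _ => ℕ) (@Bool.rec (fun _ => ℕ) l2388 l2389 (Nat.ble (nat_lit 2389) i)) (@Bool.rec (fun _ => ℕ) l2390 (t2391_2393 i) (Nat.ble (nat_lit 2391) i)) (Nat.ble (nat_lit 2390) i)) (@Bool.rec (fun _ => ℕ) (@Bool.rec (fun _ => ℕ) l2393 l2394 (Nat.ble (nat_lit 2394) i)) (@Bool.rec (fun _ => ℕ) l2395 (t2396_2398 i) (Nat.ble (nat_lit 2396) i)) (Nat.ble (nat_lit 2395) i)) (Nat.ble (nat_lit 2393) i))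
noncomputable def t2323_2398 (i : ℕ) : ℕ := (@Bool.rec (fun _ => ℕ) (@Bool.rec (fun _ => ℕ) (@Bool.rec (fun _ => ℕ) (t2323_2332 i) (t2332_2341 i) (Nat.ble (nat_lit 2332) i)) (@Bool.rec (fun _ => ℕ) (t2341_2350 i) (t2350_2360 i) (Nat.ble (nat_lit 2350) i)) (Nat.ble (nat_lit 2341) i)) (@Bool.rec (fun _ => ℕ) (@Bool.rec (fun _ => ℕ) (t2360_2369 i) (t2369_2379 i) (Nat.ble (nat_lit 2369) i)) (@Bool.rec (fun _ => ℕ) (t2379_2388 i) (t2388_2398 i) (Nat.ble (nat_lit 2388) i)) (Nat.ble (nat_lit 2379) i)) (Nat.ble (nat_lit 2360) i))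
noncomputable def t1798_2398 (i : ℕ) : ℕ := (@Bool.rec (fun _ => ℕ) (@Bool.rec (fun _ => ℕ) (@Bool.rec (fun _ => ℕ) (t1798_1873 i) (t1873_1948 i) (Nat.ble (nat_lit 1873) i)) (@Bool.rec (fun _ => ℕ) (t1948_2023 i) (t2023_2098 i) (Nat.ble (nat_lit 2023) i)) (Nat.ble (nat_lit 1948) i)) (@Bool.rec (fun _ => ℕ) (@Bool.rec (fun _ => ℕ) (t2098_2173 i) (t2173_2248 i) (Nat.ble (nat_lit 2173) i)) (@Bool.rec (fun _ => ℕ) (t2248_2323 i) (t2323_2398 i) (Nat.ble (nat_lit 2323) i)) (Nat.ble (nat_lit 2248) i)) (Nat.ble (nat_lit 2098) i))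
noncomputable def t2405_2407 (i : ℕ) : ℕ := (@Bool.rec (fun _ => ℕ) l2405 l2406 (Nat.ble (nat_lit 2406) i))
noncomputable def t2398_2407 (i : ℕ) : ℕ := (@Bool.rec (fun _ => ℕ) (@Bool.rec (fun _ => ℕ) (@Bool.rec (fun _ => ℕ) l2398 l2399 (Nat.ble (nat_lit 2399) i)) (@Bool.rec (fun _ => ℕ) l2400 l2401 (Nat.ble (nat_lit 2401) i)) (Nat.ble (nat_lit 2400) i)) (@Bool.rec (fun _ => ℕ) (@Bool.rec (fun _ => ℕ) l2402 l2403 (Nat.ble (nat_lit 2403) i)) (@Bool.rec (fun _ => ℕ) l2404 (t2405_2407 i) (Nat.ble (nat_lit 2405) i)) (Nat.ble (nat_lit 2404) i)) (Nat.ble (nat_lit 2402) i))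
noncomputable def t2414_2416 (i : ℕ) : ℕ := (@Bool.rec (fun _ => ℕ) l2414 l2415 (Nat.ble (nat_lit 2415) i))
noncomputable def t2407_2416 (i : ℕ) : ℕ := (@Bool.rec (fun _ => ℕ) (@Bool.rec (fun _ => ℕ) (@Bool.rec (fun _ => ℕ) l2407 l2408 (Nat.ble (nat_lit 2408) i)) (@Bool.rec (fun _ => ℕ) l2409 l2410 (Nat.ble (nat_lit 2410) i)) (Nat.ble (nat_lit 2409) i)) (@Bool.rec (fun _ => ℕ) (@Bool.rec (fun _ => ℕ) l2411 l2412 (Nat.ble (nat_lit 2412) i)) (@Bool.rec (fun _ => ℕ) l2413 (t2414_2416 i) (Nat.ble (nat_lit 2414) i)) (Nat.ble (nat_lit 2413) i)) (Nat.ble (nat_lit 2411) i))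
noncomputable def t2423_2425 (i : ℕ) : ℕ := (@Bool.rec (fun _ => ℕ) l2423 l2424 (Nat.ble (nat_lit 2424) i))
noncomputable def t2416_2425 (i : ℕ) : ℕ := (@Bool.rec (fun _ => ℕ) (@Bool.rec (fun _ => ℕ) (@Bool.rec (fun _ => ℕ) l2416 l2417 (Nat.ble (nat_lit 2417) i)) (@Bool.rec (fun _ => ℕ) l2418 l2419 (Nat.ble (nat_lit 2419) i)) (Nat.ble (nat_lit 2418) i)) (@Bool.rec (fun _ => ℕ) (@Bool.rec (fun _ => ℕ) l2420 l2421 (Nat.ble (nat_lit 2421) i)) (@Bool.rec (fun _ => ℕ) l2422 (t2423_2425 i) (Nat.ble (nat_lit 2423) i)) (Nat.ble (nat_lit 2422) i)) (Nat.ble (nat_lit 2420) i))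
noncomputable def t2428_2430 (i : ℕ) : ℕ := (@Bool.rec (fun _ => ℕ) l2428 l2429 (Nat.ble (nat_lit 2429) i))
noncomputable def t2433_2435 (i : ℕ) : ℕ := (@Bool.rec (fun _ => ℕ) l2433 l2434 (Nat.ble (nat_lit 2434) i))
noncomputable def t2425_2435 (i : ℕ) : ℕ := (@Bool.rec (fun _ => ℕ) (@Bool.rec (fun _ => ℕ) (@Bool.rec (fun _ => ℕ) l2425 l2426 (Nat.ble (nat_lit 2426) i)) (@Bool.rec (fun _ => ℕ) l2427 (t2428_2430 i) (Nat.ble (nat_lit 2428) i)) (Nat.ble (nat_lit 2427) i)) (@Bool.rec (fun _ => ℕ) (@Bool.rec (fun _ => ℕ) l2430 l2431 (Nat.ble (nat_lit 2431) i)) (@Bool.rec (fun _ => ℕ) l2432 (t2433_2435 i) (Nat.ble (nat_lit 2433) i)) (Nat.ble (nat_lit 2432) i)) (Nat.ble (nat_lit 2430) i))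
noncomputable def t2442_2444 (i : ℕ) : ℕ := (@Bool.rec (fun _ => ℕ) l2442 l2443 (Nat.ble (nat_lit 2443) i))
noncomputable def t2435_2444 (i : ℕ) : ℕ := (@Bool.rec (fun _ => ℕ) (@Bool.rec (fun _ => ℕ) (@Bool.rec (fun _ => ℕ) l2435 l2436 (Nat.ble (nat_lit 2436) i)) (@Bool.rec (fun _ => ℕ) l2437 l2438 (Nat.ble (nat_lit 2438) i)) (Nat.ble (nat_lit 2437) i)) (@Bool.rec (fun _ => ℕ) (@Bool.rec (fun _ => ℕ) l2439 l2440 (Nat.ble (nat_lit 2440) i)) (@Bool.rec (fun _ => ℕ) l2441 (t2442_2444 i) (Nat.ble (nat_lit 2442) i)) (Nat.ble (nat_lit 2441) i)) (Nat.ble (nat_lit 2439) i))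
noncomputable def t2451_2453 (i : ℕ) : ℕ := (@Bool.rec (fun _ => ℕ) l2451 l2452 (Nat.ble (nat_lit 2452) i))
noncomputable def t2444_2453 (i : ℕ) : ℕ := (@Bool.rec (fun _ => ℕ) (@Bool.rec (fun _ => ℕ) (@Bool.rec (fun _ => ℕ) l2444 l2445 (Nat.ble (nat_lit 2445) i)) (@Bool.rec (fun _ => ℕ) l2446 l2447 (Nat.ble (nat_lit 2447) i)) (Nat.ble (nat_lit 2446) i)) (@Bool.rec (fun _ => ℕ) (@Bool.rec (fun _ => ℕ) l2448 l2449 (Nat.ble (nat_lit 2449) i)) (@Bool.rec (fun _ => ℕ) l2450 (t2451_2453 i) (Nat.ble (nat_lit 2451) i)) (Nat.ble (nat_lit 2450) i)) (Nat.ble (nat_lit 2448) i))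
noncomputable def t2460_2462 (i : ℕ) : ℕ := (@Bool.rec (fun _ => ℕ) l2460 l2461 (Nat.ble (nat_lit 2461) i))
noncomputable def t2453_2462 (i : ℕ) : ℕ := (@Bool.rec (fun _ => ℕ) (@Bool.rec (fun _ => ℕ) (@Bool.rec (fun _ => ℕ) l2453 l2454 (Nat.ble (nat_lit 2454) i)) (@Bool.rec (fun _ => ℕ) l2455 l2456 (Nat.ble (nat_lit 2456) i)) (Nat.ble (nat_lit 2455) i)) (@Bool.rec (fun _ => ℕ) (@Bool.rec (fun _ => ℕ) l2457 l2458 (Nat.ble (nat_lit 2458) i)) (@Bool.rec (fun _ => ℕ) l2459 (t2460_2462 i) (Nat.ble (nat_lit 2460) i)) (Nat.ble (nat_lit 2459) i)) (Nat.ble (nat_lit 2457) i))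
noncomputable def t2465_2467 (i : ℕ) : ℕ := (@Bool.rec (fun _ => ℕ) l2465 l2466 (Nat.ble (nat_lit 2466) i))
noncomputable def t2470_2472 (i : ℕ) : ℕ := (@Bool.rec (fun _ => ℕ) l2470 l2471 (Nat.ble (nat_lit 2471) i))
noncomputable def t2462_2472 (i : ℕ) : ℕ := (@Bool.rec (fun _ => ℕ) (@Bool.rec (fun _ => ℕ) (@Bool.rec (fun _ => ℕ) l2462 l2463 (Nat.ble (nat_lit 2463) i)) (@Bool.rec (fun _ => ℕ) l2464 (t2465_2467 i) (Nat.ble (nat_lit 2465) i)) (Nat.ble (nat_lit 2464) i)) (@Bool.rec (fun _ => ℕ) (@Bool.rec (fun _ => ℕ) l2467 l2468 (Nat.ble (nat_lit 2468) i)) (@Bool.rec (fun _ => ℕ) l2469 (t2470_2472 i) (Nat.ble (nat_lit 2470) i)) (Nat.ble (nat_lit 2469) i)) (Nat.ble (nat_lit 2467) i))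
noncomputable def t2398_2472 (i : ℕ) : ℕ := (@Bool.rec (fun _ => ℕ) (@Bool.rec (fun _ => ℕ) (@Bool.rec (fun _ => ℕ) (t2398_2407 i) (t2407_2416 i) (Nat.ble (nat_lit 2407) i)) (@Bool.rec (fun _ => ℕ) (t2416_2425 i) (t2425_2435 i) (Nat.ble (nat_lit 2425) i)) (Nat.ble (nat_lit 2416) i)) (@Bool.rec (fun _ => ℕ) (@Bool.rec (fun _ => ℕ) (t2435_2444 i) (t2444_2453 i) (Nat.ble (nat_lit 2444) i)) (@Bool.rec (fun _ => ℕ) (t2453_2462 i) (t2462_2472 i) (Nat.ble (nat_lit 2462) i)) (Nat.ble (nat_lit 2453) i)) (Nat.ble (nat_lit 2435) i))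
noncomputable def t2479_2481 (i : ℕ) : ℕ := (@Bool.rec (fun _ => ℕ) l2479 l2480 (Nat.ble (nat_lit 2480) i))
noncomputable def t2472_2481 (i : ℕ) : ℕ := (@Bool.rec (fun _ => ℕ) (@Bool.rec (fun _ => ℕ) (@Bool.rec (fun _ => ℕ) l2472 l2473 (Nat.ble (nat_lit 2473) i)) (@Bool.rec (fun _ => ℕ) l2474 l2475 (Nat.ble (nat_lit 2475) i)) (Nat.ble (nat_lit 2474) i)) (@Bool.rec (fun _ => ℕ) (@Bool.rec (fun _ => ℕ) l2476 l2477 (Nat.ble (nat_lit 2477) i)) (@Bool.rec (fun _ => ℕ) l2478 (t2479_2481 i) (Nat.ble (nat_lit 2479) i)) (Nat.ble (nat_lit 2478) i)) (Nat.ble (nat_lit 2476) i))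
noncomputable def t2488_2490 (i : ℕ) : ℕ := (@Bool.rec (fun _ => ℕ) l2488 l2489 (Nat.ble (nat_lit 2489) i))
noncomputable def t2481_2490 (i : ℕ) : ℕ := (@Bool.rec (fun _ => ℕ) (@Bool.rec (fun _ => ℕ) (@Bool.rec (fun _ => ℕ) l2481 l2482 (Nat.ble (nat_lit 2482) i)) (@Bool.rec (fun _ => ℕ) l2483 l2484 (Nat.ble (nat_lit 2484) i)) (Nat.ble (nat_lit 2483) i)) (@Bool.rec (fun _ => ℕ) (@Bool.rec (fun _ => ℕ) l2485 l2486 (Nat.ble (nat_lit 2486) i)) (@Bool.rec (fun _ => ℕ) l2487 (t2488_2490 i) (Nat.ble (nat_lit 2488) i)) (Nat.ble (nat_lit 2487) i)) (Nat.ble (nat_lit 2485) i))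
noncomputable def t2497_2499 (i : ℕ) : ℕ := (@Bool.rec (fun _ => ℕ) l2497 l2498 (Nat.ble (nat_lit 2498) i))
noncomputable def t2490_2499 (i : ℕ) : ℕ := (@Bool.rec (fun _ => ℕ) (@Bool.rec (fun _ => ℕ) (@Bool.rec (fun _ => ℕ) l2490 l2491 (Nat.ble (nat_lit 2491) i)) (@Bool.rec (fun _ => ℕ) l2492 l2493 (Nat.ble (nat_lit 2493) i)) (Nat.ble (nat_lit 2492) i)) (@Bool.rec (fun _ => ℕ) (@Bool.rec (fun _ => ℕ) l2494 l2495 (Nat.ble (nat_lit 2495) i)) (@Bool.rec (fun _ => ℕ) l2496 (t2497_2499 i) (Nat.ble (nat_lit 2497) i)) (Nat.ble (nat_lit 2496) i)) (Nat.ble (nat_lit 2494) i))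
noncomputable def t2502_2504 (i : ℕ) : ℕ := (@Bool.rec (fun _ => ℕ) l2502 l2503 (Nat.ble (nat_lit 2503) i))
noncomputable def t2507_2509 (i : ℕ) : ℕ := (@Bool.rec (fun _ => ℕ) l2507 l2508 (Nat.ble (nat_lit 2508) i))
noncomputable def t2499_2509 (i : ℕ) : ℕ := (@Bool.rec (fun _ => ℕ) (@Bool.rec (fun _ => ℕ) (@Bool.rec (fun _ => ℕ) l2499 l2500 (Nat.ble (nat_lit 2500) i)) (@Bool.rec (fun _ => ℕ) l2501 (t2502_2504 i) (Nat.ble (nat_lit 2502) i)) (Nat.ble (nat_lit 2501) i)) (@Bool.rec (fun _ => ℕ) (@Bool.rec (fun _ => ℕ) l2504 l2505 (Nat.ble (nat_lit 2505) i)) (@Bool.rec (fun _ => ℕ) l2506 (t2507_2509 i) (Nat.ble (nat_lit 2507) i)) (Nat.ble (nat_lit 2506) i)) (Nat.ble (nat_lit 2504) i))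
noncomputable def t2516_2518 (i : ℕ) : ℕ := (@Bool.rec (fun _ => ℕ) l2516 l2517 (Nat.ble (nat_lit 2517) i))
noncomputable def t2509_2518 (i : ℕ) : ℕ := (@Bool.rec (fun _ => ℕ) (@Bool.rec (fun _ => ℕ) (@Bool.rec (fun _ => ℕ) l2509 l2510 (Nat.ble (nat_lit 2510) i)) (@Bool.rec (fun _ => ℕ) l2511 l2512 (Nat.ble (nat_lit 2512) i)) (Nat.ble (nat_lit 2511) i)) (@Bool.rec (fun _ => ℕ) (@Bool.rec (fun _ => ℕ) l2513 l2514 (Nat.ble (nat_lit 2514) i)) (@Bool.rec (fun _ => ℕ) l2515 (t2516_2518 i) (Nat.ble (nat_lit 2516) i)) (Nat.ble (nat_lit 2515) i)) (Nat.ble (nat_lit 2513) i))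
noncomputable def t2521_2523 (i : ℕ) : ℕ := (@Bool.rec (fun _ => ℕ) l2521 l2522 (Nat.ble (nat_lit 2522) i))
noncomputable def t2526_2528 (i : ℕ) : ℕ := (@Bool.rec (fun _ => ℕ) l2526 l2527 (Nat.ble (nat_lit 2527) i))
noncomputable def t2518_2528 (i : ℕ) : ℕ := (@Bool.rec (fun _ => ℕ) (@Bool.rec (fun _ => ℕ) (@Bool.rec (fun _ => ℕ) l2518 l2519 (Nat.ble (nat_lit 2519) i)) (@Bool.rec (fun _ => ℕ) l2520 (t2521_2523 i) (Nat.ble (nat_lit 2521) i)) (Nat.ble (nat_lit 2520) i)) (@Bool.rec (fun _ => ℕ) (@Bool.rec (fun _ => ℕ) l2523 l2524 (Nat.ble (nat_lit 2524) i)) (@Bool.rec (fun _ => ℕ) l2525 (t2526_2528 i) (Nat.ble (nat_lit 2526) i)) (Nat.ble (nat_lit 2525) i)) (Nat.ble (nat_lit 2523) i))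
noncomputable def t2535_2537 (i : ℕ) : ℕ := (@Bool.rec (fun _ => ℕ) l2535 l2536 (Nat.ble (nat_lit 2536) i))
noncomputable def t2528_2537 (i : ℕ) : ℕ := (@Bool.rec (fun _ => ℕ) (@Bool.rec (fun _ => ℕ) (@Bool.rec (fun _ => ℕ) l2528 l2529 (Nat.ble (nat_lit 2529) i)) (@Bool.rec (fun _ => ℕ) l2530 l2531 (Nat.ble (nat_lit 2531) i)) (Nat.ble (nat_lit 2530) i)) (@Bool.rec (fun _ => ℕ) (@Bool.rec (fun _ => ℕ) l2532 l2533 (Nat.ble (nat_lit 2533) i)) (@Bool.rec (fun _ => ℕ) l2534 (t2535_2537 i) (Nat.ble (nat_lit 2535) i)) (Nat.ble (nat_lit 2534) i)) (Nat.ble (nat_lit 2532) i))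
noncomputable def t2540_2542 (i : ℕ) : ℕ := (@Bool.rec (fun _ => ℕ) l2540 l2541 (Nat.ble (nat_lit 2541) i))
noncomputable def t2545_2547 (i : ℕ) : ℕ := (@Bool.rec (fun _ => ℕ) l2545 l2546 (Nat.ble (nat_lit 2546) i))
noncomputable def t2537_2547 (i : ℕ) : ℕ := (@Bool.rec (fun _ => ℕ) (@Bool.rec (fun _ => ℕ) (@Bool.rec (fun _ => ℕ) l2537 l2538 (Nat.ble (nat_lit 2538) i)) (@Bool.rec (fun _ => ℕ) l2539 (t2540_2542 i) (Nat.ble (nat_lit 2540) i)) (Nat.ble (nat_lit 2539) i)) (@Bool.rec (fun _ => ℕ) (@Bool.rec (fun _ => ℕ) l2542 l2543 (Nat.ble (nat_lit 2543) i)) (@Bool.rec (fun _ => ℕ) l2544 (t2545_2547 i) (Nat.ble (nat_lit 2545) i)) (Nat.ble (nat_lit 2544) i)) (Nat.ble (nat_lit 2542) i))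
noncomputable def t2472_2547 (i : ℕ) : ℕ := (@Bool.rec (fun _ => ℕ) (@Bool.rec (fun _ => ℕ) (@Bool.rec (fun _ => ℕ) (t2472_2481 i) (t2481_2490 i) (Nat.ble (nat_lit 2481) i)) (@Bool.rec (fun _ => ℕ) (t2490_2499 i) (t2499_2509 i) (Nat.ble (nat_lit 2499) i)) (Nat.ble (nat_lit 2490) i)) (@Bool.rec (fun _ => ℕ) (@Bool.rec (fun _ => ℕ) (t2509_2518 i) (t2518_2528 i) (Nat.ble (nat_lit 2518) i)) (@Bool.rec (fun _ => ℕ) (t2528_2537 i) (t2537_2547 i) (Nat.ble (nat_lit 2537) i)) (Nat.ble (nat_lit 2528) i)) (Nat.ble (nat_lit 2509) i))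
noncomputable def t2554_2556 (i : ℕ) : ℕ := (@Bool.rec (fun _ => ℕ) l2554 l2555 (Nat.ble (nat_lit 2555) i))
noncomputable def t2547_2556 (i : ℕ) : ℕ := (@Bool.rec (fun _ => ℕ) (@Bool.rec (fun _ => ℕ) (@Bool.rec (fun _ => ℕ) l2547 l2548 (Nat.ble (nat_lit 2548) i)) (@Bool.rec (fun _ => ℕ) l2549 l2550 (Nat.ble (nat_lit 2550) i)) (Nat.ble (nat_lit 2549) i)) (@Bool.rec (fun _ => ℕ) (@Bool.rec (fun _ => ℕ) l2551 l2552 (Nat.ble (nat_lit 2552) i)) (@Bool.rec (fun _ => ℕ) l2553 (t2554_2556 i) (Nat.ble (nat_lit 2554) i)) (Nat.ble (nat_lit 2553) i)) (Nat.ble (nat_lit 2551) i))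
noncomputable def t2563_2565 (i : ℕ) : ℕ := (@Bool.rec (fun _ => ℕ) l2563 l2564 (Nat.ble (nat_lit 2564) i))
noncomputable def t2556_2565 (i : ℕ) : ℕ := (@Bool.rec (fun _ => ℕ) (@Bool.rec (fun _ => ℕ) (@Bool.rec (fun _ => ℕ) l2556 l2557 (Nat.ble (nat_lit 2557) i)) (@Bool.rec (fun _ => ℕ) l2558 l2559 (Nat.ble (nat_lit 2559) i)) (Nat.ble (nat_lit 2558) i)) (@Bool.rec (fun _ => ℕ) (@Bool.rec (fun _ => ℕ) l2560 l2561 (Nat.ble (nat_lit 2561) i)) (@Bool.rec (fun _ => ℕ) l2562 (t2563_2565 i) (Nat.ble (nat_lit 2563) i)) (Nat.ble (nat_lit 2562) i)) (Nat.ble (nat_lit 2560) i))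
noncomputable def t2572_2574 (i : ℕ) : ℕ := (@Bool.rec (fun _ => ℕ) l2572 l2573 (Nat.ble (nat_lit 2573) i))
noncomputable def t2565_2574 (i : ℕ) : ℕ := (@Bool.rec (fun _ => ℕ) (@Bool.rec (fun _ => ℕ) (@Bool.rec (fun _ => ℕ) l2565 l2566 (Nat.ble (nat_lit 2566) i)) (@Bool.rec (fun _ => ℕ) l2567 l2568 (Nat.ble (nat_lit 2568) i)) (Nat.ble (nat_lit 2567) i)) (@Bool.rec (fun _ => ℕ) (@Bool.rec (fun _ => ℕ) l2569 l2570 (Nat.ble (nat_lit 2570) i)) (@Bool.rec (fun _ => ℕ) l2571 (t2572_2574 i) (Nat.ble (nat_lit 2572) i)) (Nat.ble (nat_lit 2571) i)) (Nat.ble (nat_lit 2569) i))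
noncomputable def t2577_2579 (i : ℕ) : ℕ := (@Bool.rec (fun _ => ℕ) l2577 l2578 (Nat.ble (nat_lit 2578) i))
noncomputable def t2582_2584 (i : ℕ) : ℕ := (@Bool.rec (fun _ => ℕ) l2582 l2583 (Nat.ble (nat_lit 2583) i))
noncomputable def t2574_2584 (i : ℕ) : ℕ := (@Bool.rec (fun _ => ℕ) (@Bool.rec (fun _ => ℕ) (@Bool.rec (fun _ => ℕ) l2574 l2575 (Nat.ble (nat_lit 2575) i)) (@Bool.rec (fun _ => ℕ) l2576 (t2577_2579 i) (Nat.ble (nat_lit 2577) i)) (Nat.ble (nat_lit 2576) i)) (@Bool.rec (fun _ => ℕ) (@Bool.rec (fun _ => ℕ) l2579 l2580 (Nat.ble (nat_lit 2580) i)) (@Bool.rec (fun _ => ℕ) l2581 (t2582_2584 i) (Nat.ble (nat_lit 2582) i)) (Nat.ble (nat_lit 2581) i)) (Nat.ble (nat_lit 2579) i))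
noncomputable def t2591_2593 (i : ℕ) : ℕ := (@Bool.rec (fun _ => ℕ) l2591 l2592 (Nat.ble (nat_lit 2592) i))
noncomputable def t2584_2593 (i : ℕ) : ℕ := (@Bool.rec (fun _ => ℕ) (@Bool.rec (fun _ => ℕ) (@Bool.rec (fun _ => ℕ) l2584 l2585 (Nat.ble (nat_lit 2585) i)) (@Bool.rec (fun _ => ℕ) l2586 l2587 (Nat.ble (nat_lit 2587) i)) (Nat.ble (nat_lit 2586) i)) (@Bool.rec (fun _ => ℕ) (@Bool.rec (fun _ => ℕ) l2588 l2589 (Nat.ble (nat_lit 2589) i)) (@Bool.rec (fun _ => ℕ) l2590 (t2591_2593 i) (Nat.ble (nat_lit 2591) i)) (Nat.ble (nat_lit 2590) i)) (Nat.ble (nat_lit 2588) i))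
noncomputable def t2596_2598 (i : ℕ) : ℕ := (@Bool.rec (fun _ => ℕ) l2596 l2597 (Nat.ble (nat_lit 2597) i))
noncomputable def t2601_2603 (i : ℕ) : ℕ := (@Bool.rec (fun _ => ℕ) l2601 l2602 (Nat.ble (nat_lit 2602) i))
noncomputable def t2593_2603 (i : ℕ) : ℕ := (@Bool.rec (fun _ => ℕ) (@Bool.rec (fun _ => ℕ) (@Bool.rec (fun _ => ℕ) l2593 l2594 (Nat.ble (nat_lit 2594) i)) (@Bool.rec (fun _ => ℕ) l2595 (t2596_2598 i) (Nat.ble (nat_lit 2596) i)) (Nat.ble (nat_lit 2595) i)) (@Bool.rec (fun _ => ℕ) (@Bool.rec (fun _ => ℕ) l2598 l2599 (Nat.ble (nat_lit 2599) i)) (@Bool.rec (fun _ => ℕ) l2600 (t2601_2603 i) (Nat.ble (nat_lit 2601) i)) (Nat.ble (nat_lit 2600) i)) (Nat.ble (nat_lit 2598) i))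
noncomputable def t2610_2612 (i : ℕ) : ℕ := (@Bool.rec (fun _ => ℕ) l2610 l2611 (Nat.ble (nat_lit 2611) i))
noncomputable def t2603_2612 (i : ℕ) : ℕ := (@Bool.rec (fun _ => ℕ) (@Bool.rec (fun _ => ℕ) (@Bool.rec (fun _ => ℕ) l2603 l2604 (Nat.ble (nat_lit 2604) i)) (@Bool.rec (fun _ => ℕ) l2605 l2606 (Nat.ble (nat_lit 2606) i)) (Nat.ble (nat_lit 2605) i)) (@Bool.rec (fun _ => ℕ) (@Bool.rec (fun _ => ℕ) l2607 l2608 (Nat.ble (nat_lit 2608) i)) (@Bool.rec (fun _ => ℕ) l2609 (t2610_2612 i) (Nat.ble (nat_lit 2610) i)) (Nat.ble (nat_lit 2609) i)) (Nat.ble (nat_lit 2607) i))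
noncomputable def t2615_2617 (i : ℕ) : ℕ := (@Bool.rec (fun _ => ℕ) l2615 l2616 (Nat.ble (nat_lit 2616) i))
noncomputable def t2620_2622 (i : ℕ) : ℕ := (@Bool.rec (fun _ => ℕ) l2620 l2621 (Nat.ble (nat_lit 2621) i))
noncomputable def t2612_2622 (i : ℕ) : ℕ := (@Bool.rec (fun _ => ℕ) (@Bool.rec (fun _ => ℕ) (@Bool.rec (fun _ => ℕ) l2612 l2613 (Nat.ble (nat_lit 2613) i)) (@Bool.rec (fun _ => ℕ) l2614 (t2615_2617 i) (Nat.ble (nat_lit 2615) i)) (Nat.ble (nat_lit 2614) i)) (@Bool.rec (fun _ => ℕ) (@Bool.rec (fun _ => ℕ) l2617 l2618 (Nat.ble (nat_lit 2618) i)) (@Bool.rec (fun _ => ℕ) l2619 (t2620_2622 i) (Nat.ble (nat_lit 2620) i)) (Nat.ble (nat_lit 2619) i)) (Nat.ble (nat_lit 2617) i))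
noncomputable def t2547_2622 (i : ℕ) : ℕ := (@Bool.rec (fun _ => ℕ) (@Bool.rec (fun _ => ℕ) (@Bool.rec (fun _ => ℕ) (t2547_2556 i) (t2556_2565 i) (Nat.ble (nat_lit 2556) i)) (@Bool.rec (fun _ => ℕ) (t2565_2574 i) (t2574_2584 i) (Nat.ble (nat_lit 2574) i)) (Nat.ble (nat_lit 2565) i)) (@Bool.rec (fun _ => ℕ) (@Bool.rec (fun _ => ℕ) (t2584_2593 i) (t2593_2603 i) (Nat.ble (nat_lit 2593) i)) (@Bool.rec (fun _ => ℕ) (t2603_2612 i) (t2612_2622 i) (Nat.ble (nat_lit 2612) i)) (Nat.ble (nat_lit 2603) i)) (Nat.ble (nat_lit 2584) i))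
noncomputable def t2629_2631 (i : ℕ) : ℕ := (@Bool.rec (fun _ => ℕ) l2629 l2630 (Nat.ble (nat_lit 2630) i))
noncomputable def t2622_2631 (i : ℕ) : ℕ := (@Bool.rec (fun _ => ℕ) (@Bool.rec (fun _ => ℕ) (@Bool.rec (fun _ => ℕ) l2622 l2623 (Nat.ble (nat_lit 2623) i)) (@Bool.rec (fun _ => ℕ) l2624 l2625 (Nat.ble (nat_lit 2625) i)) (Nat.ble (nat_lit 2624) i)) (@Bool.rec (fun _ => ℕ) (@Bool.rec (fun _ => ℕ) l2626 l2627 (Nat.ble (nat_lit 2627) i)) (@Bool.rec (fun _ => ℕ) l2628 (t2629_2631 i) (Nat.ble (nat_lit 2629) i)) (Nat.ble (nat_lit 2628) i)) (Nat.ble (nat_lit 2626) i))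
noncomputable def t2638_2640 (i : ℕ) : ℕ := (@Bool.rec (fun _ => ℕ) l2638 l2639 (Nat.ble (nat_lit 2639) i))
noncomputable def t2631_2640 (i : ℕ) : ℕ := (@Bool.rec (fun _ => ℕ) (@Bool.rec (fun _ => ℕ) (@Bool.rec (fun _ => ℕ) l2631 l2632 (Nat.ble (nat_lit 2632) i)) (@Bool.rec (fun _ => ℕ) l2633 l2634 (Nat.ble (nat_lit 2634) i)) (Nat.ble (nat_lit 2633) i)) (@Bool.rec (fun _ => ℕ) (@Bool.rec (fun _ => ℕ) l2635 l2636 (Nat.ble (nat_lit 2636) i)) (@Bool.rec (fun _ => ℕ) l2637 (t2638_2640 i) (Nat.ble (nat_lit 2638) i)) (Nat.ble (nat_lit 2637) i)) (Nat.ble (nat_lit 2635) i))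
noncomputable def t2647_2649 (i : ℕ) : ℕ := (@Bool.rec (fun _ => ℕ) l2647 l2648 (Nat.ble (nat_lit 2648) i))
noncomputable def t2640_2649 (i : ℕ) : ℕ := (@Bool.rec (fun _ => ℕ) (@Bool.rec (fun _ => ℕ) (@Bool.rec (fun _ => ℕ) l2640 l2641 (Nat.ble (nat_lit 2641) i)) (@Bool.rec (fun _ => ℕ) l2642 l2643 (Nat.ble (nat_lit 2643) i)) (Nat.ble (nat_lit 2642) i)) (@Bool.rec (fun _ => ℕ) (@Bool.rec (fun _ => ℕ) l2644 l2645 (Nat.ble (nat_lit 2645) i)) (@Bool.rec (fun _ => ℕ) l2646 (t2647_2649 i) (Nat.ble (nat_lit 2647) i)) (Nat.ble (nat_lit 2646) i)) (Nat.ble (nat_lit 2644) i))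
noncomputable def t2652_2654 (i : ℕ) : ℕ := (@Bool.rec (fun _ => ℕ) l2652 l2653 (Nat.ble (nat_lit 2653) i))
noncomputable def t2657_2659 (i : ℕ) : ℕ := (@Bool.rec (fun _ => ℕ) l2657 l2658 (Nat.ble (nat_lit 2658) i))
noncomputable def t2649_2659 (i : ℕ) : ℕ := (@Bool.rec (fun _ => ℕ) (@Bool.rec (fun _ => ℕ) (@Bool.rec (fun _ => ℕ) l2649 l2650 (Nat.ble (nat_lit 2650) i)) (@Bool.rec (fun _ => ℕ) l2651 (t2652_2654 i) (Nat.ble (nat_lit 2652) i)) (Nat.ble (nat_lit 2651) i)) (@Bool.rec (fun _ => ℕ) (@Bool.rec (fun _ => ℕ) l2654 l2655 (Nat.ble (nat_lit 2655) i)) (@Bool.rec (fun _ => ℕ) l2656 (t2657_2659 i) (Nat.ble (nat_lit 2657) i)) (Nat.ble (nat_lit 2656) i)) (Nat.ble (nat_lit 2654) i))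
noncomputable def t2666_2668 (i : ℕ) : ℕ := (@Bool.rec (fun _ => ℕ) l2666 l2667 (Nat.ble (nat_lit 2667) i))
noncomputable def t2659_2668 (i : ℕ) : ℕ := (@Bool.rec (fun _ => ℕ) (@Bool.rec (fun _ => ℕ) (@Bool.rec (fun _ => ℕ) l2659 l2660 (Nat.ble (nat_lit 2660) i)) (@Bool.rec (fun _ => ℕ) l2661 l2662 (Nat.ble (nat_lit 2662) i)) (Nat.ble (nat_lit 2661) i)) (@Bool.rec (fun _ => ℕ) (@Bool.rec (fun _ => ℕ) l2663 l2664 (Nat.ble (nat_lit 2664) i)) (@Bool.rec (fun _ => ℕ) l2665 (t2666_2668 i) (Nat.ble (nat_lit 2666) i)) (Nat.ble (nat_lit 2665) i)) (Nat.ble (nat_lit 2663) i))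
noncomputable def t2671_2673 (i : ℕ) : ℕ := (@Bool.rec (fun _ => ℕ) l2671 l2672 (Nat.ble (nat_lit 2672) i))
noncomputable def t2676_2678 (i : ℕ) : ℕ := (@Bool.rec (fun _ => ℕ) l2676 l2677 (Nat.ble (nat_lit 2677) i))
noncomputable def t2668_2678 (i : ℕ) : ℕ := (@Bool.rec (fun _ => ℕ) (@Bool.rec (fun _ => ℕ) (@Bool.rec (fun _ => ℕ) l2668 l2669 (Nat.ble (nat_lit 2669) i)) (@Bool.rec (fun _ => ℕ) l2670 (t2671_2673 i) (Nat.ble (nat_lit 2671) i)) (Nat.ble (nat_lit 2670) i)) (@Bool.rec (fun _ => ℕ) (@Bool.rec (fun _ => ℕ) l2673 l2674 (Nat.ble (nat_lit 2674) i)) (@Bool.rec (fun _ => ℕ) l2675 (t2676_2678 i) (Nat.ble (nat_lit 2676) i)) (Nat.ble (nat_lit 2675) i)) (Nat.ble (nat_lit 2673) i))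
noncomputable def t2685_2687 (i : ℕ) : ℕ := (@Bool.rec (fun _ => ℕ) l2685 l2686 (Nat.ble (nat_lit 2686) i))
noncomputable def t2678_2687 (i : ℕ) : ℕ := (@Bool.rec (fun _ => ℕ) (@Bool.rec (fun _ => ℕ) (@Bool.rec (fun _ => ℕ) l2678 l2679 (Nat.ble (nat_lit 2679) i)) (@Bool.rec (fun _ => ℕ) l2680 l2681 (Nat.ble (nat_lit 2681) i)) (Nat.ble (nat_lit 2680) i)) (@Bool.rec (fun _ => ℕ) (@Bool.rec (fun _ => ℕ) l2682 l2683 (Nat.ble (nat_lit 2683) i)) (@Bool.rec (fun _ => ℕ) l2684 (t2685_2687 i) (Nat.ble (nat_lit 2685) i)) (Nat.ble (nat_lit 2684) i)) (Nat.ble (nat_lit 2682) i))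
noncomputable def t2690_2692 (i : ℕ) : ℕ := (@Bool.rec (fun _ => ℕ) l2690 l2691 (Nat.ble (nat_lit 2691) i))
noncomputable def t2695_2697 (i : ℕ) : ℕ := (@Bool.rec (fun _ => ℕ) l2695 l2696 (Nat.ble (nat_lit 2696) i))
noncomputable def t2687_2697 (i : ℕ) : ℕ := (@Bool.rec (fun _ => ℕ) (@Bool.rec (fun _ => ℕ) (@Bool.rec (fun _ => ℕ) l2687 l2688 (Nat.ble (nat_lit 2688) i)) (@Bool.rec (fun _ => ℕ) l2689 (t2690_2692 i) (Nat.ble (nat_lit 2690) i)) (Nat.ble (nat_lit 2689) i)) (@Bool.rec (fun _ => ℕ) (@Bool.rec (fun _ => ℕ) l2692 l2693 (Nat.ble (nat_lit 2693) i)) (@Bool.rec (fun _ => ℕ) l2694 (t2695_2697 i) (Nat.ble (nat_lit 2695) i)) (Nat.ble (nat_lit 2694) i)) (Nat.ble (nat_lit 2692) i))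
noncomputable def t2622_2697 (i : ℕ) : ℕ := (@Bool.rec (fun _ => ℕ) (@Bool.rec (fun _ => ℕ) (@Bool.rec (fun _ => ℕ) (t2622_2631 i) (t2631_2640 i) (Nat.ble (nat_lit 2631) i)) (@Bool.rec (fun _ => ℕ) (t2640_2649 i) (t2649_2659 i) (Nat.ble (nat_lit 2649) i)) (Nat.ble (nat_lit 2640) i)) (@Bool.rec (fun _ => ℕ) (@Bool.rec (fun _ => ℕ) (t2659_2668 i) (t2668_2678 i) (Nat.ble (nat_lit 2668) i)) (@Bool.rec (fun _ => ℕ) (t2678_2687 i) (t2687_2697 i) (Nat.ble (nat_lit 2687) i)) (Nat.ble (nat_lit 2678) i)) (Nat.ble (nat_lit 2659) i))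
noncomputable def t2704_2706 (i : ℕ) : ℕ := (@Bool.rec (fun _ => ℕ) l2704 l2705 (Nat.ble (nat_lit 2705) i))
noncomputable def t2697_2706 (i : ℕ) : ℕ := (@Bool.rec (fun _ => ℕ) (@Bool.rec (fun _ => ℕ) (@Bool.rec (fun _ => ℕ) l2697 l2698 (Nat.ble (nat_lit 2698) i)) (@Bool.rec (fun _ => ℕ) l2699 l2700 (Nat.ble (nat_lit 2700) i)) (Nat.ble (nat_lit 2699) i)) (@Bool.rec (fun _ => ℕ) (@Bool.rec (fun _ => ℕ) l2701 l2702 (Nat.ble (nat_lit 2702) i)) (@Bool.rec (fun _ => ℕ) l2703 (t2704_2706 i) (Nat.ble (nat_lit 2704) i)) (Nat.ble (nat_lit 2703) i)) (Nat.ble (nat_lit 2701) i))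
noncomputable def t2713_2715 (i : ℕ) : ℕ := (@Bool.rec (fun _ => ℕ) l2713 l2714 (Nat.ble (nat_lit 2714) i))
noncomputable def t2706_2715 (i : ℕ) : ℕ := (@Bool.rec (fun _ => ℕ) (@Bool.rec (fun _ => ℕ) (@Bool.rec (fun _ => ℕ) l2706 l2707 (Nat.ble (nat_lit 2707) i)) (@Bool.rec (fun _ => ℕ) l2708 l2709 (Nat.ble (nat_lit 2709) i)) (Nat.ble (nat_lit 2708) i)) (@Bool.rec (fun _ => ℕ) (@Bool.rec (fun _ => ℕ) l2710 l2711 (Nat.ble (nat_lit 2711) i)) (@Bool.rec (fun _ => ℕ) l2712 (t2713_2715 i) (Nat.ble (nat_lit 2713) i)) (Nat.ble (nat_lit 2712) i)) (Nat.ble (nat_lit 2710) i))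
noncomputable def t2722_2724 (i : ℕ) : ℕ := (@Bool.rec (fun _ => ℕ) l2722 l2723 (Nat.ble (nat_lit 2723) i))
noncomputable def t2715_2724 (i : ℕ) : ℕ := (@Bool.rec (fun _ => ℕ) (@Bool.rec (fun _ => ℕ) (@Bool.rec (fun _ => ℕ) l2715 l2716 (Nat.ble (nat_lit 2716) i)) (@Bool.rec (fun _ => ℕ) l2717 l2718 (Nat.ble (nat_lit 2718) i)) (Nat.ble (nat_lit 2717) i)) (@Bool.rec (fun _ => ℕ) (@Bool.rec (fun _ => ℕ) l2719 l2720 (Nat.ble (nat_lit 2720) i)) (@Bool.rec (fun _ => ℕ) l2721 (t2722_2724 i) (Nat.ble (nat_lit 2722) i)) (Nat.ble (nat_lit 2721) i)) (Nat.ble (nat_lit 2719) i))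
noncomputable def t2727_2729 (i : ℕ) : ℕ := (@Bool.rec (fun _ => ℕ) l2727 l2728 (Nat.ble (nat_lit 2728) i))
noncomputable def t2732_2734 (i : ℕ) : ℕ := (@Bool.rec (fun _ => ℕ) l2732 l2733 (Nat.ble (nat_lit 2733) i))
noncomputable def t2724_2734 (i : ℕ) : ℕ := (@Bool.rec (fun _ => ℕ) (@Bool.rec (fun _ => ℕ) (@Bool.rec (fun _ => ℕ) l2724 l2725 (Nat.ble (nat_lit 2725) i)) (@Bool.rec (fun _ => ℕ) l2726 (t2727_2729 i) (Nat.ble (nat_lit 2727) i)) (Nat.ble (nat_lit 2726) i)) (@Bool.rec (fun _ => ℕ) (@Bool.rec (fun _ => ℕ) l2729 l2730 (Nat.ble (nat_lit 2730) i)) (@Bool.rec (fun _ => ℕ) l2731 (t2732_2734 i) (Nat.ble (nat_lit 2732) i)) (Nat.ble (nat_lit 2731) i)) (Nat.ble (nat_lit 2729) i))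
noncomputable def t2741_2743 (i : ℕ) : ℕ := (@Bool.rec (fun _ => ℕ) l2741 l2742 (Nat.ble (nat_lit 2742) i))
noncomputable def t2734_2743 (i : ℕ) : ℕ := (@Bool.rec (fun _ => ℕ) (@Bool.rec (fun _ => ℕ) (@Bool.rec (fun _ => ℕ) l2734 l2735 (Nat.ble (nat_lit 2735) i)) (@Bool.rec (fun _ => ℕ) l2736 l2737 (Nat.ble (nat_lit 2737) i)) (Nat.ble (nat_lit 2736) i)) (@Bool.rec (fun _ => ℕ) (@Bool.rec (fun _ => ℕ) l2738 l2739 (Nat.ble (nat_lit 2739) i)) (@Bool.rec (fun _ => ℕ) l2740 (t2741_2743 i) (Nat.ble (nat_lit 2741) i)) (Nat.ble (nat_lit 2740) i)) (Nat.ble (nat_lit 2738) i))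
noncomputable def t2746_2748 (i : ℕ) : ℕ := (@Bool.rec (fun _ => ℕ) l2746 l2747 (Nat.ble (nat_lit 2747) i))
noncomputable def t2751_2753 (i : ℕ) : ℕ := (@Bool.rec (fun _ => ℕ) l2751 l2752 (Nat.ble (nat_lit 2752) i))
noncomputable def t2743_2753 (i : ℕ) : ℕ := (@Bool.rec (fun _ => ℕ) (@Bool.rec (fun _ => ℕ) (@Bool.rec (fun _ => ℕ) l2743 l2744 (Nat.ble (nat_lit 2744) i)) (@Bool.rec (fun _ => ℕ) l2745 (t2746_2748 i) (Nat.ble (nat_lit 2746) i)) (Nat.ble (nat_lit 2745) i)) (@Bool.rec (fun _ => ℕ) (@Bool.rec (fun _ => ℕ) l2748 l2749 (Nat.ble (nat_lit 2749) i)) (@Bool.rec (fun _ => ℕ) l2750 (t2751_2753 i) (Nat.ble (nat_lit 2751) i)) (Nat.ble (nat_lit 2750) i)) (Nat.ble (nat_lit 2748) i))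
noncomputable def t2760_2762 (i : ℕ) : ℕ := (@Bool.rec (fun _ => ℕ) l2760 l2761 (Nat.ble (nat_lit 2761) i))
noncomputable def t2753_2762 (i : ℕ) : ℕ := (@Bool.rec (fun _ => ℕ) (@Bool.rec (fun _ => ℕ) (@Bool.rec (fun _ => ℕ) l2753 l2754 (Nat.ble (nat_lit 2754) i)) (@Bool.rec (fun _ => ℕ) l2755 l2756 (Nat.ble (nat_lit 2756) i)) (Nat.ble (nat_lit 2755) i)) (@Bool.rec (fun _ => ℕ) (@Bool.rec (fun _ => ℕ) l2757 l2758 (Nat.ble (nat_lit 2758) i)) (@Bool.rec (fun _ => ℕ) l2759 (t2760_2762 i) (Nat.ble (nat_lit 2760) i)) (Nat.ble (nat_lit 2759) i)) (Nat.ble (nat_lit 2757) i))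
noncomputable def t2765_2767 (i : ℕ) : ℕ := (@Bool.rec (fun _ => ℕ) l2765 l2766 (Nat.ble (nat_lit 2766) i))
noncomputable def t2770_2772 (i : ℕ) : ℕ := (@Bool.rec (fun _ => ℕ) l2770 l2771 (Nat.ble (nat_lit 2771) i))
noncomputable def t2762_2772 (i : ℕ) : ℕ := (@Bool.rec (fun _ => ℕ) (@Bool.rec (fun _ => ℕ) (@Bool.rec (fun _ => ℕ) l2762 l2763 (Nat.ble (nat_lit 2763) i)) (@Bool.rec (fun _ => ℕ) l2764 (t2765_2767 i) (Nat.ble (nat_lit 2765) i)) (Nat.ble (nat_lit 2764) i)) (@Bool.rec (fun _ => ℕ) (@Bool.rec (fun _ => ℕ) l2767 l2768 (Nat.ble (nat_lit 2768) i)) (@Bool.rec (fun _ => ℕ) l2769 (t2770_2772 i) (Nat.ble (nat_lit 2770) i)) (Nat.ble (nat_lit 2769) i)) (Nat.ble (nat_lit 2767) i))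
noncomputable def t2697_2772 (i : ℕ) : ℕ := (@Bool.rec (fun _ => ℕ) (@Bool.rec (fun _ => ℕ) (@Bool.rec (fun _ => ℕ) (t2697_2706 i) (t2706_2715 i) (Nat.ble (nat_lit 2706) i)) (@Bool.rec (fun _ => ℕ) (t2715_2724 i) (t2724_2734 i) (Nat.ble (nat_lit 2724) i)) (Nat.ble (nat_lit 2715) i)) (@Bool.rec (fun _ => ℕ) (@Bool.rec (fun _ => ℕ) (t2734_2743 i) (t2743_2753 i) (Nat.ble (nat_lit 2743) i)) (@Bool.rec (fun _ => ℕ) (t2753_2762 i) (t2762_2772 i) (Nat.ble (nat_lit 2762) i)) (Nat.ble (nat_lit 2753) i)) (Nat.ble (nat_lit 2734) i))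
noncomputable def t2779_2781 (i : ℕ) : ℕ := (@Bool.rec (fun _ => ℕ) l2779 l2780 (Nat.ble (nat_lit 2780) i))
noncomputable def t2772_2781 (i : ℕ) : ℕ := (@Bool.rec (fun _ => ℕ) (@Bool.rec (fun _ => ℕ) (@Bool.rec (fun _ => ℕ) l2772 l2773 (Nat.ble (nat_lit 2773) i)) (@Bool.rec (fun _ => ℕ) l2774 l2775 (Nat.ble (nat_lit 2775) i)) (Nat.ble (nat_lit 2774) i)) (@Bool.rec (fun _ => ℕ) (@Bool.rec (fun _ => ℕ) l2776 l2777 (Nat.ble (nat_lit 2777) i)) (@Bool.rec (fun _ => ℕ) l2778 (t2779_2781 i) (Nat.ble (nat_lit 2779) i)) (Nat.ble (nat_lit 2778) i)) (Nat.ble (nat_lit 2776) i))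
noncomputable def t2788_2790 (i : ℕ) : ℕ := (@Bool.rec (fun _ => ℕ) l2788 l2789 (Nat.ble (nat_lit 2789) i))
noncomputable def t2781_2790 (i : ℕ) : ℕ := (@Bool.rec (fun _ => ℕ) (@Bool.rec (fun _ => ℕ) (@Bool.rec (fun _ => ℕ) l2781 l2782 (Nat.ble (nat_lit 2782) i)) (@Bool.rec (fun _ => ℕ) l2783 l2784 (Nat.ble (nat_lit 2784) i)) (Nat.ble (nat_lit 2783) i)) (@Bool.rec (fun _ => ℕ) (@Bool.rec (fun _ => ℕ) l2785 l2786 (Nat.ble (nat_lit 2786) i)) (@Bool.rec (fun _ => ℕ) l2787 (t2788_2790 i) (Nat.ble (nat_lit 2788) i)) (Nat.ble (nat_lit 2787) i)) (Nat.ble (nat_lit 2785) i))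
noncomputable def t2797_2799 (i : ℕ) : ℕ := (@Bool.rec (fun _ => ℕ) l2797 l2798 (Nat.ble (nat_lit 2798) i))
noncomputable def t2790_2799 (i : ℕ) : ℕ := (@Bool.rec (fun _ => ℕ) (@Bool.rec (fun _ => ℕ) (@Bool.rec (fun _ => ℕ) l2790 l2791 (Nat.ble (nat_lit 2791) i)) (@Bool.rec (fun _ => ℕ) l2792 l2793 (Nat.ble (nat_lit 2793) i)) (Nat.ble (nat_lit 2792) i)) (@Bool.rec (fun _ => ℕ) (@Bool.rec (fun _ => ℕ) l2794 l2795 (Nat.ble (nat_lit 2795) i)) (@Bool.rec (fun _ => ℕ) l2796 (t2797_2799 i) (Nat.ble (nat_lit 2797) i)) (Nat.ble (nat_lit 2796) i)) (Nat.ble (nat_lit 2794) i))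
noncomputable def t2802_2804 (i : ℕ) : ℕ := (@Bool.rec (fun _ => ℕ) l2802 l2803 (Nat.ble (nat_lit 2803) i))
noncomputable def t2807_2809 (i : ℕ) : ℕ := (@Bool.rec (fun _ => ℕ) l2807 l2808 (Nat.ble (nat_lit 2808) i))
noncomputable def t2799_2809 (i : ℕ) : ℕ := (@Bool.rec (fun _ => ℕ) (@Bool.rec (fun _ => ℕ) (@Bool.rec (fun _ => ℕ) l2799 l2800 (Nat.ble (nat_lit 2800) i)) (@Bool.rec (fun _ => ℕ) l2801 (t2802_2804 i) (Nat.ble (nat_lit 2802) i)) (Nat.ble (nat_lit 2801) i)) (@Bool.rec (fun _ => ℕ) (@Bool.rec (fun _ => ℕ) l2804 l2805 (Nat.ble (nat_lit 2805) i)) (@Bool.rec (fun _ => ℕ) l2806 (t2807_2809 i) (Nat.ble (nat_lit 2807) i)) (Nat.ble (nat_lit 2806) i)) (Nat.ble (nat_lit 2804) i))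
noncomputable def t2816_2818 (i : ℕ) : ℕ := (@Bool.rec (fun _ => ℕ) l2816 l2817 (Nat.ble (nat_lit 2817) i))
noncomputable def t2809_2818 (i : ℕ) : ℕ := (@Bool.rec (fun _ => ℕ) (@Bool.rec (fun _ => ℕ) (@Bool.rec (fun _ => ℕ) l2809 l2810 (Nat.ble (nat_lit 2810) i)) (@Bool.rec (fun _ => ℕ) l2811 l2812 (Nat.ble (nat_lit 2812) i)) (Nat.ble (nat_lit 2811) i)) (@Bool.rec (fun _ => ℕ) (@Bool.rec (fun _ => ℕ) l2813 l2814 (Nat.ble (nat_lit 2814) i)) (@Bool.rec (fun _ => ℕ) l2815 (t2816_2818 i) (Nat.ble (nat_lit 2816) i)) (Nat.ble (nat_lit 2815) i)) (Nat.ble (nat_lit 2813) i))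
noncomputable def t2821_2823 (i : ℕ) : ℕ := (@Bool.rec (fun _ => ℕ) l2821 l2822 (Nat.ble (nat_lit 2822) i))
noncomputable def t2826_2828 (i : ℕ) : ℕ := (@Bool.rec (fun _ => ℕ) l2826 l2827 (Nat.ble (nat_lit 2827) i))
noncomputable def t2818_2828 (i : ℕ) : ℕ := (@Bool.rec (fun _ => ℕ) (@Bool.rec (fun _ => ℕ) (@Bool.rec (fun _ => ℕ) l2818 l2819 (Nat.ble (nat_lit 2819) i)) (@Bool.rec (fun _ => ℕ) l2820 (t2821_2823 i) (Nat.ble (nat_lit 2821) i)) (Nat.ble (nat_lit 2820) i)) (@Bool.rec (fun _ => ℕ) (@Bool.rec (fun _ => ℕ) l2823 l2824 (Nat.ble (nat_lit 2824) i)) (@Bool.rec (fun _ => ℕ) l2825 (t2826_2828 i) (Nat.ble (nat_lit 2826) i)) (Nat.ble (nat_lit 2825) i)) (Nat.ble (nat_lit 2823) i))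
noncomputable def t2835_2837 (i : ℕ) : ℕ := (@Bool.rec (fun _ => ℕ) l2835 l2836 (Nat.ble (nat_lit 2836) i))
noncomputable def t2828_2837 (i : ℕ) : ℕ := (@Bool.rec (fun _ => ℕ) (@Bool.rec (fun _ => ℕ) (@Bool.rec (fun _ => ℕ) l2828 l2829 (Nat.ble (nat_lit 2829) i)) (@Bool.rec (fun _ => ℕ) l2830 l2831 (Nat.ble (nat_lit 2831) i)) (Nat.ble (nat_lit 2830) i)) (@Bool.rec (fun _ => ℕ) (@Bool.rec (fun _ => ℕ) l2832 l2833 (Nat.ble (nat_lit 2833) i)) (@Bool.rec (fun _ => ℕ) l2834 (t2835_2837 i) (Nat.ble (nat_lit 2835) i)) (Nat.ble (nat_lit 2834) i)) (Nat.ble (nat_lit 2832) i))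
noncomputable def t2840_2842 (i : ℕ) : ℕ := (@Bool.rec (fun _ => ℕ) l2840 l2841 (Nat.ble (nat_lit 2841) i))
noncomputable def t2845_2847 (i : ℕ) : ℕ := (@Bool.rec (fun _ => ℕ) l2845 l2846 (Nat.ble (nat_lit 2846) i))
noncomputable def t2837_2847 (i : ℕ) : ℕ := (@Bool.rec (fun _ => ℕ) (@Bool.rec (fun _ => ℕ) (@Bool.rec (fun _ => ℕ) l2837 l2838 (Nat.ble (nat_lit 2838) i)) (@Bool.rec (fun _ => ℕ) l2839 (t2840_2842 i) (Nat.ble (nat_lit 2840) i)) (Nat.ble (nat_lit 2839) i)) (@Bool.rec (fun _ => ℕ) (@Bool.rec (fun _ => ℕ) l2842 l2843 (Nat.ble (nat_lit 2843) i)) (@Bool.rec (fun _ => ℕ) l2844 (t2845_2847 i) (Nat.ble (nat_lit 2845) i)) (Nat.ble (nat_lit 2844) i)) (Nat.ble (nat_lit 2842) i))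
noncomputable def t2772_2847 (i : ℕ) : ℕ := (@Bool.rec (fun _ => ℕ) (@Bool.rec (fun _ => ℕ) (@Bool.rec (fun _ => ℕ) (t2772_2781 i) (t2781_2790 i) (Nat.ble (nat_lit 2781) i)) (@Bool.rec (fun _ => ℕ) (t2790_2799 i) (t2799_2809 i) (Nat.ble (nat_lit 2799) i)) (Nat.ble (nat_lit 2790) i)) (@Bool.rec (fun _ => ℕ) (@Bool.rec (fun _ => ℕ) (t2809_2818 i) (t2818_2828 i) (Nat.ble (nat_lit 2818) i)) (@Bool.rec (fun _ => ℕ) (t2828_2837 i) (t2837_2847 i) (Nat.ble (nat_lit 2837) i)) (Nat.ble (nat_lit 2828) i)) (Nat.ble (nat_lit 2809) i))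
noncomputable def t2854_2856 (i : ℕ) : ℕ := (@Bool.rec (fun _ => ℕ) l2854 l2855 (Nat.ble (nat_lit 2855) i))
noncomputable def t2847_2856 (i : ℕ) : ℕ := (@Bool.rec (fun _ => ℕ) (@Bool.rec (fun _ => ℕ) (@Bool.rec (fun _ => ℕ) l2847 l2848 (Nat.ble (nat_lit 2848) i)) (@Bool.rec (fun _ => ℕ) l2849 l2850 (Nat.ble (nat_lit 2850) i)) (Nat.ble (nat_lit 2849) i)) (@Bool.rec (fun _ => ℕ) (@Bool.rec (fun _ => ℕ) l2851 l2852 (Nat.ble (nat_lit 2852) i)) (@Bool.rec (fun _ => ℕ) l2853 (t2854_2856 i) (Nat.ble (nat_lit 2854) i)) (Nat.ble (nat_lit 2853) i)) (Nat.ble (nat_lit 2851) i))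
noncomputable def t2863_2865 (i : ℕ) : ℕ := (@Bool.rec (fun _ => ℕ) l2863 l2864 (Nat.ble (nat_lit 2864) i))
noncomputable def t2856_2865 (i : ℕ) : ℕ := (@Bool.rec (fun _ => ℕ) (@Bool.rec (fun _ => ℕ) (@Bool.rec (fun _ => ℕ) l2856 l2857 (Nat.ble (nat_lit 2857) i)) (@Bool.rec (fun _ => ℕ) l2858 l2859 (Nat.ble (nat_lit 2859) i)) (Nat.ble (nat_lit 2858) i)) (@Bool.rec (fun _ => ℕ) (@Bool.rec (fun _ => ℕ) l2860 l2861 (Nat.ble (nat_lit 2861) i)) (@Bool.rec (fun _ => ℕ) l2862 (t2863_2865 i) (Nat.ble (nat_lit 2863) i)) (Nat.ble (nat_lit 2862) i)) (Nat.ble (nat_lit 2860) i))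
noncomputable def t2872_2874 (i : ℕ) : ℕ := (@Bool.rec (fun _ => ℕ) l2872 l2873 (Nat.ble (nat_lit 2873) i))
noncomputable def t2865_2874 (i : ℕ) : ℕ := (@Bool.rec (fun _ => ℕ) (@Bool.rec (fun _ => ℕ) (@Bool.rec (fun _ => ℕ) l2865 l2866 (Nat.ble (nat_lit 2866) i)) (@Bool.rec (fun _ => ℕ) l2867 l2868 (Nat.ble (nat_lit 2868) i)) (Nat.ble (nat_lit 2867) i)) (@Bool.rec (fun _ => ℕ) (@Bool.rec (fun _ => ℕ) l2869 l2870 (Nat.ble (nat_lit 2870) i)) (@Bool.rec (fun _ => ℕ) l2871 (t2872_2874 i) (Nat.ble (nat_lit 2872) i)) (Nat.ble (nat_lit 2871) i)) (Nat.ble (nat_lit 2869) i))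
noncomputable def t2877_2879 (i : ℕ) : ℕ := (@Bool.rec (fun _ => ℕ) l2877 l2878 (Nat.ble (nat_lit 2878) i))
noncomputable def t2882_2884 (i : ℕ) : ℕ := (@Bool.rec (fun _ => ℕ) l2882 l2883 (Nat.ble (nat_lit 2883) i))
noncomputable def t2874_2884 (i : ℕ) : ℕ := (@Bool.rec (fun _ => ℕ) (@Bool.rec (fun _ => ℕ) (@Bool.rec (fun _ => ℕ) l2874 l2875 (Nat.ble (nat_lit 2875) i)) (@Bool.rec (fun _ => ℕ) l2876 (t2877_2879 i) (Nat.ble (nat_lit 2877) i)) (Nat.ble (nat_lit 2876) i)) (@Bool.rec (fun _ => ℕ) (@Bool.rec (fun _ => ℕ) l2879 l2880 (Nat.ble (nat_lit 2880) i)) (@Bool.rec (fun _ => ℕ) l2881 (t2882_2884 i) (Nat.ble (nat_lit 2882) i)) (Nat.ble (nat_lit 2881) i)) (Nat.ble (nat_lit 2879) i))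
noncomputable def t2891_2893 (i : ℕ) : ℕ := (@Bool.rec (fun _ => ℕ) l2891 l2892 (Nat.ble (nat_lit 2892) i))
noncomputable def t2884_2893 (i : ℕ) : ℕ := (@Bool.rec (fun _ => ℕ) (@Bool.rec (fun _ => ℕ) (@Bool.rec (fun _ => ℕ) l2884 l2885 (Nat.ble (nat_lit 2885) i)) (@Bool.rec (fun _ => ℕ) l2886 l2887 (Nat.ble (nat_lit 2887) i)) (Nat.ble (nat_lit 2886) i)) (@Bool.rec (fun _ => ℕ) (@Bool.rec (fun _ => ℕ) l2888 l2889 (Nat.ble (nat_lit 2889) i)) (@Bool.rec (fun _ => ℕ) l2890 (t2891_2893 i) (Nat.ble (nat_lit 2891) i)) (Nat.ble (nat_lit 2890) i)) (Nat.ble (nat_lit 2888) i))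
noncomputable def t2896_2898 (i : ℕ) : ℕ := (@Bool.rec (fun _ => ℕ) l2896 l2897 (Nat.ble (nat_lit 2897) i))
noncomputable def t2901_2903 (i : ℕ) : ℕ := (@Bool.rec (fun _ => ℕ) l2901 l2902 (Nat.ble (nat_lit 2902) i))
noncomputable def t2893_2903 (i : ℕ) : ℕ := (@Bool.rec (fun _ => ℕ) (@Bool.rec (fun _ => ℕ) (@Bool.rec (fun _ => ℕ) l2893 l2894 (Nat.ble (nat_lit 2894) i)) (@Bool.rec (fun _ => ℕ) l2895 (t2896_2898 i) (Nat.ble (nat_lit 2896) i)) (Nat.ble (nat_lit 2895) i)) (@Bool.rec (fun _ => ℕ) (@Bool.rec (fun _ => ℕ) l2898 l2899 (Nat.ble (nat_lit 2899) i)) (@Bool.rec (fun _ => ℕ) l2900 (t2901_2903 i) (Nat.ble (nat_lit 2901) i)) (Nat.ble (nat_lit 2900) i)) (Nat.ble (nat_lit 2898) i))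
noncomputable def t2910_2912 (i : ℕ) : ℕ := (@Bool.rec (fun _ => ℕ) l2910 l2911 (Nat.ble (nat_lit 2911) i))
noncomputable def t2903_2912 (i : ℕ) : ℕ := (@Bool.rec (fun _ => ℕ) (@Bool.rec (fun _ => ℕ) (@Bool.rec (fun _ => ℕ) l2903 l2904 (Nat.ble (nat_lit 2904) i)) (@Bool.rec (fun _ => ℕ) l2905 l2906 (Nat.ble (nat_lit 2906) i)) (Nat.ble (nat_lit 2905) i)) (@Bool.rec (fun _ => ℕ) (@Bool.rec (fun _ => ℕ) l2907 l2908 (Nat.ble (nat_lit 2908) i)) (@Bool.rec (fun _ => ℕ) l2909 (t2910_2912 i) (Nat.ble (nat_lit 2910) i)) (Nat.ble (nat_lit 2909) i)) (Nat.ble (nat_lit 2907) i))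
noncomputable def t2915_2917 (i : ℕ) : ℕ := (@Bool.rec (fun _ => ℕ) l2915 l2916 (Nat.ble (nat_lit 2916) i))
noncomputable def t2920_2922 (i : ℕ) : ℕ := (@Bool.rec (fun _ => ℕ) l2920 l2921 (Nat.ble (nat_lit 2921) i))
noncomputable def t2912_2922 (i : ℕ) : ℕ := (@Bool.rec (fun _ => ℕ) (@Bool.rec (fun _ => ℕ) (@Bool.rec (fun _ => ℕ) l2912 l2913 (Nat.ble (nat_lit 2913) i)) (@Bool.rec (fun _ => ℕ) l2914 (t2915_2917 i) (Nat.ble (nat_lit 2915) i)) (Nat.ble (nat_lit 2914) i)) (@Bool.rec (fun _ => ℕ) (@Bool.rec (fun _ => ℕ) l2917 l2918 (Nat.ble (nat_lit 2918) i)) (@Bool.rec (fun _ => ℕ) l2919 (t2920_2922 i) (Nat.ble (nat_lit 2920) i)) (Nat.ble (nat_lit 2919) i)) (Nat.ble (nat_lit 2917) i))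
noncomputable def t2847_2922 (i : ℕ) : ℕ := (@Bool.rec (fun _ => ℕ) (@Bool.rec (fun _ => ℕ) (@Bool.rec (fun _ => ℕ) (t2847_2856 i) (t2856_2865 i) (Nat.ble (nat_lit 2856) i)) (@Bool.rec (fun _ => ℕ) (t2865_2874 i) (t2874_2884 i) (Nat.ble (nat_lit 2874) i)) (Nat.ble (nat_lit 2865) i)) (@Bool.rec (fun _ => ℕ) (@Bool.rec (fun _ => ℕ) (t2884_2893 i) (t2893_2903 i) (Nat.ble (nat_lit 2893) i)) (@Bool.rec (fun _ => ℕ) (t2903_2912 i) (t2912_2922 i) (Nat.ble (nat_lit 2912) i)) (Nat.ble (nat_lit 2903) i)) (Nat.ble (nat_lit 2884) i))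
noncomputable def t2929_2931 (i : ℕ) : ℕ := (@Bool.rec (fun _ => ℕ) l2929 l2930 (Nat.ble (nat_lit 2930) i))
noncomputable def t2922_2931 (i : ℕ) : ℕ := (@Bool.rec (fun _ => ℕ) (@Bool.rec (fun _ => ℕ) (@Bool.rec (fun _ => ℕ) l2922 l2923 (Nat.ble (nat_lit 2923) i)) (@Bool.rec (fun _ => ℕ) l2924 l2925 (Nat.ble (nat_lit 2925) i)) (Nat.ble (nat_lit 2924) i)) (@Bool.rec (fun _ => ℕ) (@Bool.rec (fun _ => ℕ) l2926 l2927 (Nat.ble (nat_lit 2927) i)) (@Bool.rec (fun _ => ℕ) l2928 (t2929_2931 i) (Nat.ble (nat_lit 2929) i)) (Nat.ble (nat_lit 2928) i)) (Nat.ble (nat_lit 2926) i))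
noncomputable def t2938_2940 (i : ℕ) : ℕ := (@Bool.rec (fun _ => ℕ) l2938 l2939 (Nat.ble (nat_lit 2939) i))
noncomputable def t2931_2940 (i : ℕ) : ℕ := (@Bool.rec (fun _ => ℕ) (@Bool.rec (fun _ => ℕ) (@Bool.rec (fun _ => ℕ) l2931 l2932 (Nat.ble (nat_lit 2932) i)) (@Bool.rec (fun _ => ℕ) l2933 l2934 (Nat.ble (nat_lit 2934) i)) (Nat.ble (nat_lit 2933) i)) (@Bool.rec (fun _ => ℕ) (@Bool.rec (fun _ => ℕ) l2935 l2936 (Nat.ble (nat_lit 2936) i)) (@Bool.rec (fun _ => ℕ) l2937 (t2938_2940 i) (Nat.ble (nat_lit 2938) i)) (Nat.ble (nat_lit 2937) i)) (Nat.ble (nat_lit 2935) i))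
noncomputable def t2947_2949 (i : ℕ) : ℕ := (@Bool.rec (fun _ => ℕ) l2947 l2948 (Nat.ble (nat_lit 2948) i))
noncomputable def t2940_2949 (i : ℕ) : ℕ := (@Bool.rec (fun _ => ℕ) (@Bool.rec (fun _ => ℕ) (@Bool.rec (fun _ => ℕ) l2940 l2941 (Nat.ble (nat_lit 2941) i)) (@Bool.rec (fun _ => ℕ) l2942 l2943 (Nat.ble (nat_lit 2943) i)) (Nat.ble (nat_lit 2942) i)) (@Bool.rec (fun _ => ℕ) (@Bool.rec (fun _ => ℕ) l2944 l2945 (Nat.ble (nat_lit 2945) i)) (@Bool.rec (fun _ => ℕ) l2946 (t2947_2949 i) (Nat.ble (nat_lit 2947) i)) (Nat.ble (nat_lit 2946) i)) (Nat.ble (nat_lit 2944) i))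
noncomputable def t2952_2954 (i : ℕ) : ℕ := (@Bool.rec (fun _ => ℕ) l2952 l2953 (Nat.ble (nat_lit 2953) i))
noncomputable def t2957_2959 (i : ℕ) : ℕ := (@Bool.rec (fun _ => ℕ) l2957 l2958 (Nat.ble (nat_lit 2958) i))
noncomputable def t2949_2959 (i : ℕ) : ℕ := (@Bool.rec (fun _ => ℕ) (@Bool.rec (fun _ => ℕ) (@Bool.rec (fun _ => ℕ) l2949 l2950 (Nat.ble (nat_lit 2950) i)) (@Bool.rec (fun _ => ℕ) l2951 (t2952_2954 i) (Nat.ble (nat_lit 2952) i)) (Nat.ble (nat_lit 2951) i)) (@Bool.rec (fun _ => ℕ) (@Bool.rec (fun _ => ℕ) l2954 l2955 (Nat.ble (nat_lit 2955) i)) (@Bool.rec (fun _ => ℕ) l2956 (t2957_2959 i) (Nat.ble (nat_lit 2957) i)) (Nat.ble (nat_lit 2956) i)) (Nat.ble (nat_lit 2954) i))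
noncomputable def t2966_2968 (i : ℕ) : ℕ := (@Bool.rec (fun _ => ℕ) l2966 l2967 (Nat.ble (nat_lit 2967) i))
noncomputable def t2959_2968 (i : ℕ) : ℕ := (@Bool.rec (fun _ => ℕ) (@Bool.rec (fun _ => ℕ) (@Bool.rec (fun _ => ℕ) l2959 l2960 (Nat.ble (nat_lit 2960) i)) (@Bool.rec (fun _ => ℕ) l2961 l2962 (Nat.ble (nat_lit 2962) i)) (Nat.ble (nat_lit 2961) i)) (@Bool.rec (fun _ => ℕ) (@Bool.rec (fun _ => ℕ) l2963 l2964 (Nat.ble (nat_lit 2964) i)) (@Bool.rec (fun _ => ℕ) l2965 (t2966_2968 i) (Nat.ble (nat_lit 2966) i)) (Nat.ble (nat_lit 2965) i)) (Nat.ble (nat_lit 2963) i))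
noncomputable def t2971_2973 (i : ℕ) : ℕ := (@Bool.rec (fun _ => ℕ) l2971 l2972 (Nat.ble (nat_lit 2972) i))
noncomputable def t2976_2978 (i : ℕ) : ℕ := (@Bool.rec (fun _ => ℕ) l2976 l2977 (Nat.ble (nat_lit 2977) i))
noncomputable def t2968_2978 (i : ℕ) : ℕ := (@Bool.rec (fun _ => ℕ) (@Bool.rec (fun _ => ℕ) (@Bool.rec (fun _ => ℕ) l2968 l2969 (Nat.ble (nat_lit 2969) i)) (@Bool.rec (fun _ => ℕ) l2970 (t2971_2973 i) (Nat.ble (nat_lit 2971) i)) (Nat.ble (nat_lit 2970) i)) (@Bool.rec (fun _ => ℕ) (@Bool.rec (fun _ => ℕ) l2973 l2974 (Nat.ble (nat_lit 2974) i)) (@Bool.rec (fun _ => ℕ) l2975 (t2976_2978 i) (Nat.ble (nat_lit 2976) i)) (Nat.ble (nat_lit 2975) i)) (Nat.ble (nat_lit 2973) i))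
noncomputable def t2985_2987 (i : ℕ) : ℕ := (@Bool.rec (fun _ => ℕ) l2985 l2986 (Nat.ble (nat_lit 2986) i))
noncomputable def t2978_2987 (i : ℕ) : ℕ := (@Bool.rec (fun _ => ℕ) (@Bool.rec (fun _ => ℕ) (@Bool.rec (fun _ => ℕ) l2978 l2979 (Nat.ble (nat_lit 2979) i)) (@Bool.rec (fun _ => ℕ) l2980 l2981 (Nat.ble (nat_lit 2981) i)) (Nat.ble (nat_lit 2980) i)) (@Bool.rec (fun _ => ℕ) (@Bool.rec (fun _ => ℕ) l2982 l2983 (Nat.ble (nat_lit 2983) i)) (@Bool.rec (fun _ => ℕ) l2984 (t2985_2987 i) (Nat.ble (nat_lit 2985) i)) (Nat.ble (nat_lit 2984) i)) (Nat.ble (nat_lit 2982) i))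
noncomputable def t2990_2992 (i : ℕ) : ℕ := (@Bool.rec (fun _ => ℕ) l2990 l2991 (Nat.ble (nat_lit 2991) i))
noncomputable def t2995_2997 (i : ℕ) : ℕ := (@Bool.rec (fun _ => ℕ) l2995 l2996 (Nat.ble (nat_lit 2996) i))
noncomputable def t2987_2997 (i : ℕ) : ℕ := (@Bool.rec (fun _ => ℕ) (@Bool.rec (fun _ => ℕ) (@Bool.rec (fun _ => ℕ) l2987 l2988 (Nat.ble (nat_lit 2988) i)) (@Bool.rec (fun _ => ℕ) l2989 (t2990_2992 i) (Nat.ble (nat_lit 2990) i)) (Nat.ble (nat_lit 2989) i)) (@Bool.rec (fun _ => ℕ) (@Bool.rec (fun _ => ℕ) l2992 l2993 (Nat.ble (nat_lit 2993) i)) (@Bool.rec (fun _ => ℕ) l2994 (t2995_2997 i) (Nat.ble (nat_lit 2995) i)) (Nat.ble (nat_lit 2994) i)) (Nat.ble (nat_lit 2992) i))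
noncomputable def t2922_2997 (i : ℕ) : ℕ := (@Bool.rec (fun _ => ℕ) (@Bool.rec (fun _ => ℕ) (@Bool.rec (fun _ => ℕ) (t2922_2931 i) (t2931_2940 i) (Nat.ble (nat_lit 2931) i)) (@Bool.rec (fun _ => ℕ) (t2940_2949 i) (t2949_2959 i) (Nat.ble (nat_lit 2949) i)) (Nat.ble (nat_lit 2940) i)) (@Bool.rec (fun _ => ℕ) (@Bool.rec (fun _ => ℕ) (t2959_2968 i) (t2968_2978 i) (Nat.ble (nat_lit 2968) i)) (@Bool.rec (fun _ => ℕ) (t2978_2987 i) (t2987_2997 i) (Nat.ble (nat_lit 2987) i)) (Nat.ble (nat_lit 2978) i)) (Nat.ble (nat_lit 2959) i))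
noncomputable def t2398_2997 (i : ℕ) : ℕ := (@Bool.rec (fun _ => ℕ) (@Bool.rec (fun _ => ℕ) (@Bool.rec (fun _ => ℕ) (t2398_2472 i) (t2472_2547 i) (Nat.ble (nat_lit 2472) i)) (@Bool.rec (fun _ => ℕ) (t2547_2622 i) (t2622_2697 i) (Nat.ble (nat_lit 2622) i)) (Nat.ble (nat_lit 2547) i)) (@Bool.rec (fun _ => ℕ) (@Bool.rec (fun _ => ℕ) (t2697_2772 i) (t2772_2847 i) (Nat.ble (nat_lit 2772) i)) (@Bool.rec (fun _ => ℕ) (t2847_2922 i) (t2922_2997 i) (Nat.ble (nat_lit 2922) i)) (Nat.ble (nat_lit 2847) i)) (Nat.ble (nat_lit 2697) i))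
noncomputable def t3004_3006 (i : ℕ) : ℕ := (@Bool.rec (fun _ => ℕ) l3004 l3005 (Nat.ble (nat_lit 3005) i))
noncomputable def t2997_3006 (i : ℕ) : ℕ := (@Bool.rec (fun _ => ℕ) (@Bool.rec (fun _ => ℕ) (@Bool.rec (fun _ => ℕ) l2997 l2998 (Nat.ble (nat_lit 2998) i)) (@Bool.rec (fun _ => ℕ) l2999 l3000 (Nat.ble (nat_lit 3000) i)) (Nat.ble (nat_lit 2999) i)) (@Bool.rec (fun _ => ℕ) (@Bool.rec (fun _ => ℕ) l3001 l3002 (Nat.ble (nat_lit 3002) i)) (@Bool.rec (fun _ => ℕ) l3003 (t3004_3006 i) (Nat.ble (nat_lit 3004) i)) (Nat.ble (nat_lit 3003) i)) (Nat.ble (nat_lit 3001) i))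
noncomputable def t3013_3015 (i : ℕ) : ℕ := (@Bool.rec (fun _ => ℕ) l3013 l3014 (Nat.ble (nat_lit 3014) i))
noncomputable def t3006_3015 (i : ℕ) : ℕ := (@Bool.rec (fun _ => ℕ) (@Bool.rec (fun _ => ℕ) (@Bool.rec (fun _ => ℕ) l3006 l3007 (Nat.ble (nat_lit 3007) i)) (@Bool.rec (fun _ => ℕ) l3008 l3009 (Nat.ble (nat_lit 3009) i)) (Nat.ble (nat_lit 3008) i)) (@Bool.rec (fun _ => ℕ) (@Bool.rec (fun _ => ℕ) l3010 l3011 (Nat.ble (nat_lit 3011) i)) (@Bool.rec (fun _ => ℕ) l3012 (t3013_3015 i) (Nat.ble (nat_lit 3013) i)) (Nat.ble (nat_lit 3012) i)) (Nat.ble (nat_lit 3010) i))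
noncomputable def t3022_3024 (i : ℕ) : ℕ := (@Bool.rec (fun _ => ℕ) l3022 l3023 (Nat.ble (nat_lit 3023) i))
noncomputable def t3015_3024 (i : ℕ) : ℕ := (@Bool.rec (fun _ => ℕ) (@Bool.rec (fun _ => ℕ) (@Bool.rec (fun _ => ℕ) l3015 l3016 (Nat.ble (nat_lit 3016) i)) (@Bool.rec (fun _ => ℕ) l3017 l3018 (Nat.ble (nat_lit 3018) i)) (Nat.ble (nat_lit 3017) i)) (@Bool.rec (fun _ => ℕ) (@Bool.rec (fun _ => ℕ) l3019 l3020 (Nat.ble (nat_lit 3020) i)) (@Bool.rec (fun _ => ℕ) l3021 (t3022_3024 i) (Nat.ble (nat_lit 3022) i)) (Nat.ble (nat_lit 3021) i)) (Nat.ble (nat_lit 3019) i))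
noncomputable def t3027_3029 (i : ℕ) : ℕ := (@Bool.rec (fun _ => ℕ) l3027 l3028 (Nat.ble (nat_lit 3028) i))
noncomputable def t3032_3034 (i : ℕ) : ℕ := (@Bool.rec (fun _ => ℕ) l3032 l3033 (Nat.ble (nat_lit 3033) i))
noncomputable def t3024_3034 (i : ℕ) : ℕ := (@Bool.rec (fun _ => ℕ) (@Bool.rec (fun _ => ℕ) (@Bool.rec (fun _ => ℕ) l3024 l3025 (Nat.ble (nat_lit 3025) i)) (@Bool.rec (fun _ => ℕ) l3026 (t3027_3029 i) (Nat.ble (nat_lit 3027) i)) (Nat.ble (nat_lit 3026) i)) (@Bool.rec (fun _ => ℕ) (@Bool.rec (fun _ => ℕ) l3029 l3030 (Nat.ble (nat_lit 3030) i)) (@Bool.rec (fun _ => ℕ) l3031 (t3032_3034 i) (Nat.ble (nat_lit 3032) i)) (Nat.ble (nat_lit 3031) i)) (Nat.ble (nat_lit 3029) i))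
noncomputable def t3041_3043 (i : ℕ) : ℕ := (@Bool.rec (fun _ => ℕ) l3041 l3042 (Nat.ble (nat_lit 3042) i))
noncomputable def t3034_3043 (i : ℕ) : ℕ := (@Bool.rec (fun _ => ℕ) (@Bool.rec (fun _ => ℕ) (@Bool.rec (fun _ => ℕ) l3034 l3035 (Nat.ble (nat_lit 3035) i)) (@Bool.rec (fun _ => ℕ) l3036 l3037 (Nat.ble (nat_lit 3037) i)) (Nat.ble (nat_lit 3036) i)) (@Bool.rec (fun _ => ℕ) (@Bool.rec (fun _ => ℕ) l3038 l3039 (Nat.ble (nat_lit 3039) i)) (@Bool.rec (fun _ => ℕ) l3040 (t3041_3043 i) (Nat.ble (nat_lit 3041) i)) (Nat.ble (nat_lit 3040) i)) (Nat.ble (nat_lit 3038) i))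
noncomputable def t3046_3048 (i : ℕ) : ℕ := (@Bool.rec (fun _ => ℕ) l3046 l3047 (Nat.ble (nat_lit 3047) i))
noncomputable def t3051_3053 (i : ℕ) : ℕ := (@Bool.rec (fun _ => ℕ) l3051 l3052 (Nat.ble (nat_lit 3052) i))
noncomputable def t3043_3053 (i : ℕ) : ℕ := (@Bool.rec (fun _ => ℕ) (@Bool.rec (fun _ => ℕ) (@Bool.rec (fun _ => ℕ) l3043 l3044 (Nat.ble (nat_lit 3044) i)) (@Bool.rec (fun _ => ℕ) l3045 (t3046_3048 i) (Nat.ble (nat_lit 3046) i)) (Nat.ble (nat_lit 3045) i)) (@Bool.rec (fun _ => ℕ) (@Bool.rec (fun _ => ℕ) l3048 l3049 (Nat.ble (nat_lit 3049) i)) (@Bool.rec (fun _ => ℕ) l3050 (t3051_3053 i) (Nat.ble (nat_lit 3051) i)) (Nat.ble (nat_lit 3050) i)) (Nat.ble (nat_lit 3048) i))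
noncomputable def t3060_3062 (i : ℕ) : ℕ := (@Bool.rec (fun _ => ℕ) l3060 l3061 (Nat.ble (nat_lit 3061) i))
noncomputable def t3053_3062 (i : ℕ) : ℕ := (@Bool.rec (fun _ => ℕ) (@Bool.rec (fun _ => ℕ) (@Bool.rec (fun _ => ℕ) l3053 l3054 (Nat.ble (nat_lit 3054) i)) (@Bool.rec (fun _ => ℕ) l3055 l3056 (Nat.ble (nat_lit 3056) i)) (Nat.ble (nat_lit 3055) i)) (@Bool.rec (fun _ => ℕ) (@Bool.rec (fun _ => ℕ) l3057 l3058 (Nat.ble (nat_lit 3058) i)) (@Bool.rec (fun _ => ℕ) l3059 (t3060_3062 i) (Nat.ble (nat_lit 3060) i)) (Nat.ble (nat_lit 3059) i)) (Nat.ble (nat_lit 3057) i))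
noncomputable def t3065_3067 (i : ℕ) : ℕ := (@Bool.rec (fun _ => ℕ) l3065 l3066 (Nat.ble (nat_lit 3066) i))
noncomputable def t3070_3072 (i : ℕ) : ℕ := (@Bool.rec (fun _ => ℕ) l3070 l3071 (Nat.ble (nat_lit 3071) i))
noncomputable def t3062_3072 (i : ℕ) : ℕ := (@Bool.rec (fun _ => ℕ) (@Bool.rec (fun _ => ℕ) (@Bool.rec (fun _ => ℕ) l3062 l3063 (Nat.ble (nat_lit 3063) i)) (@Bool.rec (fun _ => ℕ) l3064 (t3065_3067 i) (Nat.ble (nat_lit 3065) i)) (Nat.ble (nat_lit 3064) i)) (@Bool.rec (fun _ => ℕ) (@Bool.rec (fun _ => ℕ) l3067 l3068 (Nat.ble (nat_lit 3068) i)) (@Bool.rec (fun _ => ℕ) l3069 (t3070_3072 i) (Nat.ble (nat_lit 3070) i)) (Nat.ble (nat_lit 3069) i)) (Nat.ble (nat_lit 3067) i))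
noncomputable def t2997_3072 (i : ℕ) : ℕ := (@Bool.rec (fun _ => ℕ) (@Bool.rec (fun _ => ℕ) (@Bool.rec (fun _ => ℕ) (t2997_3006 i) (t3006_3015 i) (Nat.ble (nat_lit 3006) i)) (@Bool.rec (fun _ => ℕ) (t3015_3024 i) (t3024_3034 i) (Nat.ble (nat_lit 3024) i)) (Nat.ble (nat_lit 3015) i)) (@Bool.rec (fun _ => ℕ) (@Bool.rec (fun _ => ℕ) (t3034_3043 i) (t3043_3053 i) (Nat.ble (nat_lit 3043) i)) (@Bool.rec (fun _ => ℕ) (t3053_3062 i) (t3062_3072 i) (Nat.ble (nat_lit 3062) i)) (Nat.ble (nat_lit 3053) i)) (Nat.ble (nat_lit 3034) i))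
noncomputable def t3079_3081 (i : ℕ) : ℕ := (@Bool.rec (fun _ => ℕ) l3079 l3080 (Nat.ble (nat_lit 3080) i))
noncomputable def t3072_3081 (i : ℕ) : ℕ := (@Bool.rec (fun _ => ℕ) (@Bool.rec (fun _ => ℕ) (@Bool.rec (fun _ => ℕ) l3072 l3073 (Nat.ble (nat_lit 3073) i)) (@Bool.rec (fun _ => ℕ) l3074 l3075 (Nat.ble (nat_lit 3075) i)) (Nat.ble (nat_lit 3074) i)) (@Bool.rec (fun _ => ℕ) (@Bool.rec (fun _ => ℕ) l3076 l3077 (Nat.ble (nat_lit 3077) i)) (@Bool.rec (fun _ => ℕ) l3078 (t3079_3081 i) (Nat.ble (nat_lit 3079) i)) (Nat.ble (nat_lit 3078) i)) (Nat.ble (nat_lit 3076) i))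
noncomputable def t3088_3090 (i : ℕ) : ℕ := (@Bool.rec (fun _ => ℕ) l3088 l3089 (Nat.ble (nat_lit 3089) i))
noncomputable def t3081_3090 (i : ℕ) : ℕ := (@Bool.rec (fun _ => ℕ) (@Bool.rec (fun _ => ℕ) (@Bool.rec (fun _ => ℕ) l3081 l3082 (Nat.ble (nat_lit 3082) i)) (@Bool.rec (fun _ => ℕ) l3083 l3084 (Nat.ble (nat_lit 3084) i)) (Nat.ble (nat_lit 3083) i)) (@Bool.rec (fun _ => ℕ) (@Bool.rec (fun _ => ℕ) l3085 l3086 (Nat.ble (nat_lit 3086) i)) (@Bool.rec (fun _ => ℕ) l3087 (t3088_3090 i) (Nat.ble (nat_lit 3088) i)) (Nat.ble (nat_lit 3087) i)) (Nat.ble (nat_lit 3085) i))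
noncomputable def t3097_3099 (i : ℕ) : ℕ := (@Bool.rec (fun _ => ℕ) l3097 l3098 (Nat.ble (nat_lit 3098) i))
noncomputable def t3090_3099 (i : ℕ) : ℕ := (@Bool.rec (fun _ => ℕ) (@Bool.rec (fun _ => ℕ) (@Bool.rec (fun _ => ℕ) l3090 l3091 (Nat.ble (nat_lit 3091) i)) (@Bool.rec (fun _ => ℕ) l3092 l3093 (Nat.ble (nat_lit 3093) i)) (Nat.ble (nat_lit 3092) i)) (@Bool.rec (fun _ => ℕ) (@Bool.rec (fun _ => ℕ) l3094 l3095 (Nat.ble (nat_lit 3095) i)) (@Bool.rec (fun _ => ℕ) l3096 (t3097_3099 i) (Nat.ble (nat_lit 3097) i)) (Nat.ble (nat_lit 3096) i)) (Nat.ble (nat_lit 3094) i))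
noncomputable def t3102_3104 (i : ℕ) : ℕ := (@Bool.rec (fun _ => ℕ) l3102 l3103 (Nat.ble (nat_lit 3103) i))
noncomputable def t3107_3109 (i : ℕ) : ℕ := (@Bool.rec (fun _ => ℕ) l3107 l3108 (Nat.ble (nat_lit 3108) i))
noncomputable def t3099_3109 (i : ℕ) : ℕ := (@Bool.rec (fun _ => ℕ) (@Bool.rec (fun _ => ℕ) (@Bool.rec (fun _ => ℕ) l3099 l3100 (Nat.ble (nat_lit 3100) i)) (@Bool.rec (fun _ => ℕ) l3101 (t3102_3104 i) (Nat.ble (nat_lit 3102) i)) (Nat.ble (nat_lit 3101) i)) (@Bool.rec (fun _ => ℕ) (@Bool.rec (fun _ => ℕ) l3104 l3105 (Nat.ble (nat_lit 3105) i)) (@Bool.rec (fun _ => ℕ) l3106 (t3107_3109 i) (Nat.ble (nat_lit 3107) i)) (Nat.ble (nat_lit 3106) i)) (Nat.ble (nat_lit 3104) i))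
noncomputable def t3116_3118 (i : ℕ) : ℕ := (@Bool.rec (fun _ => ℕ) l3116 l3117 (Nat.ble (nat_lit 3117) i))
noncomputable def t3109_3118 (i : ℕ) : ℕ := (@Bool.rec (fun _ => ℕ) (@Bool.rec (fun _ => ℕ) (@Bool.rec (fun _ => ℕ) l3109 l3110 (Nat.ble (nat_lit 3110) i)) (@Bool.rec (fun _ => ℕ) l3111 l3112 (Nat.ble (nat_lit 3112) i)) (Nat.ble (nat_lit 3111) i)) (@Bool.rec (fun _ => ℕ) (@Bool.rec (fun _ => ℕ) l3113 l3114 (Nat.ble (nat_lit 3114) i)) (@Bool.rec (fun _ => ℕ) l3115 (t3116_3118 i) (Nat.ble (nat_lit 3116) i)) (Nat.ble (nat_lit 3115) i)) (Nat.ble (nat_lit 3113) i))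
noncomputable def t3121_3123 (i : ℕ) : ℕ := (@Bool.rec (fun _ => ℕ) l3121 l3122 (Nat.ble (nat_lit 3122) i))
noncomputable def t3126_3128 (i : ℕ) : ℕ := (@Bool.rec (fun _ => ℕ) l3126 l3127 (Nat.ble (nat_lit 3127) i))
noncomputable def t3118_3128 (i : ℕ) : ℕ := (@Bool.rec (fun _ => ℕ) (@Bool.rec (fun _ => ℕ) (@Bool.rec (fun _ => ℕ) l3118 l3119 (Nat.ble (nat_lit 3119) i)) (@Bool.rec (fun _ => ℕ) l3120 (t3121_3123 i) (Nat.ble (nat_lit 3121) i)) (Nat.ble (nat_lit 3120) i)) (@Bool.rec (fun _ => ℕ) (@Bool.rec (fun _ => ℕ) l3123 l3124 (Nat.ble (nat_lit 3124) i)) (@Bool.rec (fun _ => ℕ) l3125 (t3126_3128 i) (Nat.ble (nat_lit 3126) i)) (Nat.ble (nat_lit 3125) i)) (Nat.ble (nat_lit 3123) i))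
noncomputable def t3135_3137 (i : ℕ) : ℕ := (@Bool.rec (fun _ => ℕ) l3135 l3136 (Nat.ble (nat_lit 3136) i))
noncomputable def t3128_3137 (i : ℕ) : ℕ := (@Bool.rec (fun _ => ℕ) (@Bool.rec (fun _ => ℕ) (@Bool.rec (fun _ => ℕ) l3128 l3129 (Nat.ble (nat_lit 3129) i)) (@Bool.rec (fun _ => ℕ) l3130 l3131 (Nat.ble (nat_lit 3131) i)) (Nat.ble (nat_lit 3130) i)) (@Bool.rec (fun _ => ℕ) (@Bool.rec (fun _ => ℕ) l3132 l3133 (Nat.ble (nat_lit 3133) i)) (@Bool.rec (fun _ => ℕ) l3134 (t3135_3137 i) (Nat.ble (nat_lit 3135) i)) (Nat.ble (nat_lit 3134) i)) (Nat.ble (nat_lit 3132) i))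
noncomputable def t3140_3142 (i : ℕ) : ℕ := (@Bool.rec (fun _ => ℕ) l3140 l3141 (Nat.ble (nat_lit 3141) i))
noncomputable def t3145_3147 (i : ℕ) : ℕ := (@Bool.rec (fun _ => ℕ) l3145 l3146 (Nat.ble (nat_lit 3146) i))
noncomputable def t3137_3147 (i : ℕ) : ℕ := (@Bool.rec (fun _ => ℕ) (@Bool.rec (fun _ => ℕ) (@Bool.rec (fun _ => ℕ) l3137 l3138 (Nat.ble (nat_lit 3138) i)) (@Bool.rec (fun _ => ℕ) l3139 (t3140_3142 i) (Nat.ble (nat_lit 3140) i)) (Nat.ble (nat_lit 3139) i)) (@Bool.rec (fun _ => ℕ) (@Bool.rec (fun _ => ℕ) l3142 l3143 (Nat.ble (nat_lit 3143) i)) (@Bool.rec (fun _ => ℕ) l3144 (t3145_3147 i) (Nat.ble (nat_lit 3145) i)) (Nat.ble (nat_lit 3144) i)) (Nat.ble (nat_lit 3142) i))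
noncomputable def t3072_3147 (i : ℕ) : ℕ := (@Bool.rec (fun _ => ℕ) (@Bool.rec (fun _ => ℕ) (@Bool.rec (fun _ => ℕ) (t3072_3081 i) (t3081_3090 i) (Nat.ble (nat_lit 3081) i)) (@Bool.rec (fun _ => ℕ) (t3090_3099 i) (t3099_3109 i) (Nat.ble (nat_lit 3099) i)) (Nat.ble (nat_lit 3090) i)) (@Bool.rec (fun _ => ℕ) (@Bool.rec (fun _ => ℕ) (t3109_3118 i) (t3118_3128 i) (Nat.ble (nat_lit 3118) i)) (@Bool.rec (fun _ => ℕ) (t3128_3137 i) (t3137_3147 i) (Nat.ble (nat_lit 3137) i)) (Nat.ble (nat_lit 3128) i)) (Nat.ble (nat_lit 3109) i))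
noncomputable def t3154_3156 (i : ℕ) : ℕ := (@Bool.rec (fun _ => ℕ) l3154 l3155 (Nat.ble (nat_lit 3155) i))
noncomputable def t3147_3156 (i : ℕ) : ℕ := (@Bool.rec (fun _ => ℕ) (@Bool.rec (fun _ => ℕ) (@Bool.rec (fun _ => ℕ) l3147 l3148 (Nat.ble (nat_lit 3148) i)) (@Bool.rec (fun _ => ℕ) l3149 l3150 (Nat.ble (nat_lit 3150) i)) (Nat.ble (nat_lit 3149) i)) (@Bool.rec (fun _ => ℕ) (@Bool.rec (fun _ => ℕ) l3151 l3152 (Nat.ble (nat_lit 3152) i)) (@Bool.rec (fun _ => ℕ) l3153 (t3154_3156 i) (Nat.ble (nat_lit 3154) i)) (Nat.ble (nat_lit 3153) i)) (Nat.ble (nat_lit 3151) i))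
noncomputable def t3163_3165 (i : ℕ) : ℕ := (@Bool.rec (fun _ => ℕ) l3163 l3164 (Nat.ble (nat_lit 3164) i))
noncomputable def t3156_3165 (i : ℕ) : ℕ := (@Bool.rec (fun _ => ℕ) (@Bool.rec (fun _ => ℕ) (@Bool.rec (fun _ => ℕ) l3156 l3157 (Nat.ble (nat_lit 3157) i)) (@Bool.rec (fun _ => ℕ) l3158 l3159 (Nat.ble (nat_lit 3159) i)) (Nat.ble (nat_lit 3158) i)) (@Bool.rec (fun _ => ℕ) (@Bool.rec (fun _ => ℕ) l3160 l3161 (Nat.ble (nat_lit 3161) i)) (@Bool.rec (fun _ => ℕ) l3162 (t3163_3165 i) (Nat.ble (nat_lit 3163) i)) (Nat.ble (nat_lit 3162) i)) (Nat.ble (nat_lit 3160) i))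
noncomputable def t3172_3174 (i : ℕ) : ℕ := (@Bool.rec (fun _ => ℕ) l3172 l3173 (Nat.ble (nat_lit 3173) i))
noncomputable def t3165_3174 (i : ℕ) : ℕ := (@Bool.rec (fun _ => ℕ) (@Bool.rec (fun _ => ℕ) (@Bool.rec (fun _ => ℕ) l3165 l3166 (Nat.ble (nat_lit 3166) i)) (@Bool.rec (fun _ => ℕ) l3167 l3168 (Nat.ble (nat_lit 3168) i)) (Nat.ble (nat_lit 3167) i)) (@Bool.rec (fun _ => ℕ) (@Bool.rec (fun _ => ℕ) l3169 l3170 (Nat.ble (nat_lit 3170) i)) (@Bool.rec (fun _ => ℕ) l3171 (t3172_3174 i) (Nat.ble (nat_lit 3172) i)) (Nat.ble (nat_lit 3171) i)) (Nat.ble (nat_lit 3169) i))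
noncomputable def t3177_3179 (i : ℕ) : ℕ := (@Bool.rec (fun _ => ℕ) l3177 l3178 (Nat.ble (nat_lit 3178) i))
noncomputable def t3182_3184 (i : ℕ) : ℕ := (@Bool.rec (fun _ => ℕ) l3182 l3183 (Nat.ble (nat_lit 3183) i))
noncomputable def t3174_3184 (i : ℕ) : ℕ := (@Bool.rec (fun _ => ℕ) (@Bool.rec (fun _ => ℕ) (@Bool.rec (fun _ => ℕ) l3174 l3175 (Nat.ble (nat_lit 3175) i)) (@Bool.rec (fun _ => ℕ) l3176 (t3177_3179 i) (Nat.ble (nat_lit 3177) i)) (Nat.ble (nat_lit 3176) i)) (@Bool.rec (fun _ => ℕ) (@Bool.rec (fun _ => ℕ) l3179 l3180 (Nat.ble (nat_lit 3180) i)) (@Bool.rec (fun _ => ℕ) l3181 (t3182_3184 i) (Nat.ble (nat_lit 3182) i)) (Nat.ble (nat_lit 3181) i)) (Nat.ble (nat_lit 3179) i))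
noncomputable def t3191_3193 (i : ℕ) : ℕ := (@Bool.rec (fun _ => ℕ) l3191 l3192 (Nat.ble (nat_lit 3192) i))
noncomputable def t3184_3193 (i : ℕ) : ℕ := (@Bool.rec (fun _ => ℕ) (@Bool.rec (fun _ => ℕ) (@Bool.rec (fun _ => ℕ) l3184 l3185 (Nat.ble (nat_lit 3185) i)) (@Bool.rec (fun _ => ℕ) l3186 l3187 (Nat.ble (nat_lit 3187) i)) (Nat.ble (nat_lit 3186) i)) (@Bool.rec (fun _ => ℕ) (@Bool.rec (fun _ => ℕ) l3188 l3189 (Nat.ble (nat_lit 3189) i)) (@Bool.rec (fun _ => ℕ) l3190 (t3191_3193 i) (Nat.ble (nat_lit 3191) i)) (Nat.ble (nat_lit 3190) i)) (Nat.ble (nat_lit 3188) i))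
noncomputable def t3196_3198 (i : ℕ) : ℕ := (@Bool.rec (fun _ => ℕ) l3196 l3197 (Nat.ble (nat_lit 3197) i))
noncomputable def t3201_3203 (i : ℕ) : ℕ := (@Bool.rec (fun _ => ℕ) l3201 l3202 (Nat.ble (nat_lit 3202) i))
noncomputable def t3193_3203 (i : ℕ) : ℕ := (@Bool.rec (fun _ => ℕ) (@Bool.rec (fun _ => ℕ) (@Bool.rec (fun _ => ℕ) l3193 l3194 (Nat.ble (nat_lit 3194) i)) (@Bool.rec (fun _ => ℕ) l3195 (t3196_3198 i) (Nat.ble (nat_lit 3196) i)) (Nat.ble (nat_lit 3195) i)) (@Bool.rec (fun _ => ℕ) (@Bool.rec (fun _ => ℕ) l3198 l3199 (Nat.ble (nat_lit 3199) i)) (@Bool.rec (fun _ => ℕ) l3200 (t3201_3203 i) (Nat.ble (nat_lit 3201) i)) (Nat.ble (nat_lit 3200) i)) (Nat.ble (nat_lit 3198) i))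
noncomputable def t3210_3212 (i : ℕ) : ℕ := (@Bool.rec (fun _ => ℕ) l3210 l3211 (Nat.ble (nat_lit 3211) i))
noncomputable def t3203_3212 (i : ℕ) : ℕ := (@Bool.rec (fun _ => ℕ) (@Bool.rec (fun _ => ℕ) (@Bool.rec (fun _ => ℕ) l3203 l3204 (Nat.ble (nat_lit 3204) i)) (@Bool.rec (fun _ => ℕ) l3205 l3206 (Nat.ble (nat_lit 3206) i)) (Nat.ble (nat_lit 3205) i)) (@Bool.rec (fun _ => ℕ) (@Bool.rec (fun _ => ℕ) l3207 l3208 (Nat.ble (nat_lit 3208) i)) (@Bool.rec (fun _ => ℕ) l3209 (t3210_3212 i) (Nat.ble (nat_lit 3210) i)) (Nat.ble (nat_lit 3209) i)) (Nat.ble (nat_lit 3207) i))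
noncomputable def t3215_3217 (i : ℕ) : ℕ := (@Bool.rec (fun _ => ℕ) l3215 l3216 (Nat.ble (nat_lit 3216) i))
noncomputable def t3220_3222 (i : ℕ) : ℕ := (@Bool.rec (fun _ => ℕ) l3220 l3221 (Nat.ble (nat_lit 3221) i))
noncomputable def t3212_3222 (i : ℕ) : ℕ := (@Bool.rec (fun _ => ℕ) (@Bool.rec (fun _ => ℕ) (@Bool.rec (fun _ => ℕ) l3212 l3213 (Nat.ble (nat_lit 3213) i)) (@Bool.rec (fun _ => ℕ) l3214 (t3215_3217 i) (Nat.ble (nat_lit 3215) i)) (Nat.ble (nat_lit 3214) i)) (@Bool.rec (fun _ => ℕ) (@Bool.rec (fun _ => ℕ) l3217 l3218 (Nat.ble (nat_lit 3218) i)) (@Bool.rec (fun _ => ℕ) l3219 (t3220_3222 i) (Nat.ble (nat_lit 3220) i)) (Nat.ble (nat_lit 3219) i)) (Nat.ble (nat_lit 3217) i))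
noncomputable def t3147_3222 (i : ℕ) : ℕ := (@Bool.rec (fun _ => ℕ) (@Bool.rec (fun _ => ℕ) (@Bool.rec (fun _ => ℕ) (t3147_3156 i) (t3156_3165 i) (Nat.ble (nat_lit 3156) i)) (@Bool.rec (fun _ => ℕ) (t3165_3174 i) (t3174_3184 i) (Nat.ble (nat_lit 3174) i)) (Nat.ble (nat_lit 3165) i)) (@Bool.rec (fun _ => ℕ) (@Bool.rec (fun _ => ℕ) (t3184_3193 i) (t3193_3203 i) (Nat.ble (nat_lit 3193) i)) (@Bool.rec (fun _ => ℕ) (t3203_3212 i) (t3212_3222 i) (Nat.ble (nat_lit 3212) i)) (Nat.ble (nat_lit 3203) i)) (Nat.ble (nat_lit 3184) i))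
noncomputable def t3229_3231 (i : ℕ) : ℕ := (@Bool.rec (fun _ => ℕ) l3229 l3230 (Nat.ble (nat_lit 3230) i))
noncomputable def t3222_3231 (i : ℕ) : ℕ := (@Bool.rec (fun _ => ℕ) (@Bool.rec (fun _ => ℕ) (@Bool.rec (fun _ => ℕ) l3222 l3223 (Nat.ble (nat_lit 3223) i)) (@Bool.rec (fun _ => ℕ) l3224 l3225 (Nat.ble (nat_lit 3225) i)) (Nat.ble (nat_lit 3224) i)) (@Bool.rec (fun _ => ℕ) (@Bool.rec (fun _ => ℕ) l3226 l3227 (Nat.ble (nat_lit 3227) i)) (@Bool.rec (fun _ => ℕ) l3228 (t3229_3231 i) (Nat.ble (nat_lit 3229) i)) (Nat.ble (nat_lit 3228) i)) (Nat.ble (nat_lit 3226) i))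
noncomputable def t3238_3240 (i : ℕ) : ℕ := (@Bool.rec (fun _ => ℕ) l3238 l3239 (Nat.ble (nat_lit 3239) i))
noncomputable def t3231_3240 (i : ℕ) : ℕ := (@Bool.rec (fun _ => ℕ) (@Bool.rec (fun _ => ℕ) (@Bool.rec (fun _ => ℕ) l3231 l3232 (Nat.ble (nat_lit 3232) i)) (@Bool.rec (fun _ => ℕ) l3233 l3234 (Nat.ble (nat_lit 3234) i)) (Nat.ble (nat_lit 3233) i)) (@Bool.rec (fun _ => ℕ) (@Bool.rec (fun _ => ℕ) l3235 l3236 (Nat.ble (nat_lit 3236) i)) (@Bool.rec (fun _ => ℕ) l3237 (t3238_3240 i) (Nat.ble (nat_lit 3238) i)) (Nat.ble (nat_lit 3237) i)) (Nat.ble (nat_lit 3235) i))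
noncomputable def t3247_3249 (i : ℕ) : ℕ := (@Bool.rec (fun _ => ℕ) l3247 l3248 (Nat.ble (nat_lit 3248) i))
noncomputable def t3240_3249 (i : ℕ) : ℕ := (@Bool.rec (fun _ => ℕ) (@Bool.rec (fun _ => ℕ) (@Bool.rec (fun _ => ℕ) l3240 l3241 (Nat.ble (nat_lit 3241) i)) (@Bool.rec (fun _ => ℕ) l3242 l3243 (Nat.ble (nat_lit 3243) i)) (Nat.ble (nat_lit 3242) i)) (@Bool.rec (fun _ => ℕ) (@Bool.rec (fun _ => ℕ) l3244 l3245 (Nat.ble (nat_lit 3245) i)) (@Bool.rec (fun _ => ℕ) l3246 (t3247_3249 i) (Nat.ble (nat_lit 3247) i)) (Nat.ble (nat_lit 3246) i)) (Nat.ble (nat_lit 3244) i))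
noncomputable def t3252_3254 (i : ℕ) : ℕ := (@Bool.rec (fun _ => ℕ) l3252 l3253 (Nat.ble (nat_lit 3253) i))
noncomputable def t3257_3259 (i : ℕ) : ℕ := (@Bool.rec (fun _ => ℕ) l3257 l3258 (Nat.ble (nat_lit 3258) i))
noncomputable def t3249_3259 (i : ℕ) : ℕ := (@Bool.rec (fun _ => ℕ) (@Bool.rec (fun _ => ℕ) (@Bool.rec (fun _ => ℕ) l3249 l3250 (Nat.ble (nat_lit 3250) i)) (@Bool.rec (fun _ => ℕ) l3251 (t3252_3254 i) (Nat.ble (nat_lit 3252) i)) (Nat.ble (nat_lit 3251) i)) (@Bool.rec (fun _ => ℕ) (@Bool.rec (fun _ => ℕ) l3254 l3255 (Nat.ble (nat_lit 3255) i)) (@Bool.rec (fun _ => ℕ) l3256 (t3257_3259 i) (Nat.ble (nat_lit 3257) i)) (Nat.ble (nat_lit 3256) i)) (Nat.ble (nat_lit 3254) i))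
noncomputable def t3266_3268 (i : ℕ) : ℕ := (@Bool.rec (fun _ => ℕ) l3266 l3267 (Nat.ble (nat_lit 3267) i))
noncomputable def t3259_3268 (i : ℕ) : ℕ := (@Bool.rec (fun _ => ℕ) (@Bool.rec (fun _ => ℕ) (@Bool.rec (fun _ => ℕ) l3259 l3260 (Nat.ble (nat_lit 3260) i)) (@Bool.rec (fun _ => ℕ) l3261 l3262 (Nat.ble (nat_lit 3262) i)) (Nat.ble (nat_lit 3261) i)) (@Bool.rec (fun _ => ℕ) (@Bool.rec (fun _ => ℕ) l3263 l3264 (Nat.ble (nat_lit 3264) i)) (@Bool.rec (fun _ => ℕ) l3265 (t3266_3268 i) (Nat.ble (nat_lit 3266) i)) (Nat.ble (nat_lit 3265) i)) (Nat.ble (nat_lit 3263) i))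
noncomputable def t3271_3273 (i : ℕ) : ℕ := (@Bool.rec (fun _ => ℕ) l3271 l3272 (Nat.ble (nat_lit 3272) i))
noncomputable def t3276_3278 (i : ℕ) : ℕ := (@Bool.rec (fun _ => ℕ) l3276 l3277 (Nat.ble (nat_lit 3277) i))
noncomputable def t3268_3278 (i : ℕ) : ℕ := (@Bool.rec (fun _ => ℕ) (@Bool.rec (fun _ => ℕ) (@Bool.rec (fun _ => ℕ) l3268 l3269 (Nat.ble (nat_lit 3269) i)) (@Bool.rec (fun _ => ℕ) l3270 (t3271_3273 i) (Nat.ble (nat_lit 3271) i)) (Nat.ble (nat_lit 3270) i)) (@Bool.rec (fun _ => ℕ) (@Bool.rec (fun _ => ℕ) l3273 l3274 (Nat.ble (nat_lit 3274) i)) (@Bool.rec (fun _ => ℕ) l3275 (t3276_3278 i) (Nat.ble (nat_lit 3276) i)) (Nat.ble (nat_lit 3275) i)) (Nat.ble (nat_lit 3273) i))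
noncomputable def t3285_3287 (i : ℕ) : ℕ := (@Bool.rec (fun _ => ℕ) l3285 l3286 (Nat.ble (nat_lit 3286) i))
noncomputable def t3278_3287 (i : ℕ) : ℕ := (@Bool.rec (fun _ => ℕ) (@Bool.rec (fun _ => ℕ) (@Bool.rec (fun _ => ℕ) l3278 l3279 (Nat.ble (nat_lit 3279) i)) (@Bool.rec (fun _ => ℕ) l3280 l3281 (Nat.ble (nat_lit 3281) i)) (Nat.ble (nat_lit 3280) i)) (@Bool.rec (fun _ => ℕ) (@Bool.rec (fun _ => ℕ) l3282 l3283 (Nat.ble (nat_lit 3283) i)) (@Bool.rec (fun _ => ℕ) l3284 (t3285_3287 i) (Nat.ble (nat_lit 3285) i)) (Nat.ble (nat_lit 3284) i)) (Nat.ble (nat_lit 3282) i))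
noncomputable def t3290_3292 (i : ℕ) : ℕ := (@Bool.rec (fun _ => ℕ) l3290 l3291 (Nat.ble (nat_lit 3291) i))
noncomputable def t3295_3297 (i : ℕ) : ℕ := (@Bool.rec (fun _ => ℕ) l3295 l3296 (Nat.ble (nat_lit 3296) i))
noncomputable def t3287_3297 (i : ℕ) : ℕ := (@Bool.rec (fun _ => ℕ) (@Bool.rec (fun _ => ℕ) (@Bool.rec (fun _ => ℕ) l3287 l3288 (Nat.ble (nat_lit 3288) i)) (@Bool.rec (fun _ => ℕ) l3289 (t3290_3292 i) (Nat.ble (nat_lit 3290) i)) (Nat.ble (nat_lit 3289) i)) (@Bool.rec (fun _ => ℕ) (@Bool.rec (fun _ => ℕ) l3292 l3293 (Nat.ble (nat_lit 3293) i)) (@Bool.rec (fun _ => ℕ) l3294 (t3295_3297 i) (Nat.ble (nat_lit 3295) i)) (Nat.ble (nat_lit 3294) i)) (Nat.ble (nat_lit 3292) i))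
noncomputable def t3222_3297 (i : ℕ) : ℕ := (@Bool.rec (fun _ => ℕ) (@Bool.rec (fun _ => ℕ) (@Bool.rec (fun _ => ℕ) (t3222_3231 i) (t3231_3240 i) (Nat.ble (nat_lit 3231) i)) (@Bool.rec (fun _ => ℕ) (t3240_3249 i) (t3249_3259 i) (Nat.ble (nat_lit 3249) i)) (Nat.ble (nat_lit 3240) i)) (@Bool.rec (fun _ => ℕ) (@Bool.rec (fun _ => ℕ) (t3259_3268 i) (t3268_3278 i) (Nat.ble (nat_lit 3268) i)) (@Bool.rec (fun _ => ℕ) (t3278_3287 i) (t3287_3297 i) (Nat.ble (nat_lit 3287) i)) (Nat.ble (nat_lit 3278) i)) (Nat.ble (nat_lit 3259) i))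
noncomputable def t3304_3306 (i : ℕ) : ℕ := (@Bool.rec (fun _ => ℕ) l3304 l3305 (Nat.ble (nat_lit 3305) i))
noncomputable def t3297_3306 (i : ℕ) : ℕ := (@Bool.rec (fun _ => ℕ) (@Bool.rec (fun _ => ℕ) (@Bool.rec (fun _ => ℕ) l3297 l3298 (Nat.ble (nat_lit 3298) i)) (@Bool.rec (fun _ => ℕ) l3299 l3300 (Nat.ble (nat_lit 3300) i)) (Nat.ble (nat_lit 3299) i)) (@Bool.rec (fun _ => ℕ) (@Bool.rec (fun _ => ℕ) l3301 l3302 (Nat.ble (nat_lit 3302) i)) (@Bool.rec (fun _ => ℕ) l3303 (t3304_3306 i) (Nat.ble (nat_lit 3304) i)) (Nat.ble (nat_lit 3303) i)) (Nat.ble (nat_lit 3301) i))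
noncomputable def t3313_3315 (i : ℕ) : ℕ := (@Bool.rec (fun _ => ℕ) l3313 l3314 (Nat.ble (nat_lit 3314) i))
noncomputable def t3306_3315 (i : ℕ) : ℕ := (@Bool.rec (fun _ => ℕ) (@Bool.rec (fun _ => ℕ) (@Bool.rec (fun _ => ℕ) l3306 l3307 (Nat.ble (nat_lit 3307) i)) (@Bool.rec (fun _ => ℕ) l3308 l3309 (Nat.ble (nat_lit 3309) i)) (Nat.ble (nat_lit 3308) i)) (@Bool.rec (fun _ => ℕ) (@Bool.rec (fun _ => ℕ) l3310 l3311 (Nat.ble (nat_lit 3311) i)) (@Bool.rec (fun _ => ℕ) l3312 (t3313_3315 i) (Nat.ble (nat_lit 3313) i)) (Nat.ble (nat_lit 3312) i)) (Nat.ble (nat_lit 3310) i))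
noncomputable def t3322_3324 (i : ℕ) : ℕ := (@Bool.rec (fun _ => ℕ) l3322 l3323 (Nat.ble (nat_lit 3323) i))
noncomputable def t3315_3324 (i : ℕ) : ℕ := (@Bool.rec (fun _ => ℕ) (@Bool.rec (fun _ => ℕ) (@Bool.rec (fun _ => ℕ) l3315 l3316 (Nat.ble (nat_lit 3316) i)) (@Bool.rec (fun _ => ℕ) l3317 l3318 (Nat.ble (nat_lit 3318) i)) (Nat.ble (nat_lit 3317) i)) (@Bool.rec (fun _ => ℕ) (@Bool.rec (fun _ => ℕ) l3319 l3320 (Nat.ble (nat_lit 3320) i)) (@Bool.rec (fun _ => ℕ) l3321 (t3322_3324 i) (Nat.ble (nat_lit 3322) i)) (Nat.ble (nat_lit 3321) i)) (Nat.ble (nat_lit 3319) i))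
noncomputable def t3327_3329 (i : ℕ) : ℕ := (@Bool.rec (fun _ => ℕ) l3327 l3328 (Nat.ble (nat_lit 3328) i))
noncomputable def t3332_3334 (i : ℕ) : ℕ := (@Bool.rec (fun _ => ℕ) l3332 l3333 (Nat.ble (nat_lit 3333) i))
noncomputable def t3324_3334 (i : ℕ) : ℕ := (@Bool.rec (fun _ => ℕ) (@Bool.rec (fun _ => ℕ) (@Bool.rec (fun _ => ℕ) l3324 l3325 (Nat.ble (nat_lit 3325) i)) (@Bool.rec (fun _ => ℕ) l3326 (t3327_3329 i) (Nat.ble (nat_lit 3327) i)) (Nat.ble (nat_lit 3326) i)) (@Bool.rec (fun _ => ℕ) (@Bool.rec (fun _ => ℕ) l3329 l3330 (Nat.ble (nat_lit 3330) i)) (@Bool.rec (fun _ => ℕ) l3331 (t3332_3334 i) (Nat.ble (nat_lit 3332) i)) (Nat.ble (nat_lit 3331) i)) (Nat.ble (nat_lit 3329) i))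
noncomputable def t3341_3343 (i : ℕ) : ℕ := (@Bool.rec (fun _ => ℕ) l3341 l3342 (Nat.ble (nat_lit 3342) i))
noncomputable def t3334_3343 (i : ℕ) : ℕ := (@Bool.rec (fun _ => ℕ) (@Bool.rec (fun _ => ℕ) (@Bool.rec (fun _ => ℕ) l3334 l3335 (Nat.ble (nat_lit 3335) i)) (@Bool.rec (fun _ => ℕ) l3336 l3337 (Nat.ble (nat_lit 3337) i)) (Nat.ble (nat_lit 3336) i)) (@Bool.rec (fun _ => ℕ) (@Bool.rec (fun _ => ℕ) l3338 l3339 (Nat.ble (nat_lit 3339) i)) (@Bool.rec (fun _ => ℕ) l3340 (t3341_3343 i) (Nat.ble (nat_lit 3341) i)) (Nat.ble (nat_lit 3340) i)) (Nat.ble (nat_lit 3338) i))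
noncomputable def t3346_3348 (i : ℕ) : ℕ := (@Bool.rec (fun _ => ℕ) l3346 l3347 (Nat.ble (nat_lit 3347) i))
noncomputable def t3351_3353 (i : ℕ) : ℕ := (@Bool.rec (fun _ => ℕ) l3351 l3352 (Nat.ble (nat_lit 3352) i))
noncomputable def t3343_3353 (i : ℕ) : ℕ := (@Bool.rec (fun _ => ℕ) (@Bool.rec (fun _ => ℕ) (@Bool.rec (fun _ => ℕ) l3343 l3344 (Nat.ble (nat_lit 3344) i)) (@Bool.rec (fun _ => ℕ) l3345 (t3346_3348 i) (Nat.ble (nat_lit 3346) i)) (Nat.ble (nat_lit 3345) i)) (@Bool.rec (fun _ => ℕ) (@Bool.rec (fun _ => ℕ) l3348 l3349 (Nat.ble (nat_lit 3349) i)) (@Bool.rec (fun _ => ℕ) l3350 (t3351_3353 i) (Nat.ble (nat_lit 3351) i)) (Nat.ble (nat_lit 3350) i)) (Nat.ble (nat_lit 3348) i))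
noncomputable def t3360_3362 (i : ℕ) : ℕ := (@Bool.rec (fun _ => ℕ) l3360 l3361 (Nat.ble (nat_lit 3361) i))
noncomputable def t3353_3362 (i : ℕ) : ℕ := (@Bool.rec (fun _ => ℕ) (@Bool.rec (fun _ => ℕ) (@Bool.rec (fun _ => ℕ) l3353 l3354 (Nat.ble (nat_lit 3354) i)) (@Bool.rec (fun _ => ℕ) l3355 l3356 (Nat.ble (nat_lit 3356) i)) (Nat.ble (nat_lit 3355) i)) (@Bool.rec (fun _ => ℕ) (@Bool.rec (fun _ => ℕ) l3357 l3358 (Nat.ble (nat_lit 3358) i)) (@Bool.rec (fun _ => ℕ) l3359 (t3360_3362 i) (Nat.ble (nat_lit 3360) i)) (Nat.ble (nat_lit 3359) i)) (Nat.ble (nat_lit 3357) i))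
noncomputable def t3365_3367 (i : ℕ) : ℕ := (@Bool.rec (fun _ => ℕ) l3365 l3366 (Nat.ble (nat_lit 3366) i))
noncomputable def t3370_3372 (i : ℕ) : ℕ := (@Bool.rec (fun _ => ℕ) l3370 l3371 (Nat.ble (nat_lit 3371) i))
noncomputable def t3362_3372 (i : ℕ) : ℕ := (@Bool.rec (fun _ => ℕ) (@Bool.rec (fun _ => ℕ) (@Bool.rec (fun _ => ℕ) l3362 l3363 (Nat.ble (nat_lit 3363) i)) (@Bool.rec (fun _ => ℕ) l3364 (t3365_3367 i) (Nat.ble (nat_lit 3365) i)) (Nat.ble (nat_lit 3364) i)) (@Bool.rec (fun _ => ℕ) (@Bool.rec (fun _ => ℕ) l3367 l3368 (Nat.ble (nat_lit 3368) i)) (@Bool.rec (fun _ => ℕ) l3369 (t3370_3372 i) (Nat.ble (nat_lit 3370) i)) (Nat.ble (nat_lit 3369) i)) (Nat.ble (nat_lit 3367) i))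
noncomputable def t3297_3372 (i : ℕ) : ℕ := (@Bool.rec (fun _ => ℕ) (@Bool.rec (fun _ => ℕ) (@Bool.rec (fun _ => ℕ) (t3297_3306 i) (t3306_3315 i) (Nat.ble (nat_lit 3306) i)) (@Bool.rec (fun _ => ℕ) (t3315_3324 i) (t3324_3334 i) (Nat.ble (nat_lit 3324) i)) (Nat.ble (nat_lit 3315) i)) (@Bool.rec (fun _ => ℕ) (@Bool.rec (fun _ => ℕ) (t3334_3343 i) (t3343_3353 i) (Nat.ble (nat_lit 3343) i)) (@Bool.rec (fun _ => ℕ) (t3353_3362 i) (t3362_3372 i) (Nat.ble (nat_lit 3362) i)) (Nat.ble (nat_lit 3353) i)) (Nat.ble (nat_lit 3334) i))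
noncomputable def t3379_3381 (i : ℕ) : ℕ := (@Bool.rec (fun _ => ℕ) l3379 l3380 (Nat.ble (nat_lit 3380) i))
noncomputable def t3372_3381 (i : ℕ) : ℕ := (@Bool.rec (fun _ => ℕ) (@Bool.rec (fun _ => ℕ) (@Bool.rec (fun _ => ℕ) l3372 l3373 (Nat.ble (nat_lit 3373) i)) (@Bool.rec (fun _ => ℕ) l3374 l3375 (Nat.ble (nat_lit 3375) i)) (Nat.ble (nat_lit 3374) i)) (@Bool.rec (fun _ => ℕ) (@Bool.rec (fun _ => ℕ) l3376 l3377 (Nat.ble (nat_lit 3377) i)) (@Bool.rec (fun _ => ℕ) l3378 (t3379_3381 i) (Nat.ble (nat_lit 3379) i)) (Nat.ble (nat_lit 3378) i)) (Nat.ble (nat_lit 3376) i))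
noncomputable def t3388_3390 (i : ℕ) : ℕ := (@Bool.rec (fun _ => ℕ) l3388 l3389 (Nat.ble (nat_lit 3389) i))
noncomputable def t3381_3390 (i : ℕ) : ℕ := (@Bool.rec (fun _ => ℕ) (@Bool.rec (fun _ => ℕ) (@Bool.rec (fun _ => ℕ) l3381 l3382 (Nat.ble (nat_lit 3382) i)) (@Bool.rec (fun _ => ℕ) l3383 l3384 (Nat.ble (nat_lit 3384) i)) (Nat.ble (nat_lit 3383) i)) (@Bool.rec (fun _ => ℕ) (@Bool.rec (fun _ => ℕ) l3385 l3386 (Nat.ble (nat_lit 3386) i)) (@Bool.rec (fun _ => ℕ) l3387 (t3388_3390 i) (Nat.ble (nat_lit 3388) i)) (Nat.ble (nat_lit 3387) i)) (Nat.ble (nat_lit 3385) i))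
noncomputable def t3397_3399 (i : ℕ) : ℕ := (@Bool.rec (fun _ => ℕ) l3397 l3398 (Nat.ble (nat_lit 3398) i))
noncomputable def t3390_3399 (i : ℕ) : ℕ := (@Bool.rec (fun _ => ℕ) (@Bool.rec (fun _ => ℕ) (@Bool.rec (fun _ => ℕ) l3390 l3391 (Nat.ble (nat_lit 3391) i)) (@Bool.rec (fun _ => ℕ) l3392 l3393 (Nat.ble (nat_lit 3393) i)) (Nat.ble (nat_lit 3392) i)) (@Bool.rec (fun _ => ℕ) (@Bool.rec (fun _ => ℕ) l3394 l3395 (Nat.ble (nat_lit 3395) i)) (@Bool.rec (fun _ => ℕ) l3396 (t3397_3399 i) (Nat.ble (nat_lit 3397) i)) (Nat.ble (nat_lit 3396) i)) (Nat.ble (nat_lit 3394) i))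
noncomputable def t3402_3404 (i : ℕ) : ℕ := (@Bool.rec (fun _ => ℕ) l3402 l3403 (Nat.ble (nat_lit 3403) i))
noncomputable def t3407_3409 (i : ℕ) : ℕ := (@Bool.rec (fun _ => ℕ) l3407 l3408 (Nat.ble (nat_lit 3408) i))
noncomputable def t3399_3409 (i : ℕ) : ℕ := (@Bool.rec (fun _ => ℕ) (@Bool.rec (fun _ => ℕ) (@Bool.rec (fun _ => ℕ) l3399 l3400 (Nat.ble (nat_lit 3400) i)) (@Bool.rec (fun _ => ℕ) l3401 (t3402_3404 i) (Nat.ble (nat_lit 3402) i)) (Nat.ble (nat_lit 3401) i)) (@Bool.rec (fun _ => ℕ) (@Bool.rec (fun _ => ℕ) l3404 l3405 (Nat.ble (nat_lit 3405) i)) (@Bool.rec (fun _ => ℕ) l3406 (t3407_3409 i) (Nat.ble (nat_lit 3407) i)) (Nat.ble (nat_lit 3406) i)) (Nat.ble (nat_lit 3404) i))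
noncomputable def t3416_3418 (i : ℕ) : ℕ := (@Bool.rec (fun _ => ℕ) l3416 l3417 (Nat.ble (nat_lit 3417) i))
noncomputable def t3409_3418 (i : ℕ) : ℕ := (@Bool.rec (fun _ => ℕ) (@Bool.rec (fun _ => ℕ) (@Bool.rec (fun _ => ℕ) l3409 l3410 (Nat.ble (nat_lit 3410) i)) (@Bool.rec (fun _ => ℕ) l3411 l3412 (Nat.ble (nat_lit 3412) i)) (Nat.ble (nat_lit 3411) i)) (@Bool.rec (fun _ => ℕ) (@Bool.rec (fun _ => ℕ) l3413 l3414 (Nat.ble (nat_lit 3414) i)) (@Bool.rec (fun _ => ℕ) l3415 (t3416_3418 i) (Nat.ble (nat_lit 3416) i)) (Nat.ble (nat_lit 3415) i)) (Nat.ble (nat_lit 3413) i))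
noncomputable def t3421_3423 (i : ℕ) : ℕ := (@Bool.rec (fun _ => ℕ) l3421 l3422 (Nat.ble (nat_lit 3422) i))
noncomputable def t3426_3428 (i : ℕ) : ℕ := (@Bool.rec (fun _ => ℕ) l3426 l3427 (Nat.ble (nat_lit 3427) i))
noncomputable def t3418_3428 (i : ℕ) : ℕ := (@Bool.rec (fun _ => ℕ) (@Bool.rec (fun _ => ℕ) (@Bool.rec (fun _ => ℕ) l3418 l3419 (Nat.ble (nat_lit 3419) i)) (@Bool.rec (fun _ => ℕ) l3420 (t3421_3423 i) (Nat.ble (nat_lit 3421) i)) (Nat.ble (nat_lit 3420) i)) (@Bool.rec (fun _ => ℕ) (@Bool.rec (fun _ => ℕ) l3423 l3424 (Nat.ble (nat_lit 3424) i)) (@Bool.rec (fun _ => ℕ) l3425 (t3426_3428 i) (Nat.ble (nat_lit 3426) i)) (Nat.ble (nat_lit 3425) i)) (Nat.ble (nat_lit 3423) i))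
noncomputable def t3435_3437 (i : ℕ) : ℕ := (@Bool.rec (fun _ => ℕ) l3435 l3436 (Nat.ble (nat_lit 3436) i))
noncomputable def t3428_3437 (i : ℕ) : ℕ := (@Bool.rec (fun _ => ℕ) (@Bool.rec (fun _ => ℕ) (@Bool.rec (fun _ => ℕ) l3428 l3429 (Nat.ble (nat_lit 3429) i)) (@Bool.rec (fun _ => ℕ) l3430 l3431 (Nat.ble (nat_lit 3431) i)) (Nat.ble (nat_lit 3430) i)) (@Bool.rec (fun _ => ℕ) (@Bool.rec (fun _ => ℕ) l3432 l3433 (Nat.ble (nat_lit 3433) i)) (@Bool.rec (fun _ => ℕ) l3434 (t3435_3437 i) (Nat.ble (nat_lit 3435) i)) (Nat.ble (nat_lit 3434) i)) (Nat.ble (nat_lit 3432) i))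
noncomputable def t3440_3442 (i : ℕ) : ℕ := (@Bool.rec (fun _ => ℕ) l3440 l3441 (Nat.ble (nat_lit 3441) i))
noncomputable def t3445_3447 (i : ℕ) : ℕ := (@Bool.rec (fun _ => ℕ) l3445 l3446 (Nat.ble (nat_lit 3446) i))
noncomputable def t3437_3447 (i : ℕ) : ℕ := (@Bool.rec (fun _ => ℕ) (@Bool.rec (fun _ => ℕ) (@Bool.rec (fun _ => ℕ) l3437 l3438 (Nat.ble (nat_lit 3438) i)) (@Bool.rec (fun _ => ℕ) l3439 (t3440_3442 i) (Nat.ble (nat_lit 3440) i)) (Nat.ble (nat_lit 3439) i)) (@Bool.rec (fun _ => ℕ) (@Bool.rec (fun _ => ℕ) l3442 l3443 (Nat.ble (nat_lit 3443) i)) (@Bool.rec (fun _ => ℕ) l3444 (t3445_3447 i) (Nat.ble (nat_lit 3445) i)) (Nat.ble (nat_lit 3444) i)) (Nat.ble (nat_lit 3442) i))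
noncomputable def t3372_3447 (i : ℕ) : ℕ := (@Bool.rec (fun _ => ℕ) (@Bool.rec (fun _ => ℕ) (@Bool.rec (fun _ => ℕ) (t3372_3381 i) (t3381_3390 i) (Nat.ble (nat_lit 3381) i)) (@Bool.rec (fun _ => ℕ) (t3390_3399 i) (t3399_3409 i) (Nat.ble (nat_lit 3399) i)) (Nat.ble (nat_lit 3390) i)) (@Bool.rec (fun _ => ℕ) (@Bool.rec (fun _ => ℕ) (t3409_3418 i) (t3418_3428 i) (Nat.ble (nat_lit 3418) i)) (@Bool.rec (fun _ => ℕ) (t3428_3437 i) (t3437_3447 i) (Nat.ble (nat_lit 3437) i)) (Nat.ble (nat_lit 3428) i)) (Nat.ble (nat_lit 3409) i))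
noncomputable def t3454_3456 (i : ℕ) : ℕ := (@Bool.rec (fun _ => ℕ) l3454 l3455 (Nat.ble (nat_lit 3455) i))
noncomputable def t3447_3456 (i : ℕ) : ℕ := (@Bool.rec (fun _ => ℕ) (@Bool.rec (fun _ => ℕ) (@Bool.rec (fun _ => ℕ) l3447 l3448 (Nat.ble (nat_lit 3448) i)) (@Bool.rec (fun _ => ℕ) l3449 l3450 (Nat.ble (nat_lit 3450) i)) (Nat.ble (nat_lit 3449) i)) (@Bool.rec (fun _ => ℕ) (@Bool.rec (fun _ => ℕ) l3451 l3452 (Nat.ble (nat_lit 3452) i)) (@Bool.rec (fun _ => ℕ) l3453 (t3454_3456 i) (Nat.ble (nat_lit 3454) i)) (Nat.ble (nat_lit 3453) i)) (Nat.ble (nat_lit 3451) i))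
noncomputable def t3463_3465 (i : ℕ) : ℕ := (@Bool.rec (fun _ => ℕ) l3463 l3464 (Nat.ble (nat_lit 3464) i))
noncomputable def t3456_3465 (i : ℕ) : ℕ := (@Bool.rec (fun _ => ℕ) (@Bool.rec (fun _ => ℕ) (@Bool.rec (fun _ => ℕ) l3456 l3457 (Nat.ble (nat_lit 3457) i)) (@Bool.rec (fun _ => ℕ) l3458 l3459 (Nat.ble (nat_lit 3459) i)) (Nat.ble (nat_lit 3458) i)) (@Bool.rec (fun _ => ℕ) (@Bool.rec (fun _ => ℕ) l3460 l3461 (Nat.ble (nat_lit 3461) i)) (@Bool.rec (fun _ => ℕ) l3462 (t3463_3465 i) (Nat.ble (nat_lit 3463) i)) (Nat.ble (nat_lit 3462) i)) (Nat.ble (nat_lit 3460) i))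
noncomputable def t3472_3474 (i : ℕ) : ℕ := (@Bool.rec (fun _ => ℕ) l3472 l3473 (Nat.ble (nat_lit 3473) i))
noncomputable def t3465_3474 (i : ℕ) : ℕ := (@Bool.rec (fun _ => ℕ) (@Bool.rec (fun _ => ℕ) (@Bool.rec (fun _ => ℕ) l3465 l3466 (Nat.ble (nat_lit 3466) i)) (@Bool.rec (fun _ => ℕ) l3467 l3468 (Nat.ble (nat_lit 3468) i)) (Nat.ble (nat_lit 3467) i)) (@Bool.rec (fun _ => ℕ) (@Bool.rec (fun _ => ℕ) l3469 l3470 (Nat.ble (nat_lit 3470) i)) (@Bool.rec (fun _ => ℕ) l3471 (t3472_3474 i) (Nat.ble (nat_lit 3472) i)) (Nat.ble (nat_lit 3471) i)) (Nat.ble (nat_lit 3469) i))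
noncomputable def t3477_3479 (i : ℕ) : ℕ := (@Bool.rec (fun _ => ℕ) l3477 l3478 (Nat.ble (nat_lit 3478) i))
noncomputable def t3482_3484 (i : ℕ) : ℕ := (@Bool.rec (fun _ => ℕ) l3482 l3483 (Nat.ble (nat_lit 3483) i))
noncomputable def t3474_3484 (i : ℕ) : ℕ := (@Bool.rec (fun _ => ℕ) (@Bool.rec (fun _ => ℕ) (@Bool.rec (fun _ => ℕ) l3474 l3475 (Nat.ble (nat_lit 3475) i)) (@Bool.rec (fun _ => ℕ) l3476 (t3477_3479 i) (Nat.ble (nat_lit 3477) i)) (Nat.ble (nat_lit 3476) i)) (@Bool.rec (fun _ => ℕ) (@Bool.rec (fun _ => ℕ) l3479 l3480 (Nat.ble (nat_lit 3480) i)) (@Bool.rec (fun _ => ℕ) l3481 (t3482_3484 i) (Nat.ble (nat_lit 3482) i)) (Nat.ble (nat_lit 3481) i)) (Nat.ble (nat_lit 3479) i))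
noncomputable def t3491_3493 (i : ℕ) : ℕ := (@Bool.rec (fun _ => ℕ) l3491 l3492 (Nat.ble (nat_lit 3492) i))
noncomputable def t3484_3493 (i : ℕ) : ℕ := (@Bool.rec (fun _ => ℕ) (@Bool.rec (fun _ => ℕ) (@Bool.rec (fun _ => ℕ) l3484 l3485 (Nat.ble (nat_lit 3485) i)) (@Bool.rec (fun _ => ℕ) l3486 l3487 (Nat.ble (nat_lit 3487) i)) (Nat.ble (nat_lit 3486) i)) (@Bool.rec (fun _ => ℕ) (@Bool.rec (fun _ => ℕ) l3488 l3489 (Nat.ble (nat_lit 3489) i)) (@Bool.rec (fun _ => ℕ) l3490 (t3491_3493 i) (Nat.ble (nat_lit 3491) i)) (Nat.ble (nat_lit 3490) i)) (Nat.ble (nat_lit 3488) i))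
noncomputable def t3496_3498 (i : ℕ) : ℕ := (@Bool.rec (fun _ => ℕ) l3496 l3497 (Nat.ble (nat_lit 3497) i))
noncomputable def t3501_3503 (i : ℕ) : ℕ := (@Bool.rec (fun _ => ℕ) l3501 l3502 (Nat.ble (nat_lit 3502) i))
noncomputable def t3493_3503 (i : ℕ) : ℕ := (@Bool.rec (fun _ => ℕ) (@Bool.rec (fun _ => ℕ) (@Bool.rec (fun _ => ℕ) l3493 l3494 (Nat.ble (nat_lit 3494) i)) (@Bool.rec (fun _ => ℕ) l3495 (t3496_3498 i) (Nat.ble (nat_lit 3496) i)) (Nat.ble (nat_lit 3495) i)) (@Bool.rec (fun _ => ℕ) (@Bool.rec (fun _ => ℕ) l3498 l3499 (Nat.ble (nat_lit 3499) i)) (@Bool.rec (fun _ => ℕ) l3500 (t3501_3503 i) (Nat.ble (nat_lit 3501) i)) (Nat.ble (nat_lit 3500) i)) (Nat.ble (nat_lit 3498) i))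
noncomputable def t3510_3512 (i : ℕ) : ℕ := (@Bool.rec (fun _ => ℕ) l3510 l3511 (Nat.ble (nat_lit 3511) i))
noncomputable def t3503_3512 (i : ℕ) : ℕ := (@Bool.rec (fun _ => ℕ) (@Bool.rec (fun _ => ℕ) (@Bool.rec (fun _ => ℕ) l3503 l3504 (Nat.ble (nat_lit 3504) i)) (@Bool.rec (fun _ => ℕ) l3505 l3506 (Nat.ble (nat_lit 3506) i)) (Nat.ble (nat_lit 3505) i)) (@Bool.rec (fun _ => ℕ) (@Bool.rec (fun _ => ℕ) l3507 l3508 (Nat.ble (nat_lit 3508) i)) (@Bool.rec (fun _ => ℕ) l3509 (t3510_3512 i) (Nat.ble (nat_lit 3510) i)) (Nat.ble (nat_lit 3509) i)) (Nat.ble (nat_lit 3507) i))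
noncomputable def t3515_3517 (i : ℕ) : ℕ := (@Bool.rec (fun _ => ℕ) l3515 l3516 (Nat.ble (nat_lit 3516) i))
noncomputable def t3520_3522 (i : ℕ) : ℕ := (@Bool.rec (fun _ => ℕ) l3520 l3521 (Nat.ble (nat_lit 3521) i))
noncomputable def t3512_3522 (i : ℕ) : ℕ := (@Bool.rec (fun _ => ℕ) (@Bool.rec (fun _ => ℕ) (@Bool.rec (fun _ => ℕ) l3512 l3513 (Nat.ble (nat_lit 3513) i)) (@Bool.rec (fun _ => ℕ) l3514 (t3515_3517 i) (Nat.ble (nat_lit 3515) i)) (Nat.ble (nat_lit 3514) i)) (@Bool.rec (fun _ => ℕ) (@Bool.rec (fun _ => ℕ) l3517 l3518 (Nat.ble (nat_lit 3518) i)) (@Bool.rec (fun _ => ℕ) l3519 (t3520_3522 i) (Nat.ble (nat_lit 3520) i)) (Nat.ble (nat_lit 3519) i)) (Nat.ble (nat_lit 3517) i))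
noncomputable def t3447_3522 (i : ℕ) : ℕ := (@Bool.rec (fun _ => ℕ) (@Bool.rec (fun _ => ℕ) (@Bool.rec (fun _ => ℕ) (t3447_3456 i) (t3456_3465 i) (Nat.ble (nat_lit 3456) i)) (@Bool.rec (fun _ => ℕ) (t3465_3474 i) (t3474_3484 i) (Nat.ble (nat_lit 3474) i)) (Nat.ble (nat_lit 3465) i)) (@Bool.rec (fun _ => ℕ) (@Bool.rec (fun _ => ℕ) (t3484_3493 i) (t3493_3503 i) (Nat.ble (nat_lit 3493) i)) (@Bool.rec (fun _ => ℕ) (t3503_3512 i) (t3512_3522 i) (Nat.ble (nat_lit 3512) i)) (Nat.ble (nat_lit 3503) i)) (Nat.ble (nat_lit 3484) i))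
noncomputable def t3529_3531 (i : ℕ) : ℕ := (@Bool.rec (fun _ => ℕ) l3529 l3530 (Nat.ble (nat_lit 3530) i))
noncomputable def t3522_3531 (i : ℕ) : ℕ := (@Bool.rec (fun _ => ℕ) (@Bool.rec (fun _ => ℕ) (@Bool.rec (fun _ => ℕ) l3522 l3523 (Nat.ble (nat_lit 3523) i)) (@Bool.rec (fun _ => ℕ) l3524 l3525 (Nat.ble (nat_lit 3525) i)) (Nat.ble (nat_lit 3524) i)) (@Bool.rec (fun _ => ℕ) (@Bool.rec (fun _ => ℕ) l3526 l3527 (Nat.ble (nat_lit 3527) i)) (@Bool.rec (fun _ => ℕ) l3528 (t3529_3531 i) (Nat.ble (nat_lit 3529) i)) (Nat.ble (nat_lit 3528) i)) (Nat.ble (nat_lit 3526) i))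
noncomputable def t3538_3540 (i : ℕ) : ℕ := (@Bool.rec (fun _ => ℕ) l3538 l3539 (Nat.ble (nat_lit 3539) i))
noncomputable def t3531_3540 (i : ℕ) : ℕ := (@Bool.rec (fun _ => ℕ) (@Bool.rec (fun _ => ℕ) (@Bool.rec (fun _ => ℕ) l3531 l3532 (Nat.ble (nat_lit 3532) i)) (@Bool.rec (fun _ => ℕ) l3533 l3534 (Nat.ble (nat_lit 3534) i)) (Nat.ble (nat_lit 3533) i)) (@Bool.rec (fun _ => ℕ) (@Bool.rec (fun _ => ℕ) l3535 l3536 (Nat.ble (nat_lit 3536) i)) (@Bool.rec (fun _ => ℕ) l3537 (t3538_3540 i) (Nat.ble (nat_lit 3538) i)) (Nat.ble (nat_lit 3537) i)) (Nat.ble (nat_lit 3535) i))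
noncomputable def t3547_3549 (i : ℕ) : ℕ := (@Bool.rec (fun _ => ℕ) l3547 l3548 (Nat.ble (nat_lit 3548) i))
noncomputable def t3540_3549 (i : ℕ) : ℕ := (@Bool.rec (fun _ => ℕ) (@Bool.rec (fun _ => ℕ) (@Bool.rec (fun _ => ℕ) l3540 l3541 (Nat.ble (nat_lit 3541) i)) (@Bool.rec (fun _ => ℕ) l3542 l3543 (Nat.ble (nat_lit 3543) i)) (Nat.ble (nat_lit 3542) i)) (@Bool.rec (fun _ => ℕ) (@Bool.rec (fun _ => ℕ) l3544 l3545 (Nat.ble (nat_lit 3545) i)) (@Bool.rec (fun _ => ℕ) l3546 (t3547_3549 i) (Nat.ble (nat_lit 3547) i)) (Nat.ble (nat_lit 3546) i)) (Nat.ble (nat_lit 3544) i))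
noncomputable def t3552_3554 (i : ℕ) : ℕ := (@Bool.rec (fun _ => ℕ) l3552 l3553 (Nat.ble (nat_lit 3553) i))
noncomputable def t3557_3559 (i : ℕ) : ℕ := (@Bool.rec (fun _ => ℕ) l3557 l3558 (Nat.ble (nat_lit 3558) i))
noncomputable def t3549_3559 (i : ℕ) : ℕ := (@Bool.rec (fun _ => ℕ) (@Bool.rec (fun _ => ℕ) (@Bool.rec (fun _ => ℕ) l3549 l3550 (Nat.ble (nat_lit 3550) i)) (@Bool.rec (fun _ => ℕ) l3551 (t3552_3554 i) (Nat.ble (nat_lit 3552) i)) (Nat.ble (nat_lit 3551) i)) (@Bool.rec (fun _ => ℕ) (@Bool.rec (fun _ => ℕ) l3554 l3555 (Nat.ble (nat_lit 3555) i)) (@Bool.rec (fun _ => ℕ) l3556 (t3557_3559 i) (Nat.ble (nat_lit 3557) i)) (Nat.ble (nat_lit 3556) i)) (Nat.ble (nat_lit 3554) i))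
noncomputable def t3566_3568 (i : ℕ) : ℕ := (@Bool.rec (fun _ => ℕ) l3566 l3567 (Nat.ble (nat_lit 3567) i))
noncomputable def t3559_3568 (i : ℕ) : ℕ := (@Bool.rec (fun _ => ℕ) (@Bool.rec (fun _ => ℕ) (@Bool.rec (fun _ => ℕ) l3559 l3560 (Nat.ble (nat_lit 3560) i)) (@Bool.rec (fun _ => ℕ) l3561 l3562 (Nat.ble (nat_lit 3562) i)) (Nat.ble (nat_lit 3561) i)) (@Bool.rec (fun _ => ℕ) (@Bool.rec (fun _ => ℕ) l3563 l3564 (Nat.ble (nat_lit 3564) i)) (@Bool.rec (fun _ => ℕ) l3565 (t3566_3568 i) (Nat.ble (nat_lit 3566) i)) (Nat.ble (nat_lit 3565) i)) (Nat.ble (nat_lit 3563) i))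
noncomputable def t3571_3573 (i : ℕ) : ℕ := (@Bool.rec (fun _ => ℕ) l3571 l3572 (Nat.ble (nat_lit 3572) i))
noncomputable def t3576_3578 (i : ℕ) : ℕ := (@Bool.rec (fun _ => ℕ) l3576 l3577 (Nat.ble (nat_lit 3577) i))
noncomputable def t3568_3578 (i : ℕ) : ℕ := (@Bool.rec (fun _ => ℕ) (@Bool.rec (fun _ => ℕ) (@Bool.rec (fun _ => ℕ) l3568 l3569 (Nat.ble (nat_lit 3569) i)) (@Bool.rec (fun _ => ℕ) l3570 (t3571_3573 i) (Nat.ble (nat_lit 3571) i)) (Nat.ble (nat_lit 3570) i)) (@Bool.rec (fun _ => ℕ) (@Bool.rec (fun _ => ℕ) l3573 l3574 (Nat.ble (nat_lit 3574) i)) (@Bool.rec (fun _ => ℕ) l3575 (t3576_3578 i) (Nat.ble (nat_lit 3576) i)) (Nat.ble (nat_lit 3575) i)) (Nat.ble (nat_lit 3573) i))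
noncomputable def t3585_3587 (i : ℕ) : ℕ := (@Bool.rec (fun _ => ℕ) l3585 l3586 (Nat.ble (nat_lit 3586) i))
noncomputable def t3578_3587 (i : ℕ) : ℕ := (@Bool.rec (fun _ => ℕ) (@Bool.rec (fun _ => ℕ) (@Bool.rec (fun _ => ℕ) l3578 l3579 (Nat.ble (nat_lit 3579) i)) (@Bool.rec (fun _ => ℕ) l3580 l3581 (Nat.ble (nat_lit 3581) i)) (Nat.ble (nat_lit 3580) i)) (@Bool.rec (fun _ => ℕ) (@Bool.rec (fun _ => ℕ) l3582 l3583 (Nat.ble (nat_lit 3583) i)) (@Bool.rec (fun _ => ℕ) l3584 (t3585_3587 i) (Nat.ble (nat_lit 3585) i)) (Nat.ble (nat_lit 3584) i)) (Nat.ble (nat_lit 3582) i))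
noncomputable def t3590_3592 (i : ℕ) : ℕ := (@Bool.rec (fun _ => ℕ) l3590 l3591 (Nat.ble (nat_lit 3591) i))
noncomputable def t3595_3597 (i : ℕ) : ℕ := (@Bool.rec (fun _ => ℕ) l3595 l3596 (Nat.ble (nat_lit 3596) i))
noncomputable def t3587_3597 (i : ℕ) : ℕ := (@Bool.rec (fun _ => ℕ) (@Bool.rec (fun _ => ℕ) (@Bool.rec (fun _ => ℕ) l3587 l3588 (Nat.ble (nat_lit 3588) i)) (@Bool.rec (fun _ => ℕ) l3589 (t3590_3592 i) (Nat.ble (nat_lit 3590) i)) (Nat.ble (nat_lit 3589) i)) (@Bool.rec (fun _ => ℕ) (@Bool.rec (fun _ => ℕ) l3592 l3593 (Nat.ble (nat_lit 3593) i)) (@Bool.rec (fun _ => ℕ) l3594 (t3595_3597 i) (Nat.ble (nat_lit 3595) i)) (Nat.ble (nat_lit 3594) i)) (Nat.ble (nat_lit 3592) i))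
noncomputable def t3522_3597 (i : ℕ) : ℕ := (@Bool.rec (fun _ => ℕ) (@Bool.rec (fun _ => ℕ) (@Bool.rec (fun _ => ℕ) (t3522_3531 i) (t3531_3540 i) (Nat.ble (nat_lit 3531) i)) (@Bool.rec (fun _ => ℕ) (t3540_3549 i) (t3549_3559 i) (Nat.ble (nat_lit 3549) i)) (Nat.ble (nat_lit 3540) i)) (@Bool.rec (fun _ => ℕ) (@Bool.rec (fun _ => ℕ) (t3559_3568 i) (t3568_3578 i) (Nat.ble (nat_lit 3568) i)) (@Bool.rec (fun _ => ℕ) (t3578_3587 i) (t3587_3597 i) (Nat.ble (nat_lit 3587) i)) (Nat.ble (nat_lit 3578) i)) (Nat.ble (nat_lit 3559) i))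
noncomputable def t2997_3597 (i : ℕ) : ℕ := (@Bool.rec (fun _ => ℕ) (@Bool.rec (fun _ => ℕ) (@Bool.rec (fun _ => ℕ) (t2997_3072 i) (t3072_3147 i) (Nat.ble (nat_lit 3072) i)) (@Bool.rec (fun _ => ℕ) (t3147_3222 i) (t3222_3297 i) (Nat.ble (nat_lit 3222) i)) (Nat.ble (nat_lit 3147) i)) (@Bool.rec (fun _ => ℕ) (@Bool.rec (fun _ => ℕ) (t3297_3372 i) (t3372_3447 i) (Nat.ble (nat_lit 3372) i)) (@Bool.rec (fun _ => ℕ) (t3447_3522 i) (t3522_3597 i) (Nat.ble (nat_lit 3522) i)) (Nat.ble (nat_lit 3447) i)) (Nat.ble (nat_lit 3297) i))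
noncomputable def t3604_3606 (i : ℕ) : ℕ := (@Bool.rec (fun _ => ℕ) l3604 l3605 (Nat.ble (nat_lit 3605) i))
noncomputable def t3597_3606 (i : ℕ) : ℕ := (@Bool.rec (fun _ => ℕ) (@Bool.rec (fun _ => ℕ) (@Bool.rec (fun _ => ℕ) l3597 l3598 (Nat.ble (nat_lit 3598) i)) (@Bool.rec (fun _ => ℕ) l3599 l3600 (Nat.ble (nat_lit 3600) i)) (Nat.ble (nat_lit 3599) i)) (@Bool.rec (fun _ => ℕ) (@Bool.rec (fun _ => ℕ) l3601 l3602 (Nat.ble (nat_lit 3602) i)) (@Bool.rec (fun _ => ℕ) l3603 (t3604_3606 i) (Nat.ble (nat_lit 3604) i)) (Nat.ble (nat_lit 3603) i)) (Nat.ble (nat_lit 3601) i))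
noncomputable def t3613_3615 (i : ℕ) : ℕ := (@Bool.rec (fun _ => ℕ) l3613 l3614 (Nat.ble (nat_lit 3614) i))
noncomputable def t3606_3615 (i : ℕ) : ℕ := (@Bool.rec (fun _ => ℕ) (@Bool.rec (fun _ => ℕ) (@Bool.rec (fun _ => ℕ) l3606 l3607 (Nat.ble (nat_lit 3607) i)) (@Bool.rec (fun _ => ℕ) l3608 l3609 (Nat.ble (nat_lit 3609) i)) (Nat.ble (nat_lit 3608) i)) (@Bool.rec (fun _ => ℕ) (@Bool.rec (fun _ => ℕ) l3610 l3611 (Nat.ble (nat_lit 3611) i)) (@Bool.rec (fun _ => ℕ) l3612 (t3613_3615 i) (Nat.ble (nat_lit 3613) i)) (Nat.ble (nat_lit 3612) i)) (Nat.ble (nat_lit 3610) i))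
noncomputable def t3622_3624 (i : ℕ) : ℕ := (@Bool.rec (fun _ => ℕ) l3622 l3623 (Nat.ble (nat_lit 3623) i))
noncomputable def t3615_3624 (i : ℕ) : ℕ := (@Bool.rec (fun _ => ℕ) (@Bool.rec (fun _ => ℕ) (@Bool.rec (fun _ => ℕ) l3615 l3616 (Nat.ble (nat_lit 3616) i)) (@Bool.rec (fun _ => ℕ) l3617 l3618 (Nat.ble (nat_lit 3618) i)) (Nat.ble (nat_lit 3617) i)) (@Bool.rec (fun _ => ℕ) (@Bool.rec (fun _ => ℕ) l3619 l3620 (Nat.ble (nat_lit 3620) i)) (@Bool.rec (fun _ => ℕ) l3621 (t3622_3624 i) (Nat.ble (nat_lit 3622) i)) (Nat.ble (nat_lit 3621) i)) (Nat.ble (nat_lit 3619) i))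
noncomputable def t3627_3629 (i : ℕ) : ℕ := (@Bool.rec (fun _ => ℕ) l3627 l3628 (Nat.ble (nat_lit 3628) i))
noncomputable def t3632_3634 (i : ℕ) : ℕ := (@Bool.rec (fun _ => ℕ) l3632 l3633 (Nat.ble (nat_lit 3633) i))
noncomputable def t3624_3634 (i : ℕ) : ℕ := (@Bool.rec (fun _ => ℕ) (@Bool.rec (fun _ => ℕ) (@Bool.rec (fun _ => ℕ) l3624 l3625 (Nat.ble (nat_lit 3625) i)) (@Bool.rec (fun _ => ℕ) l3626 (t3627_3629 i) (Nat.ble (nat_lit 3627) i)) (Nat.ble (nat_lit 3626) i)) (@Bool.rec (fun _ => ℕ) (@Bool.rec (fun _ => ℕ) l3629 l3630 (Nat.ble (nat_lit 3630) i)) (@Bool.rec (fun _ => ℕ) l3631 (t3632_3634 i) (Nat.ble (nat_lit 3632) i)) (Nat.ble (nat_lit 3631) i)) (Nat.ble (nat_lit 3629) i))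
noncomputable def t3641_3643 (i : ℕ) : ℕ := (@Bool.rec (fun _ => ℕ) l3641 l3642 (Nat.ble (nat_lit 3642) i))
noncomputable def t3634_3643 (i : ℕ) : ℕ := (@Bool.rec (fun _ => ℕ) (@Bool.rec (fun _ => ℕ) (@Bool.rec (fun _ => ℕ) l3634 l3635 (Nat.ble (nat_lit 3635) i)) (@Bool.rec (fun _ => ℕ) l3636 l3637 (Nat.ble (nat_lit 3637) i)) (Nat.ble (nat_lit 3636) i)) (@Bool.rec (fun _ => ℕ) (@Bool.rec (fun _ => ℕ) l3638 l3639 (Nat.ble (nat_lit 3639) i)) (@Bool.rec (fun _ => ℕ) l3640 (t3641_3643 i) (Nat.ble (nat_lit 3641) i)) (Nat.ble (nat_lit 3640) i)) (Nat.ble (nat_lit 3638) i))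
noncomputable def t3650_3652 (i : ℕ) : ℕ := (@Bool.rec (fun _ => ℕ) l3650 l3651 (Nat.ble (nat_lit 3651) i))
noncomputable def t3643_3652 (i : ℕ) : ℕ := (@Bool.rec (fun _ => ℕ) (@Bool.rec (fun _ => ℕ) (@Bool.rec (fun _ => ℕ) l3643 l3644 (Nat.ble (nat_lit 3644) i)) (@Bool.rec (fun _ => ℕ) l3645 l3646 (Nat.ble (nat_lit 3646) i)) (Nat.ble (nat_lit 3645) i)) (@Bool.rec (fun _ => ℕ) (@Bool.rec (fun _ => ℕ) l3647 l3648 (Nat.ble (nat_lit 3648) i)) (@Bool.rec (fun _ => ℕ) l3649 (t3650_3652 i) (Nat.ble (nat_lit 3650) i)) (Nat.ble (nat_lit 3649) i)) (Nat.ble (nat_lit 3647) i))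
noncomputable def t3659_3661 (i : ℕ) : ℕ := (@Bool.rec (fun _ => ℕ) l3659 l3660 (Nat.ble (nat_lit 3660) i))
noncomputable def t3652_3661 (i : ℕ) : ℕ := (@Bool.rec (fun _ => ℕ) (@Bool.rec (fun _ => ℕ) (@Bool.rec (fun _ => ℕ) l3652 l3653 (Nat.ble (nat_lit 3653) i)) (@Bool.rec (fun _ => ℕ) l3654 l3655 (Nat.ble (nat_lit 3655) i)) (Nat.ble (nat_lit 3654) i)) (@Bool.rec (fun _ => ℕ) (@Bool.rec (fun _ => ℕ) l3656 l3657 (Nat.ble (nat_lit 3657) i)) (@Bool.rec (fun _ => ℕ) l3658 (t3659_3661 i) (Nat.ble (nat_lit 3659) i)) (Nat.ble (nat_lit 3658) i)) (Nat.ble (nat_lit 3656) i))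
noncomputable def t3664_3666 (i : ℕ) : ℕ := (@Bool.rec (fun _ => ℕ) l3664 l3665 (Nat.ble (nat_lit 3665) i))
noncomputable def t3669_3671 (i : ℕ) : ℕ := (@Bool.rec (fun _ => ℕ) l3669 l3670 (Nat.ble (nat_lit 3670) i))
noncomputable def t3661_3671 (i : ℕ) : ℕ := (@Bool.rec (fun _ => ℕ) (@Bool.rec (fun _ => ℕ) (@Bool.rec (fun _ => ℕ) l3661 l3662 (Nat.ble (nat_lit 3662) i)) (@Bool.rec (fun _ => ℕ) l3663 (t3664_3666 i) (Nat.ble (nat_lit 3664) i)) (Nat.ble (nat_lit 3663) i)) (@Bool.rec (fun _ => ℕ) (@Bool.rec (fun _ => ℕ) l3666 l3667 (Nat.ble (nat_lit 3667) i)) (@Bool.rec (fun _ => ℕ) l3668 (t3669_3671 i) (Nat.ble (nat_lit 3669) i)) (Nat.ble (nat_lit 3668) i)) (Nat.ble (nat_lit 3666) i))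
noncomputable def t3597_3671 (i : ℕ) : ℕ := (@Bool.rec (fun _ => ℕ) (@Bool.rec (fun _ => ℕ) (@Bool.rec (fun _ => ℕ) (t3597_3606 i) (t3606_3615 i) (Nat.ble (nat_lit 3606) i)) (@Bool.rec (fun _ => ℕ) (t3615_3624 i) (t3624_3634 i) (Nat.ble (nat_lit 3624) i)) (Nat.ble (nat_lit 3615) i)) (@Bool.rec (fun _ => ℕ) (@Bool.rec (fun _ => ℕ) (t3634_3643 i) (t3643_3652 i) (Nat.ble (nat_lit 3643) i)) (@Bool.rec (fun _ => ℕ) (t3652_3661 i) (t3661_3671 i) (Nat.ble (nat_lit 3661) i)) (Nat.ble (nat_lit 3652) i)) (Nat.ble (nat_lit 3634) i))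
noncomputable def t3678_3680 (i : ℕ) : ℕ := (@Bool.rec (fun _ => ℕ) l3678 l3679 (Nat.ble (nat_lit 3679) i))
noncomputable def t3671_3680 (i : ℕ) : ℕ := (@Bool.rec (fun _ => ℕ) (@Bool.rec (fun _ => ℕ) (@Bool.rec (fun _ => ℕ) l3671 l3672 (Nat.ble (nat_lit 3672) i)) (@Bool.rec (fun _ => ℕ) l3673 l3674 (Nat.ble (nat_lit 3674) i)) (Nat.ble (nat_lit 3673) i)) (@Bool.rec (fun _ => ℕ) (@Bool.rec (fun _ => ℕ) l3675 l3676 (Nat.ble (nat_lit 3676) i)) (@Bool.rec (fun _ => ℕ) l3677 (t3678_3680 i) (Nat.ble (nat_lit 3678) i)) (Nat.ble (nat_lit 3677) i)) (Nat.ble (nat_lit 3675) i))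
noncomputable def t3687_3689 (i : ℕ) : ℕ := (@Bool.rec (fun _ => ℕ) l3687 l3688 (Nat.ble (nat_lit 3688) i))
noncomputable def t3680_3689 (i : ℕ) : ℕ := (@Bool.rec (fun _ => ℕ) (@Bool.rec (fun _ => ℕ) (@Bool.rec (fun _ => ℕ) l3680 l3681 (Nat.ble (nat_lit 3681) i)) (@Bool.rec (fun _ => ℕ) l3682 l3683 (Nat.ble (nat_lit 3683) i)) (Nat.ble (nat_lit 3682) i)) (@Bool.rec (fun _ => ℕ) (@Bool.rec (fun _ => ℕ) l3684 l3685 (Nat.ble (nat_lit 3685) i)) (@Bool.rec (fun _ => ℕ) l3686 (t3687_3689 i) (Nat.ble (nat_lit 3687) i)) (Nat.ble (nat_lit 3686) i)) (Nat.ble (nat_lit 3684) i))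
noncomputable def t3696_3698 (i : ℕ) : ℕ := (@Bool.rec (fun _ => ℕ) l3696 l3697 (Nat.ble (nat_lit 3697) i))
noncomputable def t3689_3698 (i : ℕ) : ℕ := (@Bool.rec (fun _ => ℕ) (@Bool.rec (fun _ => ℕ) (@Bool.rec (fun _ => ℕ) l3689 l3690 (Nat.ble (nat_lit 3690) i)) (@Bool.rec (fun _ => ℕ) l3691 l3692 (Nat.ble (nat_lit 3692) i)) (Nat.ble (nat_lit 3691) i)) (@Bool.rec (fun _ => ℕ) (@Bool.rec (fun _ => ℕ) l3693 l3694 (Nat.ble (nat_lit 3694) i)) (@Bool.rec (fun _ => ℕ) l3695 (t3696_3698 i) (Nat.ble (nat_lit 3696) i)) (Nat.ble (nat_lit 3695) i)) (Nat.ble (nat_lit 3693) i))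
noncomputable def t3701_3703 (i : ℕ) : ℕ := (@Bool.rec (fun _ => ℕ) l3701 l3702 (Nat.ble (nat_lit 3702) i))
noncomputable def t3706_3708 (i : ℕ) : ℕ := (@Bool.rec (fun _ => ℕ) l3706 l3707 (Nat.ble (nat_lit 3707) i))
noncomputable def t3698_3708 (i : ℕ) : ℕ := (@Bool.rec (fun _ => ℕ) (@Bool.rec (fun _ => ℕ) (@Bool.rec (fun _ => ℕ) l3698 l3699 (Nat.ble (nat_lit 3699) i)) (@Bool.rec (fun _ => ℕ) l3700 (t3701_3703 i) (Nat.ble (nat_lit 3701) i)) (Nat.ble (nat_lit 3700) i)) (@Bool.rec (fun _ => ℕ) (@Bool.rec (fun _ => ℕ) l3703 l3704 (Nat.ble (nat_lit 3704) i)) (@Bool.rec (fun _ => ℕ) l3705 (t3706_3708 i) (Nat.ble (nat_lit 3706) i)) (Nat.ble (nat_lit 3705) i)) (Nat.ble (nat_lit 3703) i))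
noncomputable def t3715_3717 (i : ℕ) : ℕ := (@Bool.rec (fun _ => ℕ) l3715 l3716 (Nat.ble (nat_lit 3716) i))
noncomputable def t3708_3717 (i : ℕ) : ℕ := (@Bool.rec (fun _ => ℕ) (@Bool.rec (fun _ => ℕ) (@Bool.rec (fun _ => ℕ) l3708 l3709 (Nat.ble (nat_lit 3709) i)) (@Bool.rec (fun _ => ℕ) l3710 l3711 (Nat.ble (nat_lit 3711) i)) (Nat.ble (nat_lit 3710) i)) (@Bool.rec (fun _ => ℕ) (@Bool.rec (fun _ => ℕ) l3712 l3713 (Nat.ble (nat_lit 3713) i)) (@Bool.rec (fun _ => ℕ) l3714 (t3715_3717 i) (Nat.ble (nat_lit 3715) i)) (Nat.ble (nat_lit 3714) i)) (Nat.ble (nat_lit 3712) i))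
noncomputable def t3720_3722 (i : ℕ) : ℕ := (@Bool.rec (fun _ => ℕ) l3720 l3721 (Nat.ble (nat_lit 3721) i))
noncomputable def t3725_3727 (i : ℕ) : ℕ := (@Bool.rec (fun _ => ℕ) l3725 l3726 (Nat.ble (nat_lit 3726) i))
noncomputable def t3717_3727 (i : ℕ) : ℕ := (@Bool.rec (fun _ => ℕ) (@Bool.rec (fun _ => ℕ) (@Bool.rec (fun _ => ℕ) l3717 l3718 (Nat.ble (nat_lit 3718) i)) (@Bool.rec (fun _ => ℕ) l3719 (t3720_3722 i) (Nat.ble (nat_lit 3720) i)) (Nat.ble (nat_lit 3719) i)) (@Bool.rec (fun _ => ℕ) (@Bool.rec (fun _ => ℕ) l3722 l3723 (Nat.ble (nat_lit 3723) i)) (@Bool.rec (fun _ => ℕ) l3724 (t3725_3727 i) (Nat.ble (nat_lit 3725) i)) (Nat.ble (nat_lit 3724) i)) (Nat.ble (nat_lit 3722) i))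
noncomputable def t3734_3736 (i : ℕ) : ℕ := (@Bool.rec (fun _ => ℕ) l3734 l3735 (Nat.ble (nat_lit 3735) i))
noncomputable def t3727_3736 (i : ℕ) : ℕ := (@Bool.rec (fun _ => ℕ) (@Bool.rec (fun _ => ℕ) (@Bool.rec (fun _ => ℕ) l3727 l3728 (Nat.ble (nat_lit 3728) i)) (@Bool.rec (fun _ => ℕ) l3729 l3730 (Nat.ble (nat_lit 3730) i)) (Nat.ble (nat_lit 3729) i)) (@Bool.rec (fun _ => ℕ) (@Bool.rec (fun _ => ℕ) l3731 l3732 (Nat.ble (nat_lit 3732) i)) (@Bool.rec (fun _ => ℕ) l3733 (t3734_3736 i) (Nat.ble (nat_lit 3734) i)) (Nat.ble (nat_lit 3733) i)) (Nat.ble (nat_lit 3731) i))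
noncomputable def t3739_3741 (i : ℕ) : ℕ := (@Bool.rec (fun _ => ℕ) l3739 l3740 (Nat.ble (nat_lit 3740) i))
noncomputable def t3744_3746 (i : ℕ) : ℕ := (@Bool.rec (fun _ => ℕ) l3744 l3745 (Nat.ble (nat_lit 3745) i))
noncomputable def t3736_3746 (i : ℕ) : ℕ := (@Bool.rec (fun _ => ℕ) (@Bool.rec (fun _ => ℕ) (@Bool.rec (fun _ => ℕ) l3736 l3737 (Nat.ble (nat_lit 3737) i)) (@Bool.rec (fun _ => ℕ) l3738 (t3739_3741 i) (Nat.ble (nat_lit 3739) i)) (Nat.ble (nat_lit 3738) i)) (@Bool.rec (fun _ => ℕ) (@Bool.rec (fun _ => ℕ) l3741 l3742 (Nat.ble (nat_lit 3742) i)) (@Bool.rec (fun _ => ℕ) l3743 (t3744_3746 i) (Nat.ble (nat_lit 3744) i)) (Nat.ble (nat_lit 3743) i)) (Nat.ble (nat_lit 3741) i))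
noncomputable def t3671_3746 (i : ℕ) : ℕ := (@Bool.rec (fun _ => ℕ) (@Bool.rec (fun _ => ℕ) (@Bool.rec (fun _ => ℕ) (t3671_3680 i) (t3680_3689 i) (Nat.ble (nat_lit 3680) i)) (@Bool.rec (fun _ => ℕ) (t3689_3698 i) (t3698_3708 i) (Nat.ble (nat_lit 3698) i)) (Nat.ble (nat_lit 3689) i)) (@Bool.rec (fun _ => ℕ) (@Bool.rec (fun _ => ℕ) (t3708_3717 i) (t3717_3727 i) (Nat.ble (nat_lit 3717) i)) (@Bool.rec (fun _ => ℕ) (t3727_3736 i) (t3736_3746 i) (Nat.ble (nat_lit 3736) i)) (Nat.ble (nat_lit 3727) i)) (Nat.ble (nat_lit 3708) i))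
noncomputable def t3753_3755 (i : ℕ) : ℕ := (@Bool.rec (fun _ => ℕ) l3753 l3754 (Nat.ble (nat_lit 3754) i))
noncomputable def t3746_3755 (i : ℕ) : ℕ := (@Bool.rec (fun _ => ℕ) (@Bool.rec (fun _ => ℕ) (@Bool.rec (fun _ => ℕ) l3746 l3747 (Nat.ble (nat_lit 3747) i)) (@Bool.rec (fun _ => ℕ) l3748 l3749 (Nat.ble (nat_lit 3749) i)) (Nat.ble (nat_lit 3748) i)) (@Bool.rec (fun _ => ℕ) (@Bool.rec (fun _ => ℕ) l3750 l3751 (Nat.ble (nat_lit 3751) i)) (@Bool.rec (fun _ => ℕ) l3752 (t3753_3755 i) (Nat.ble (nat_lit 3753) i)) (Nat.ble (nat_lit 3752) i)) (Nat.ble (nat_lit 3750) i))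
noncomputable def t3762_3764 (i : ℕ) : ℕ := (@Bool.rec (fun _ => ℕ) l3762 l3763 (Nat.ble (nat_lit 3763) i))
noncomputable def t3755_3764 (i : ℕ) : ℕ := (@Bool.rec (fun _ => ℕ) (@Bool.rec (fun _ => ℕ) (@Bool.rec (fun _ => ℕ) l3755 l3756 (Nat.ble (nat_lit 3756) i)) (@Bool.rec (fun _ => ℕ) l3757 l3758 (Nat.ble (nat_lit 3758) i)) (Nat.ble (nat_lit 3757) i)) (@Bool.rec (fun _ => ℕ) (@Bool.rec (fun _ => ℕ) l3759 l3760 (Nat.ble (nat_lit 3760) i)) (@Bool.rec (fun _ => ℕ) l3761 (t3762_3764 i) (Nat.ble (nat_lit 3762) i)) (Nat.ble (nat_lit 3761) i)) (Nat.ble (nat_lit 3759) i))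
noncomputable def t3771_3773 (i : ℕ) : ℕ := (@Bool.rec (fun _ => ℕ) l3771 l3772 (Nat.ble (nat_lit 3772) i))
noncomputable def t3764_3773 (i : ℕ) : ℕ := (@Bool.rec (fun _ => ℕ) (@Bool.rec (fun _ => ℕ) (@Bool.rec (fun _ => ℕ) l3764 l3765 (Nat.ble (nat_lit 3765) i)) (@Bool.rec (fun _ => ℕ) l3766 l3767 (Nat.ble (nat_lit 3767) i)) (Nat.ble (nat_lit 3766) i)) (@Bool.rec (fun _ => ℕ) (@Bool.rec (fun _ => ℕ) l3768 l3769 (Nat.ble (nat_lit 3769) i)) (@Bool.rec (fun _ => ℕ) l3770 (t3771_3773 i) (Nat.ble (nat_lit 3771) i)) (Nat.ble (nat_lit 3770) i)) (Nat.ble (nat_lit 3768) i))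
noncomputable def t3776_3778 (i : ℕ) : ℕ := (@Bool.rec (fun _ => ℕ) l3776 l3777 (Nat.ble (nat_lit 3777) i))
noncomputable def t3781_3783 (i : ℕ) : ℕ := (@Bool.rec (fun _ => ℕ) l3781 l3782 (Nat.ble (nat_lit 3782) i))
noncomputable def t3773_3783 (i : ℕ) : ℕ := (@Bool.rec (fun _ => ℕ) (@Bool.rec (fun _ => ℕ) (@Bool.rec (fun _ => ℕ) l3773 l3774 (Nat.ble (nat_lit 3774) i)) (@Bool.rec (fun _ => ℕ) l3775 (t3776_3778 i) (Nat.ble (nat_lit 3776) i)) (Nat.ble (nat_lit 3775) i)) (@Bool.rec (fun _ => ℕ) (@Bool.rec (fun _ => ℕ) l3778 l3779 (Nat.ble (nat_lit 3779) i)) (@Bool.rec (fun _ => ℕ) l3780 (t3781_3783 i) (Nat.ble (nat_lit 3781) i)) (Nat.ble (nat_lit 3780) i)) (Nat.ble (nat_lit 3778) i))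
noncomputable def t3790_3792 (i : ℕ) : ℕ := (@Bool.rec (fun _ => ℕ) l3790 l3791 (Nat.ble (nat_lit 3791) i))
noncomputable def t3783_3792 (i : ℕ) : ℕ := (@Bool.rec (fun _ => ℕ) (@Bool.rec (fun _ => ℕ) (@Bool.rec (fun _ => ℕ) l3783 l3784 (Nat.ble (nat_lit 3784) i)) (@Bool.rec (fun _ => ℕ) l3785 l3786 (Nat.ble (nat_lit 3786) i)) (Nat.ble (nat_lit 3785) i)) (@Bool.rec (fun _ => ℕ) (@Bool.rec (fun _ => ℕ) l3787 l3788 (Nat.ble (nat_lit 3788) i)) (@Bool.rec (fun _ => ℕ) l3789 (t3790_3792 i) (Nat.ble (nat_lit 3790) i)) (Nat.ble (nat_lit 3789) i)) (Nat.ble (nat_lit 3787) i))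
noncomputable def t3795_3797 (i : ℕ) : ℕ := (@Bool.rec (fun _ => ℕ) l3795 l3796 (Nat.ble (nat_lit 3796) i))
noncomputable def t3800_3802 (i : ℕ) : ℕ := (@Bool.rec (fun _ => ℕ) l3800 l3801 (Nat.ble (nat_lit 3801) i))
noncomputable def t3792_3802 (i : ℕ) : ℕ := (@Bool.rec (fun _ => ℕ) (@Bool.rec (fun _ => ℕ) (@Bool.rec (fun _ => ℕ) l3792 l3793 (Nat.ble (nat_lit 3793) i)) (@Bool.rec (fun _ => ℕ) l3794 (t3795_3797 i) (Nat.ble (nat_lit 3795) i)) (Nat.ble (nat_lit 3794) i)) (@Bool.rec (fun _ => ℕ) (@Bool.rec (fun _ => ℕ) l3797 l3798 (Nat.ble (nat_lit 3798) i)) (@Bool.rec (fun _ => ℕ) l3799 (t3800_3802 i) (Nat.ble (nat_lit 3800) i)) (Nat.ble (nat_lit 3799) i)) (Nat.ble (nat_lit 3797) i))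
noncomputable def t3809_3811 (i : ℕ) : ℕ := (@Bool.rec (fun _ => ℕ) l3809 l3810 (Nat.ble (nat_lit 3810) i))
noncomputable def t3802_3811 (i : ℕ) : ℕ := (@Bool.rec (fun _ => ℕ) (@Bool.rec (fun _ => ℕ) (@Bool.rec (fun _ => ℕ) l3802 l3803 (Nat.ble (nat_lit 3803) i)) (@Bool.rec (fun _ => ℕ) l3804 l3805 (Nat.ble (nat_lit 3805) i)) (Nat.ble (nat_lit 3804) i)) (@Bool.rec (fun _ => ℕ) (@Bool.rec (fun _ => ℕ) l3806 l3807 (Nat.ble (nat_lit 3807) i)) (@Bool.rec (fun _ => ℕ) l3808 (t3809_3811 i) (Nat.ble (nat_lit 3809) i)) (Nat.ble (nat_lit 3808) i)) (Nat.ble (nat_lit 3806) i))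
noncomputable def t3814_3816 (i : ℕ) : ℕ := (@Bool.rec (fun _ => ℕ) l3814 l3815 (Nat.ble (nat_lit 3815) i))
noncomputable def t3819_3821 (i : ℕ) : ℕ := (@Bool.rec (fun _ => ℕ) l3819 l3820 (Nat.ble (nat_lit 3820) i))
noncomputable def t3811_3821 (i : ℕ) : ℕ := (@Bool.rec (fun _ => ℕ) (@Bool.rec (fun _ => ℕ) (@Bool.rec (fun _ => ℕ) l3811 l3812 (Nat.ble (nat_lit 3812) i)) (@Bool.rec (fun _ => ℕ) l3813 (t3814_3816 i) (Nat.ble (nat_lit 3814) i)) (Nat.ble (nat_lit 3813) i)) (@Bool.rec (fun _ => ℕ) (@Bool.rec (fun _ => ℕ) l3816 l3817 (Nat.ble (nat_lit 3817) i)) (@Bool.rec (fun _ => ℕ) l3818 (t3819_3821 i) (Nat.ble (nat_lit 3819) i)) (Nat.ble (nat_lit 3818) i)) (Nat.ble (nat_lit 3816) i))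
noncomputable def t3746_3821 (i : ℕ) : ℕ := (@Bool.rec (fun _ => ℕ) (@Bool.rec (fun _ => ℕ) (@Bool.rec (fun _ => ℕ) (t3746_3755 i) (t3755_3764 i) (Nat.ble (nat_lit 3755) i)) (@Bool.rec (fun _ => ℕ) (t3764_3773 i) (t3773_3783 i) (Nat.ble (nat_lit 3773) i)) (Nat.ble (nat_lit 3764) i)) (@Bool.rec (fun _ => ℕ) (@Bool.rec (fun _ => ℕ) (t3783_3792 i) (t3792_3802 i) (Nat.ble (nat_lit 3792) i)) (@Bool.rec (fun _ => ℕ) (t3802_3811 i) (t3811_3821 i) (Nat.ble (nat_lit 3811) i)) (Nat.ble (nat_lit 3802) i)) (Nat.ble (nat_lit 3783) i))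
noncomputable def t3828_3830 (i : ℕ) : ℕ := (@Bool.rec (fun _ => ℕ) l3828 l3829 (Nat.ble (nat_lit 3829) i))
noncomputable def t3821_3830 (i : ℕ) : ℕ := (@Bool.rec (fun _ => ℕ) (@Bool.rec (fun _ => ℕ) (@Bool.rec (fun _ => ℕ) l3821 l3822 (Nat.ble (nat_lit 3822) i)) (@Bool.rec (fun _ => ℕ) l3823 l3824 (Nat.ble (nat_lit 3824) i)) (Nat.ble (nat_lit 3823) i)) (@Bool.rec (fun _ => ℕ) (@Bool.rec (fun _ => ℕ) l3825 l3826 (Nat.ble (nat_lit 3826) i)) (@Bool.rec (fun _ => ℕ) l3827 (t3828_3830 i) (Nat.ble (nat_lit 3828) i)) (Nat.ble (nat_lit 3827) i)) (Nat.ble (nat_lit 3825) i))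
noncomputable def t3837_3839 (i : ℕ) : ℕ := (@Bool.rec (fun _ => ℕ) l3837 l3838 (Nat.ble (nat_lit 3838) i))
noncomputable def t3830_3839 (i : ℕ) : ℕ := (@Bool.rec (fun _ => ℕ) (@Bool.rec (fun _ => ℕ) (@Bool.rec (fun _ => ℕ) l3830 l3831 (Nat.ble (nat_lit 3831) i)) (@Bool.rec (fun _ => ℕ) l3832 l3833 (Nat.ble (nat_lit 3833) i)) (Nat.ble (nat_lit 3832) i)) (@Bool.rec (fun _ => ℕ) (@Bool.rec (fun _ => ℕ) l3834 l3835 (Nat.ble (nat_lit 3835) i)) (@Bool.rec (fun _ => ℕ) l3836 (t3837_3839 i) (Nat.ble (nat_lit 3837) i)) (Nat.ble (nat_lit 3836) i)) (Nat.ble (nat_lit 3834) i))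
noncomputable def t3846_3848 (i : ℕ) : ℕ := (@Bool.rec (fun _ => ℕ) l3846 l3847 (Nat.ble (nat_lit 3847) i))
noncomputable def t3839_3848 (i : ℕ) : ℕ := (@Bool.rec (fun _ => ℕ) (@Bool.rec (fun _ => ℕ) (@Bool.rec (fun _ => ℕ) l3839 l3840 (Nat.ble (nat_lit 3840) i)) (@Bool.rec (fun _ => ℕ) l3841 l3842 (Nat.ble (nat_lit 3842) i)) (Nat.ble (nat_lit 3841) i)) (@Bool.rec (fun _ => ℕ) (@Bool.rec (fun _ => ℕ) l3843 l3844 (Nat.ble (nat_lit 3844) i)) (@Bool.rec (fun _ => ℕ) l3845 (t3846_3848 i) (Nat.ble (nat_lit 3846) i)) (Nat.ble (nat_lit 3845) i)) (Nat.ble (nat_lit 3843) i))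
noncomputable def t3851_3853 (i : ℕ) : ℕ := (@Bool.rec (fun _ => ℕ) l3851 l3852 (Nat.ble (nat_lit 3852) i))
noncomputable def t3856_3858 (i : ℕ) : ℕ := (@Bool.rec (fun _ => ℕ) l3856 l3857 (Nat.ble (nat_lit 3857) i))
noncomputable def t3848_3858 (i : ℕ) : ℕ := (@Bool.rec (fun _ => ℕ) (@Bool.rec (fun _ => ℕ) (@Bool.rec (fun _ => ℕ) l3848 l3849 (Nat.ble (nat_lit 3849) i)) (@Bool.rec (fun _ => ℕ) l3850 (t3851_3853 i) (Nat.ble (nat_lit 3851) i)) (Nat.ble (nat_lit 3850) i)) (@Bool.rec (fun _ => ℕ) (@Bool.rec (fun _ => ℕ) l3853 l3854 (Nat.ble (nat_lit 3854) i)) (@Bool.rec (fun _ => ℕ) l3855 (t3856_3858 i) (Nat.ble (nat_lit 3856) i)) (Nat.ble (nat_lit 3855) i)) (Nat.ble (nat_lit 3853) i))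
noncomputable def t3865_3867 (i : ℕ) : ℕ := (@Bool.rec (fun _ => ℕ) l3865 l3866 (Nat.ble (nat_lit 3866) i))
noncomputable def t3858_3867 (i : ℕ) : ℕ := (@Bool.rec (fun _ => ℕ) (@Bool.rec (fun _ => ℕ) (@Bool.rec (fun _ => ℕ) l3858 l3859 (Nat.ble (nat_lit 3859) i)) (@Bool.rec (fun _ => ℕ) l3860 l3861 (Nat.ble (nat_lit 3861) i)) (Nat.ble (nat_lit 3860) i)) (@Bool.rec (fun _ => ℕ) (@Bool.rec (fun _ => ℕ) l3862 l3863 (Nat.ble (nat_lit 3863) i)) (@Bool.rec (fun _ => ℕ) l3864 (t3865_3867 i) (Nat.ble (nat_lit 3865) i)) (Nat.ble (nat_lit 3864) i)) (Nat.ble (nat_lit 3862) i))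
noncomputable def t3870_3872 (i : ℕ) : ℕ := (@Bool.rec (fun _ => ℕ) l3870 l3871 (Nat.ble (nat_lit 3871) i))
noncomputable def t3875_3877 (i : ℕ) : ℕ := (@Bool.rec (fun _ => ℕ) l3875 l3876 (Nat.ble (nat_lit 3876) i))
noncomputable def t3867_3877 (i : ℕ) : ℕ := (@Bool.rec (fun _ => ℕ) (@Bool.rec (fun _ => ℕ) (@Bool.rec (fun _ => ℕ) l3867 l3868 (Nat.ble (nat_lit 3868) i)) (@Bool.rec (fun _ => ℕ) l3869 (t3870_3872 i) (Nat.ble (nat_lit 3870) i)) (Nat.ble (nat_lit 3869) i)) (@Bool.rec (fun _ => ℕ) (@Bool.rec (fun _ => ℕ) l3872 l3873 (Nat.ble (nat_lit 3873) i)) (@Bool.rec (fun _ => ℕ) l3874 (t3875_3877 i) (Nat.ble (nat_lit 3875) i)) (Nat.ble (nat_lit 3874) i)) (Nat.ble (nat_lit 3872) i))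
noncomputable def t3884_3886 (i : ℕ) : ℕ := (@Bool.rec (fun _ => ℕ) l3884 l3885 (Nat.ble (nat_lit 3885) i))
noncomputable def t3877_3886 (i : ℕ) : ℕ := (@Bool.rec (fun _ => ℕ) (@Bool.rec (fun _ => ℕ) (@Bool.rec (fun _ => ℕ) l3877 l3878 (Nat.ble (nat_lit 3878) i)) (@Bool.rec (fun _ => ℕ) l3879 l3880 (Nat.ble (nat_lit 3880) i)) (Nat.ble (nat_lit 3879) i)) (@Bool.rec (fun _ => ℕ) (@Bool.rec (fun _ => ℕ) l3881 l3882 (Nat.ble (nat_lit 3882) i)) (@Bool.rec (fun _ => ℕ) l3883 (t3884_3886 i) (Nat.ble (nat_lit 3884) i)) (Nat.ble (nat_lit 3883) i)) (Nat.ble (nat_lit 3881) i))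
noncomputable def t3889_3891 (i : ℕ) : ℕ := (@Bool.rec (fun _ => ℕ) l3889 l3890 (Nat.ble (nat_lit 3890) i))
noncomputable def t3894_3896 (i : ℕ) : ℕ := (@Bool.rec (fun _ => ℕ) l3894 l3895 (Nat.ble (nat_lit 3895) i))
noncomputable def t3886_3896 (i : ℕ) : ℕ := (@Bool.rec (fun _ => ℕ) (@Bool.rec (fun _ => ℕ) (@Bool.rec (fun _ => ℕ) l3886 l3887 (Nat.ble (nat_lit 3887) i)) (@Bool.rec (fun _ => ℕ) l3888 (t3889_3891 i) (Nat.ble (nat_lit 3889) i)) (Nat.ble (nat_lit 3888) i)) (@Bool.rec (fun _ => ℕ) (@Bool.rec (fun _ => ℕ) l3891 l3892 (Nat.ble (nat_lit 3892) i)) (@Bool.rec (fun _ => ℕ) l3893 (t3894_3896 i) (Nat.ble (nat_lit 3894) i)) (Nat.ble (nat_lit 3893) i)) (Nat.ble (nat_lit 3891) i))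
noncomputable def t3821_3896 (i : ℕ) : ℕ := (@Bool.rec (fun _ => ℕ) (@Bool.rec (fun _ => ℕ) (@Bool.rec (fun _ => ℕ) (t3821_3830 i) (t3830_3839 i) (Nat.ble (nat_lit 3830) i)) (@Bool.rec (fun _ => ℕ) (t3839_3848 i) (t3848_3858 i) (Nat.ble (nat_lit 3848) i)) (Nat.ble (nat_lit 3839) i)) (@Bool.rec (fun _ => ℕ) (@Bool.rec (fun _ => ℕ) (t3858_3867 i) (t3867_3877 i) (Nat.ble (nat_lit 3867) i)) (@Bool.rec (fun _ => ℕ) (t3877_3886 i) (t3886_3896 i) (Nat.ble (nat_lit 3886) i)) (Nat.ble (nat_lit 3877) i)) (Nat.ble (nat_lit 3858) i))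
noncomputable def t3903_3905 (i : ℕ) : ℕ := (@Bool.rec (fun _ => ℕ) l3903 l3904 (Nat.ble (nat_lit 3904) i))
noncomputable def t3896_3905 (i : ℕ) : ℕ := (@Bool.rec (fun _ => ℕ) (@Bool.rec (fun _ => ℕ) (@Bool.rec (fun _ => ℕ) l3896 l3897 (Nat.ble (nat_lit 3897) i)) (@Bool.rec (fun _ => ℕ) l3898 l3899 (Nat.ble (nat_lit 3899) i)) (Nat.ble (nat_lit 3898) i)) (@Bool.rec (fun _ => ℕ) (@Bool.rec (fun _ => ℕ) l3900 l3901 (Nat.ble (nat_lit 3901) i)) (@Bool.rec (fun _ => ℕ) l3902 (t3903_3905 i) (Nat.ble (nat_lit 3903) i)) (Nat.ble (nat_lit 3902) i)) (Nat.ble (nat_lit 3900) i))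
noncomputable def t3912_3914 (i : ℕ) : ℕ := (@Bool.rec (fun _ => ℕ) l3912 l3913 (Nat.ble (nat_lit 3913) i))
noncomputable def t3905_3914 (i : ℕ) : ℕ := (@Bool.rec (fun _ => ℕ) (@Bool.rec (fun _ => ℕ) (@Bool.rec (fun _ => ℕ) l3905 l3906 (Nat.ble (nat_lit 3906) i)) (@Bool.rec (fun _ => ℕ) l3907 l3908 (Nat.ble (nat_lit 3908) i)) (Nat.ble (nat_lit 3907) i)) (@Bool.rec (fun _ => ℕ) (@Bool.rec (fun _ => ℕ) l3909 l3910 (Nat.ble (nat_lit 3910) i)) (@Bool.rec (fun _ => ℕ) l3911 (t3912_3914 i) (Nat.ble (nat_lit 3912) i)) (Nat.ble (nat_lit 3911) i)) (Nat.ble (nat_lit 3909) i))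
noncomputable def t3921_3923 (i : ℕ) : ℕ := (@Bool.rec (fun _ => ℕ) l3921 l3922 (Nat.ble (nat_lit 3922) i))
noncomputable def t3914_3923 (i : ℕ) : ℕ := (@Bool.rec (fun _ => ℕ) (@Bool.rec (fun _ => ℕ) (@Bool.rec (fun _ => ℕ) l3914 l3915 (Nat.ble (nat_lit 3915) i)) (@Bool.rec (fun _ => ℕ) l3916 l3917 (Nat.ble (nat_lit 3917) i)) (Nat.ble (nat_lit 3916) i)) (@Bool.rec (fun _ => ℕ) (@Bool.rec (fun _ => ℕ) l3918 l3919 (Nat.ble (nat_lit 3919) i)) (@Bool.rec (fun _ => ℕ) l3920 (t3921_3923 i) (Nat.ble (nat_lit 3921) i)) (Nat.ble (nat_lit 3920) i)) (Nat.ble (nat_lit 3918) i))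
noncomputable def t3926_3928 (i : ℕ) : ℕ := (@Bool.rec (fun _ => ℕ) l3926 l3927 (Nat.ble (nat_lit 3927) i))
noncomputable def t3931_3933 (i : ℕ) : ℕ := (@Bool.rec (fun _ => ℕ) l3931 l3932 (Nat.ble (nat_lit 3932) i))
noncomputable def t3923_3933 (i : ℕ) : ℕ := (@Bool.rec (fun _ => ℕ) (@Bool.rec (fun _ => ℕ) (@Bool.rec (fun _ => ℕ) l3923 l3924 (Nat.ble (nat_lit 3924) i)) (@Bool.rec (fun _ => ℕ) l3925 (t3926_3928 i) (Nat.ble (nat_lit 3926) i)) (Nat.ble (nat_lit 3925) i)) (@Bool.rec (fun _ => ℕ) (@Bool.rec (fun _ => ℕ) l3928 l3929 (Nat.ble (nat_lit 3929) i)) (@Bool.rec (fun _ => ℕ) l3930 (t3931_3933 i) (Nat.ble (nat_lit 3931) i)) (Nat.ble (nat_lit 3930) i)) (Nat.ble (nat_lit 3928) i))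
noncomputable def t3940_3942 (i : ℕ) : ℕ := (@Bool.rec (fun _ => ℕ) l3940 l3941 (Nat.ble (nat_lit 3941) i))
noncomputable def t3933_3942 (i : ℕ) : ℕ := (@Bool.rec (fun _ => ℕ) (@Bool.rec (fun _ => ℕ) (@Bool.rec (fun _ => ℕ) l3933 l3934 (Nat.ble (nat_lit 3934) i)) (@Bool.rec (fun _ => ℕ) l3935 l3936 (Nat.ble (nat_lit 3936) i)) (Nat.ble (nat_lit 3935) i)) (@Bool.rec (fun _ => ℕ) (@Bool.rec (fun _ => ℕ) l3937 l3938 (Nat.ble (nat_lit 3938) i)) (@Bool.rec (fun _ => ℕ) l3939 (t3940_3942 i) (Nat.ble (nat_lit 3940) i)) (Nat.ble (nat_lit 3939) i)) (Nat.ble (nat_lit 3937) i))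
noncomputable def t3945_3947 (i : ℕ) : ℕ := (@Bool.rec (fun _ => ℕ) l3945 l3946 (Nat.ble (nat_lit 3946) i))
noncomputable def t3950_3952 (i : ℕ) : ℕ := (@Bool.rec (fun _ => ℕ) l3950 l3951 (Nat.ble (nat_lit 3951) i))
noncomputable def t3942_3952 (i : ℕ) : ℕ := (@Bool.rec (fun _ => ℕ) (@Bool.rec (fun _ => ℕ) (@Bool.rec (fun _ => ℕ) l3942 l3943 (Nat.ble (nat_lit 3943) i)) (@Bool.rec (fun _ => ℕ) l3944 (t3945_3947 i) (Nat.ble (nat_lit 3945) i)) (Nat.ble (nat_lit 3944) i)) (@Bool.rec (fun _ => ℕ) (@Bool.rec (fun _ => ℕ) l3947 l3948 (Nat.ble (nat_lit 3948) i)) (@Bool.rec (fun _ => ℕ) l3949 (t3950_3952 i) (Nat.ble (nat_lit 3950) i)) (Nat.ble (nat_lit 3949) i)) (Nat.ble (nat_lit 3947) i))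
noncomputable def t3959_3961 (i : ℕ) : ℕ := (@Bool.rec (fun _ => ℕ) l3959 l3960 (Nat.ble (nat_lit 3960) i))
noncomputable def t3952_3961 (i : ℕ) : ℕ := (@Bool.rec (fun _ => ℕ) (@Bool.rec (fun _ => ℕ) (@Bool.rec (fun _ => ℕ) l3952 l3953 (Nat.ble (nat_lit 3953) i)) (@Bool.rec (fun _ => ℕ) l3954 l3955 (Nat.ble (nat_lit 3955) i)) (Nat.ble (nat_lit 3954) i)) (@Bool.rec (fun _ => ℕ) (@Bool.rec (fun _ => ℕ) l3956 l3957 (Nat.ble (nat_lit 3957) i)) (@Bool.rec (fun _ => ℕ) l3958 (t3959_3961 i) (Nat.ble (nat_lit 3959) i)) (Nat.ble (nat_lit 3958) i)) (Nat.ble (nat_lit 3956) i))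
noncomputable def t3964_3966 (i : ℕ) : ℕ := (@Bool.rec (fun _ => ℕ) l3964 l3965 (Nat.ble (nat_lit 3965) i))
noncomputable def t3969_3971 (i : ℕ) : ℕ := (@Bool.rec (fun _ => ℕ) l3969 l3970 (Nat.ble (nat_lit 3970) i))
noncomputable def t3961_3971 (i : ℕ) : ℕ := (@Bool.rec (fun _ => ℕ) (@Bool.rec (fun _ => ℕ) (@Bool.rec (fun _ => ℕ) l3961 l3962 (Nat.ble (nat_lit 3962) i)) (@Bool.rec (fun _ => ℕ) l3963 (t3964_3966 i) (Nat.ble (nat_lit 3964) i)) (Nat.ble (nat_lit 3963) i)) (@Bool.rec (fun _ => ℕ) (@Bool.rec (fun _ => ℕ) l3966 l3967 (Nat.ble (nat_lit 3967) i)) (@Bool.rec (fun _ => ℕ) l3968 (t3969_3971 i) (Nat.ble (nat_lit 3969) i)) (Nat.ble (nat_lit 3968) i)) (Nat.ble (nat_lit 3966) i))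
noncomputable def t3896_3971 (i : ℕ) : ℕ := (@Bool.rec (fun _ => ℕ) (@Bool.rec (fun _ => ℕ) (@Bool.rec (fun _ => ℕ) (t3896_3905 i) (t3905_3914 i) (Nat.ble (nat_lit 3905) i)) (@Bool.rec (fun _ => ℕ) (t3914_3923 i) (t3923_3933 i) (Nat.ble (nat_lit 3923) i)) (Nat.ble (nat_lit 3914) i)) (@Bool.rec (fun _ => ℕ) (@Bool.rec (fun _ => ℕ) (t3933_3942 i) (t3942_3952 i) (Nat.ble (nat_lit 3942) i)) (@Bool.rec (fun _ => ℕ) (t3952_3961 i) (t3961_3971 i) (Nat.ble (nat_lit 3961) i)) (Nat.ble (nat_lit 3952) i)) (Nat.ble (nat_lit 3933) i))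
noncomputable def t3978_3980 (i : ℕ) : ℕ := (@Bool.rec (fun _ => ℕ) l3978 l3979 (Nat.ble (nat_lit 3979) i))
noncomputable def t3971_3980 (i : ℕ) : ℕ := (@Bool.rec (fun _ => ℕ) (@Bool.rec (fun _ => ℕ) (@Bool.rec (fun _ => ℕ) l3971 l3972 (Nat.ble (nat_lit 3972) i)) (@Bool.rec (fun _ => ℕ) l3973 l3974 (Nat.ble (nat_lit 3974) i)) (Nat.ble (nat_lit 3973) i)) (@Bool.rec (fun _ => ℕ) (@Bool.rec (fun _ => ℕ) l3975 l3976 (Nat.ble (nat_lit 3976) i)) (@Bool.rec (fun _ => ℕ) l3977 (t3978_3980 i) (Nat.ble (nat_lit 3978) i)) (Nat.ble (nat_lit 3977) i)) (Nat.ble (nat_lit 3975) i))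
noncomputable def t3987_3989 (i : ℕ) : ℕ := (@Bool.rec (fun _ => ℕ) l3987 l3988 (Nat.ble (nat_lit 3988) i))
noncomputable def t3980_3989 (i : ℕ) : ℕ := (@Bool.rec (fun _ => ℕ) (@Bool.rec (fun _ => ℕ) (@Bool.rec (fun _ => ℕ) l3980 l3981 (Nat.ble (nat_lit 3981) i)) (@Bool.rec (fun _ => ℕ) l3982 l3983 (Nat.ble (nat_lit 3983) i)) (Nat.ble (nat_lit 3982) i)) (@Bool.rec (fun _ => ℕ) (@Bool.rec (fun _ => ℕ) l3984 l3985 (Nat.ble (nat_lit 3985) i)) (@Bool.rec (fun _ => ℕ) l3986 (t3987_3989 i) (Nat.ble (nat_lit 3987) i)) (Nat.ble (nat_lit 3986) i)) (Nat.ble (nat_lit 3984) i))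
noncomputable def t3996_3998 (i : ℕ) : ℕ := (@Bool.rec (fun _ => ℕ) l3996 l3997 (Nat.ble (nat_lit 3997) i))
noncomputable def t3989_3998 (i : ℕ) : ℕ := (@Bool.rec (fun _ => ℕ) (@Bool.rec (fun _ => ℕ) (@Bool.rec (fun _ => ℕ) l3989 l3990 (Nat.ble (nat_lit 3990) i)) (@Bool.rec (fun _ => ℕ) l3991 l3992 (Nat.ble (nat_lit 3992) i)) (Nat.ble (nat_lit 3991) i)) (@Bool.rec (fun _ => ℕ) (@Bool.rec (fun _ => ℕ) l3993 l3994 (Nat.ble (nat_lit 3994) i)) (@Bool.rec (fun _ => ℕ) l3995 (t3996_3998 i) (Nat.ble (nat_lit 3996) i)) (Nat.ble (nat_lit 3995) i)) (Nat.ble (nat_lit 3993) i))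
noncomputable def t4001_4003 (i : ℕ) : ℕ := (@Bool.rec (fun _ => ℕ) l4001 l4002 (Nat.ble (nat_lit 4002) i))
noncomputable def t4006_4008 (i : ℕ) : ℕ := (@Bool.rec (fun _ => ℕ) l4006 l4007 (Nat.ble (nat_lit 4007) i))
noncomputable def t3998_4008 (i : ℕ) : ℕ := (@Bool.rec (fun _ => ℕ) (@Bool.rec (fun _ => ℕ) (@Bool.rec (fun _ => ℕ) l3998 l3999 (Nat.ble (nat_lit 3999) i)) (@Bool.rec (fun _ => ℕ) l4000 (t4001_4003 i) (Nat.ble (nat_lit 4001) i)) (Nat.ble (nat_lit 4000) i)) (@Bool.rec (fun _ => ℕ) (@Bool.rec (fun _ => ℕ) l4003 l4004 (Nat.ble (nat_lit 4004) i)) (@Bool.rec (fun _ => ℕ) l4005 (t4006_4008 i) (Nat.ble (nat_lit 4006) i)) (Nat.ble (nat_lit 4005) i)) (Nat.ble (nat_lit 4003) i))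
noncomputable def t4015_4017 (i : ℕ) : ℕ := (@Bool.rec (fun _ => ℕ) l4015 l4016 (Nat.ble (nat_lit 4016) i))
noncomputable def t4008_4017 (i : ℕ) : ℕ := (@Bool.rec (fun _ => ℕ) (@Bool.rec (fun _ => ℕ) (@Bool.rec (fun _ => ℕ) l4008 l4009 (Nat.ble (nat_lit 4009) i)) (@Bool.rec (fun _ => ℕ) l4010 l4011 (Nat.ble (nat_lit 4011) i)) (Nat.ble (nat_lit 4010) i)) (@Bool.rec (fun _ => ℕ) (@Bool.rec (fun _ => ℕ) l4012 l4013 (Nat.ble (nat_lit 4013) i)) (@Bool.rec (fun _ => ℕ) l4014 (t4015_4017 i) (Nat.ble (nat_lit 4015) i)) (Nat.ble (nat_lit 4014) i)) (Nat.ble (nat_lit 4012) i))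
noncomputable def t4020_4022 (i : ℕ) : ℕ := (@Bool.rec (fun _ => ℕ) l4020 l4021 (Nat.ble (nat_lit 4021) i))
noncomputable def t4025_4027 (i : ℕ) : ℕ := (@Bool.rec (fun _ => ℕ) l4025 l4026 (Nat.ble (nat_lit 4026) i))
noncomputable def t4017_4027 (i : ℕ) : ℕ := (@Bool.rec (fun _ => ℕ) (@Bool.rec (fun _ => ℕ) (@Bool.rec (fun _ => ℕ) l4017 l4018 (Nat.ble (nat_lit 4018) i)) (@Bool.rec (fun _ => ℕ) l4019 (t4020_4022 i) (Nat.ble (nat_lit 4020) i)) (Nat.ble (nat_lit 4019) i)) (@Bool.rec (fun _ => ℕ) (@Bool.rec (fun _ => ℕ) l4022 l4023 (Nat.ble (nat_lit 4023) i)) (@Bool.rec (fun _ => ℕ) l4024 (t4025_4027 i) (Nat.ble (nat_lit 4025) i)) (Nat.ble (nat_lit 4024) i)) (Nat.ble (nat_lit 4022) i))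
noncomputable def t4034_4036 (i : ℕ) : ℕ := (@Bool.rec (fun _ => ℕ) l4034 l4035 (Nat.ble (nat_lit 4035) i))
noncomputable def t4027_4036 (i : ℕ) : ℕ := (@Bool.rec (fun _ => ℕ) (@Bool.rec (fun _ => ℕ) (@Bool.rec (fun _ => ℕ) l4027 l4028 (Nat.ble (nat_lit 4028) i)) (@Bool.rec (fun _ => ℕ) l4029 l4030 (Nat.ble (nat_lit 4030) i)) (Nat.ble (nat_lit 4029) i)) (@Bool.rec (fun _ => ℕ) (@Bool.rec (fun _ => ℕ) l4031 l4032 (Nat.ble (nat_lit 4032) i)) (@Bool.rec (fun _ => ℕ) l4033 (t4034_4036 i) (Nat.ble (nat_lit 4034) i)) (Nat.ble (nat_lit 4033) i)) (Nat.ble (nat_lit 4031) i))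
noncomputable def t4039_4041 (i : ℕ) : ℕ := (@Bool.rec (fun _ => ℕ) l4039 l4040 (Nat.ble (nat_lit 4040) i))
noncomputable def t4044_4046 (i : ℕ) : ℕ := (@Bool.rec (fun _ => ℕ) l4044 l4045 (Nat.ble (nat_lit 4045) i))
noncomputable def t4036_4046 (i : ℕ) : ℕ := (@Bool.rec (fun _ => ℕ) (@Bool.rec (fun _ => ℕ) (@Bool.rec (fun _ => ℕ) l4036 l4037 (Nat.ble (nat_lit 4037) i)) (@Bool.rec (fun _ => ℕ) l4038 (t4039_4041 i) (Nat.ble (nat_lit 4039) i)) (Nat.ble (nat_lit 4038) i)) (@Bool.rec (fun _ => ℕ) (@Bool.rec (fun _ => ℕ) l4041 l4042 (Nat.ble (nat_lit 4042) i)) (@Bool.rec (fun _ => ℕ) l4043 (t4044_4046 i) (Nat.ble (nat_lit 4044) i)) (Nat.ble (nat_lit 4043) i)) (Nat.ble (nat_lit 4041) i))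
noncomputable def t3971_4046 (i : ℕ) : ℕ := (@Bool.rec (fun _ => ℕ) (@Bool.rec (fun _ => ℕ) (@Bool.rec (fun _ => ℕ) (t3971_3980 i) (t3980_3989 i) (Nat.ble (nat_lit 3980) i)) (@Bool.rec (fun _ => ℕ) (t3989_3998 i) (t3998_4008 i) (Nat.ble (nat_lit 3998) i)) (Nat.ble (nat_lit 3989) i)) (@Bool.rec (fun _ => ℕ) (@Bool.rec (fun _ => ℕ) (t4008_4017 i) (t4017_4027 i) (Nat.ble (nat_lit 4017) i)) (@Bool.rec (fun _ => ℕ) (t4027_4036 i) (t4036_4046 i) (Nat.ble (nat_lit 4036) i)) (Nat.ble (nat_lit 4027) i)) (Nat.ble (nat_lit 4008) i))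
noncomputable def t4053_4055 (i : ℕ) : ℕ := (@Bool.rec (fun _ => ℕ) l4053 l4054 (Nat.ble (nat_lit 4054) i))
noncomputable def t4046_4055 (i : ℕ) : ℕ := (@Bool.rec (fun _ => ℕ) (@Bool.rec (fun _ => ℕ) (@Bool.rec (fun _ => ℕ) l4046 l4047 (Nat.ble (nat_lit 4047) i)) (@Bool.rec (fun _ => ℕ) l4048 l4049 (Nat.ble (nat_lit 4049) i)) (Nat.ble (nat_lit 4048) i)) (@Bool.rec (fun _ => ℕ) (@Bool.rec (fun _ => ℕ) l4050 l4051 (Nat.ble (nat_lit 4051) i)) (@Bool.rec (fun _ => ℕ) l4052 (t4053_4055 i) (Nat.ble (nat_lit 4053) i)) (Nat.ble (nat_lit 4052) i)) (Nat.ble (nat_lit 4050) i))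
noncomputable def t4062_4064 (i : ℕ) : ℕ := (@Bool.rec (fun _ => ℕ) l4062 l4063 (Nat.ble (nat_lit 4063) i))
noncomputable def t4055_4064 (i : ℕ) : ℕ := (@Bool.rec (fun _ => ℕ) (@Bool.rec (fun _ => ℕ) (@Bool.rec (fun _ => ℕ) l4055 l4056 (Nat.ble (nat_lit 4056) i)) (@Bool.rec (fun _ => ℕ) l4057 l4058 (Nat.ble (nat_lit 4058) i)) (Nat.ble (nat_lit 4057) i)) (@Bool.rec (fun _ => ℕ) (@Bool.rec (fun _ => ℕ) l4059 l4060 (Nat.ble (nat_lit 4060) i)) (@Bool.rec (fun _ => ℕ) l4061 (t4062_4064 i) (Nat.ble (nat_lit 4062) i)) (Nat.ble (nat_lit 4061) i)) (Nat.ble (nat_lit 4059) i))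
noncomputable def t4071_4073 (i : ℕ) : ℕ := (@Bool.rec (fun _ => ℕ) l4071 l4072 (Nat.ble (nat_lit 4072) i))
noncomputable def t4064_4073 (i : ℕ) : ℕ := (@Bool.rec (fun _ => ℕ) (@Bool.rec (fun _ => ℕ) (@Bool.rec (fun _ => ℕ) l4064 l4065 (Nat.ble (nat_lit 4065) i)) (@Bool.rec (fun _ => ℕ) l4066 l4067 (Nat.ble (nat_lit 4067) i)) (Nat.ble (nat_lit 4066) i)) (@Bool.rec (fun _ => ℕ) (@Bool.rec (fun _ => ℕ) l4068 l4069 (Nat.ble (nat_lit 4069) i)) (@Bool.rec (fun _ => ℕ) l4070 (t4071_4073 i) (Nat.ble (nat_lit 4071) i)) (Nat.ble (nat_lit 4070) i)) (Nat.ble (nat_lit 4068) i))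
noncomputable def t4076_4078 (i : ℕ) : ℕ := (@Bool.rec (fun _ => ℕ) l4076 l4077 (Nat.ble (nat_lit 4077) i))
noncomputable def t4081_4083 (i : ℕ) : ℕ := (@Bool.rec (fun _ => ℕ) l4081 l4082 (Nat.ble (nat_lit 4082) i))
noncomputable def t4073_4083 (i : ℕ) : ℕ := (@Bool.rec (fun _ => ℕ) (@Bool.rec (fun _ => ℕ) (@Bool.rec (fun _ => ℕ) l4073 l4074 (Nat.ble (nat_lit 4074) i)) (@Bool.rec (fun _ => ℕ) l4075 (t4076_4078 i) (Nat.ble (nat_lit 4076) i)) (Nat.ble (nat_lit 4075) i)) (@Bool.rec (fun _ => ℕ) (@Bool.rec (fun _ => ℕ) l4078 l4079 (Nat.ble (nat_lit 4079) i)) (@Bool.rec (fun _ => ℕ) l4080 (t4081_4083 i) (Nat.ble (nat_lit 4081) i)) (Nat.ble (nat_lit 4080) i)) (Nat.ble (nat_lit 4078) i))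
noncomputable def t4090_4092 (i : ℕ) : ℕ := (@Bool.rec (fun _ => ℕ) l4090 l4091 (Nat.ble (nat_lit 4091) i))
noncomputable def t4083_4092 (i : ℕ) : ℕ := (@Bool.rec (fun _ => ℕ) (@Bool.rec (fun _ => ℕ) (@Bool.rec (fun _ => ℕ) l4083 l4084 (Nat.ble (nat_lit 4084) i)) (@Bool.rec (fun _ => ℕ) l4085 l4086 (Nat.ble (nat_lit 4086) i)) (Nat.ble (nat_lit 4085) i)) (@Bool.rec (fun _ => ℕ) (@Bool.rec (fun _ => ℕ) l4087 l4088 (Nat.ble (nat_lit 4088) i)) (@Bool.rec (fun _ => ℕ) l4089 (t4090_4092 i) (Nat.ble (nat_lit 4090) i)) (Nat.ble (nat_lit 4089) i)) (Nat.ble (nat_lit 4087) i))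
noncomputable def t4095_4097 (i : ℕ) : ℕ := (@Bool.rec (fun _ => ℕ) l4095 l4096 (Nat.ble (nat_lit 4096) i))
noncomputable def t4100_4102 (i : ℕ) : ℕ := (@Bool.rec (fun _ => ℕ) l4100 l4101 (Nat.ble (nat_lit 4101) i))
noncomputable def t4092_4102 (i : ℕ) : ℕ := (@Bool.rec (fun _ => ℕ) (@Bool.rec (fun _ => ℕ) (@Bool.rec (fun _ => ℕ) l4092 l4093 (Nat.ble (nat_lit 4093) i)) (@Bool.rec (fun _ => ℕ) l4094 (t4095_4097 i) (Nat.ble (nat_lit 4095) i)) (Nat.ble (nat_lit 4094) i)) (@Bool.rec (fun _ => ℕ) (@Bool.rec (fun _ => ℕ) l4097 l4098 (Nat.ble (nat_lit 4098) i)) (@Bool.rec (fun _ => ℕ) l4099 (t4100_4102 i) (Nat.ble (nat_lit 4100) i)) (Nat.ble (nat_lit 4099) i)) (Nat.ble (nat_lit 4097) i))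
noncomputable def t4109_4111 (i : ℕ) : ℕ := (@Bool.rec (fun _ => ℕ) l4109 l4110 (Nat.ble (nat_lit 4110) i))
noncomputable def t4102_4111 (i : ℕ) : ℕ := (@Bool.rec (fun _ => ℕ) (@Bool.rec (fun _ => ℕ) (@Bool.rec (fun _ => ℕ) l4102 l4103 (Nat.ble (nat_lit 4103) i)) (@Bool.rec (fun _ => ℕ) l4104 l4105 (Nat.ble (nat_lit 4105) i)) (Nat.ble (nat_lit 4104) i)) (@Bool.rec (fun _ => ℕ) (@Bool.rec (fun _ => ℕ) l4106 l4107 (Nat.ble (nat_lit 4107) i)) (@Bool.rec (fun _ => ℕ) l4108 (t4109_4111 i) (Nat.ble (nat_lit 4109) i)) (Nat.ble (nat_lit 4108) i)) (Nat.ble (nat_lit 4106) i))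
noncomputable def t4114_4116 (i : ℕ) : ℕ := (@Bool.rec (fun _ => ℕ) l4114 l4115 (Nat.ble (nat_lit 4115) i))
noncomputable def t4119_4121 (i : ℕ) : ℕ := (@Bool.rec (fun _ => ℕ) l4119 l4120 (Nat.ble (nat_lit 4120) i))
noncomputable def t4111_4121 (i : ℕ) : ℕ := (@Bool.rec (fun _ => ℕ) (@Bool.rec (fun _ => ℕ) (@Bool.rec (fun _ => ℕ) l4111 l4112 (Nat.ble (nat_lit 4112) i)) (@Bool.rec (fun _ => ℕ) l4113 (t4114_4116 i) (Nat.ble (nat_lit 4114) i)) (Nat.ble (nat_lit 4113) i)) (@Bool.rec (fun _ => ℕ) (@Bool.rec (fun _ => ℕ) l4116 l4117 (Nat.ble (nat_lit 4117) i)) (@Bool.rec (fun _ => ℕ) l4118 (t4119_4121 i) (Nat.ble (nat_lit 4119) i)) (Nat.ble (nat_lit 4118) i)) (Nat.ble (nat_lit 4116) i))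
noncomputable def t4046_4121 (i : ℕ) : ℕ := (@Bool.rec (fun _ => ℕ) (@Bool.rec (fun _ => ℕ) (@Bool.rec (fun _ => ℕ) (t4046_4055 i) (t4055_4064 i) (Nat.ble (nat_lit 4055) i)) (@Bool.rec (fun _ => ℕ) (t4064_4073 i) (t4073_4083 i) (Nat.ble (nat_lit 4073) i)) (Nat.ble (nat_lit 4064) i)) (@Bool.rec (fun _ => ℕ) (@Bool.rec (fun _ => ℕ) (t4083_4092 i) (t4092_4102 i) (Nat.ble (nat_lit 4092) i)) (@Bool.rec (fun _ => ℕ) (t4102_4111 i) (t4111_4121 i) (Nat.ble (nat_lit 4111) i)) (Nat.ble (nat_lit 4102) i)) (Nat.ble (nat_lit 4083) i))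
noncomputable def t4128_4130 (i : ℕ) : ℕ := (@Bool.rec (fun _ => ℕ) l4128 l4129 (Nat.ble (nat_lit 4129) i))
noncomputable def t4121_4130 (i : ℕ) : ℕ := (@Bool.rec (fun _ => ℕ) (@Bool.rec (fun _ => ℕ) (@Bool.rec (fun _ => ℕ) l4121 l4122 (Nat.ble (nat_lit 4122) i)) (@Bool.rec (fun _ => ℕ) l4123 l4124 (Nat.ble (nat_lit 4124) i)) (Nat.ble (nat_lit 4123) i)) (@Bool.rec (fun _ => ℕ) (@Bool.rec (fun _ => ℕ) l4125 l4126 (Nat.ble (nat_lit 4126) i)) (@Bool.rec (fun _ => ℕ) l4127 (t4128_4130 i) (Nat.ble (nat_lit 4128) i)) (Nat.ble (nat_lit 4127) i)) (Nat.ble (nat_lit 4125) i))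
noncomputable def t4137_4139 (i : ℕ) : ℕ := (@Bool.rec (fun _ => ℕ) l4137 l4138 (Nat.ble (nat_lit 4138) i))
noncomputable def t4130_4139 (i : ℕ) : ℕ := (@Bool.rec (fun _ => ℕ) (@Bool.rec (fun _ => ℕ) (@Bool.rec (fun _ => ℕ) l4130 l4131 (Nat.ble (nat_lit 4131) i)) (@Bool.rec (fun _ => ℕ) l4132 l4133 (Nat.ble (nat_lit 4133) i)) (Nat.ble (nat_lit 4132) i)) (@Bool.rec (fun _ => ℕ) (@Bool.rec (fun _ => ℕ) l4134 l4135 (Nat.ble (nat_lit 4135) i)) (@Bool.rec (fun _ => ℕ) l4136 (t4137_4139 i) (Nat.ble (nat_lit 4137) i)) (Nat.ble (nat_lit 4136) i)) (Nat.ble (nat_lit 4134) i))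
noncomputable def t4146_4148 (i : ℕ) : ℕ := (@Bool.rec (fun _ => ℕ) l4146 l4147 (Nat.ble (nat_lit 4147) i))
noncomputable def t4139_4148 (i : ℕ) : ℕ := (@Bool.rec (fun _ => ℕ) (@Bool.rec (fun _ => ℕ) (@Bool.rec (fun _ => ℕ) l4139 l4140 (Nat.ble (nat_lit 4140) i)) (@Bool.rec (fun _ => ℕ) l4141 l4142 (Nat.ble (nat_lit 4142) i)) (Nat.ble (nat_lit 4141) i)) (@Bool.rec (fun _ => ℕ) (@Bool.rec (fun _ => ℕ) l4143 l4144 (Nat.ble (nat_lit 4144) i)) (@Bool.rec (fun _ => ℕ) l4145 (t4146_4148 i) (Nat.ble (nat_lit 4146) i)) (Nat.ble (nat_lit 4145) i)) (Nat.ble (nat_lit 4143) i))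
noncomputable def t4151_4153 (i : ℕ) : ℕ := (@Bool.rec (fun _ => ℕ) l4151 l4152 (Nat.ble (nat_lit 4152) i))
noncomputable def t4156_4158 (i : ℕ) : ℕ := (@Bool.rec (fun _ => ℕ) l4156 l4157 (Nat.ble (nat_lit 4157) i))
noncomputable def t4148_4158 (i : ℕ) : ℕ := (@Bool.rec (fun _ => ℕ) (@Bool.rec (fun _ => ℕ) (@Bool.rec (fun _ => ℕ) l4148 l4149 (Nat.ble (nat_lit 4149) i)) (@Bool.rec (fun _ => ℕ) l4150 (t4151_4153 i) (Nat.ble (nat_lit 4151) i)) (Nat.ble (nat_lit 4150) i)) (@Bool.rec (fun _ => ℕ) (@Bool.rec (fun _ => ℕ) l4153 l4154 (Nat.ble (nat_lit 4154) i)) (@Bool.rec (fun _ => ℕ) l4155 (t4156_4158 i) (Nat.ble (nat_lit 4156) i)) (Nat.ble (nat_lit 4155) i)) (Nat.ble (nat_lit 4153) i))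
noncomputable def t4165_4167 (i : ℕ) : ℕ := (@Bool.rec (fun _ => ℕ) l4165 l4166 (Nat.ble (nat_lit 4166) i))
noncomputable def t4158_4167 (i : ℕ) : ℕ := (@Bool.rec (fun _ => ℕ) (@Bool.rec (fun _ => ℕ) (@Bool.rec (fun _ => ℕ) l4158 l4159 (Nat.ble (nat_lit 4159) i)) (@Bool.rec (fun _ => ℕ) l4160 l4161 (Nat.ble (nat_lit 4161) i)) (Nat.ble (nat_lit 4160) i)) (@Bool.rec (fun _ => ℕ) (@Bool.rec (fun _ => ℕ) l4162 l4163 (Nat.ble (nat_lit 4163) i)) (@Bool.rec (fun _ => ℕ) l4164 (t4165_4167 i) (Nat.ble (nat_lit 4165) i)) (Nat.ble (nat_lit 4164) i)) (Nat.ble (nat_lit 4162) i))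
noncomputable def t4170_4172 (i : ℕ) : ℕ := (@Bool.rec (fun _ => ℕ) l4170 l4171 (Nat.ble (nat_lit 4171) i))
noncomputable def t4175_4177 (i : ℕ) : ℕ := (@Bool.rec (fun _ => ℕ) l4175 l4176 (Nat.ble (nat_lit 4176) i))
noncomputable def t4167_4177 (i : ℕ) : ℕ := (@Bool.rec (fun _ => ℕ) (@Bool.rec (fun _ => ℕ) (@Bool.rec (fun _ => ℕ) l4167 l4168 (Nat.ble (nat_lit 4168) i)) (@Bool.rec (fun _ => ℕ) l4169 (t4170_4172 i) (Nat.ble (nat_lit 4170) i)) (Nat.ble (nat_lit 4169) i)) (@Bool.rec (fun _ => ℕ) (@Bool.rec (fun _ => ℕ) l4172 l4173 (Nat.ble (nat_lit 4173) i)) (@Bool.rec (fun _ => ℕ) l4174 (t4175_4177 i) (Nat.ble (nat_lit 4175) i)) (Nat.ble (nat_lit 4174) i)) (Nat.ble (nat_lit 4172) i))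
noncomputable def t4184_4186 (i : ℕ) : ℕ := (@Bool.rec (fun _ => ℕ) l4184 l4185 (Nat.ble (nat_lit 4185) i))
noncomputable def t4177_4186 (i : ℕ) : ℕ := (@Bool.rec (fun _ => ℕ) (@Bool.rec (fun _ => ℕ) (@Bool.rec (fun _ => ℕ) l4177 l4178 (Nat.ble (nat_lit 4178) i)) (@Bool.rec (fun _ => ℕ) l4179 l4180 (Nat.ble (nat_lit 4180) i)) (Nat.ble (nat_lit 4179) i)) (@Bool.rec (fun _ => ℕ) (@Bool.rec (fun _ => ℕ) l4181 l4182 (Nat.ble (nat_lit 4182) i)) (@Bool.rec (fun _ => ℕ) l4183 (t4184_4186 i) (Nat.ble (nat_lit 4184) i)) (Nat.ble (nat_lit 4183) i)) (Nat.ble (nat_lit 4181) i))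
noncomputable def t4189_4191 (i : ℕ) : ℕ := (@Bool.rec (fun _ => ℕ) l4189 l4190 (Nat.ble (nat_lit 4190) i))
noncomputable def t4194_4196 (i : ℕ) : ℕ := (@Bool.rec (fun _ => ℕ) l4194 l4195 (Nat.ble (nat_lit 4195) i))
noncomputable def t4186_4196 (i : ℕ) : ℕ := (@Bool.rec (fun _ => ℕ) (@Bool.rec (fun _ => ℕ) (@Bool.rec (fun _ => ℕ) l4186 l4187 (Nat.ble (nat_lit 4187) i)) (@Bool.rec (fun _ => ℕ) l4188 (t4189_4191 i) (Nat.ble (nat_lit 4189) i)) (Nat.ble (nat_lit 4188) i)) (@Bool.rec (fun _ => ℕ) (@Bool.rec (fun _ => ℕ) l4191 l4192 (Nat.ble (nat_lit 4192) i)) (@Bool.rec (fun _ => ℕ) l4193 (t4194_4196 i) (Nat.ble (nat_lit 4194) i)) (Nat.ble (nat_lit 4193) i)) (Nat.ble (nat_lit 4191) i))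
noncomputable def t4121_4196 (i : ℕ) : ℕ := (@Bool.rec (fun _ => ℕ) (@Bool.rec (fun _ => ℕ) (@Bool.rec (fun _ => ℕ) (t4121_4130 i) (t4130_4139 i) (Nat.ble (nat_lit 4130) i)) (@Bool.rec (fun _ => ℕ) (t4139_4148 i) (t4148_4158 i) (Nat.ble (nat_lit 4148) i)) (Nat.ble (nat_lit 4139) i)) (@Bool.rec (fun _ => ℕ) (@Bool.rec (fun _ => ℕ) (t4158_4167 i) (t4167_4177 i) (Nat.ble (nat_lit 4167) i)) (@Bool.rec (fun _ => ℕ) (t4177_4186 i) (t4186_4196 i) (Nat.ble (nat_lit 4186) i)) (Nat.ble (nat_lit 4177) i)) (Nat.ble (nat_lit 4158) i))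
noncomputable def t3597_4196 (i : ℕ) : ℕ := (@Bool.rec (fun _ => ℕ) (@Bool.rec (fun _ => ℕ) (@Bool.rec (fun _ => ℕ) (t3597_3671 i) (t3671_3746 i) (Nat.ble (nat_lit 3671) i)) (@Bool.rec (fun _ => ℕ) (t3746_3821 i) (t3821_3896 i) (Nat.ble (nat_lit 3821) i)) (Nat.ble (nat_lit 3746) i)) (@Bool.rec (fun _ => ℕ) (@Bool.rec (fun _ => ℕ) (t3896_3971 i) (t3971_4046 i) (Nat.ble (nat_lit 3971) i)) (@Bool.rec (fun _ => ℕ) (t4046_4121 i) (t4121_4196 i) (Nat.ble (nat_lit 4121) i)) (Nat.ble (nat_lit 4046) i)) (Nat.ble (nat_lit 3896) i))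
noncomputable def t4203_4205 (i : ℕ) : ℕ := (@Bool.rec (fun _ => ℕ) l4203 l4204 (Nat.ble (nat_lit 4204) i))
noncomputable def t4196_4205 (i : ℕ) : ℕ := (@Bool.rec (fun _ => ℕ) (@Bool.rec (fun _ => ℕ) (@Bool.rec (fun _ => ℕ) l4196 l4197 (Nat.ble (nat_lit 4197) i)) (@Bool.rec (fun _ => ℕ) l4198 l4199 (Nat.ble (nat_lit 4199) i)) (Nat.ble (nat_lit 4198) i)) (@Bool.rec (fun _ => ℕ) (@Bool.rec (fun _ => ℕ) l4200 l4201 (Nat.ble (nat_lit 4201) i)) (@Bool.rec (fun _ => ℕ) l4202 (t4203_4205 i) (Nat.ble (nat_lit 4203) i)) (Nat.ble (nat_lit 4202) i)) (Nat.ble (nat_lit 4200) i))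
noncomputable def t4212_4214 (i : ℕ) : ℕ := (@Bool.rec (fun _ => ℕ) l4212 l4213 (Nat.ble (nat_lit 4213) i))
noncomputable def t4205_4214 (i : ℕ) : ℕ := (@Bool.rec (fun _ => ℕ) (@Bool.rec (fun _ => ℕ) (@Bool.rec (fun _ => ℕ) l4205 l4206 (Nat.ble (nat_lit 4206) i)) (@Bool.rec (fun _ => ℕ) l4207 l4208 (Nat.ble (nat_lit 4208) i)) (Nat.ble (nat_lit 4207) i)) (@Bool.rec (fun _ => ℕ) (@Bool.rec (fun _ => ℕ) l4209 l4210 (Nat.ble (nat_lit 4210) i)) (@Bool.rec (fun _ => ℕ) l4211 (t4212_4214 i) (Nat.ble (nat_lit 4212) i)) (Nat.ble (nat_lit 4211) i)) (Nat.ble (nat_lit 4209) i))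
noncomputable def t4221_4223 (i : ℕ) : ℕ := (@Bool.rec (fun _ => ℕ) l4221 l4222 (Nat.ble (nat_lit 4222) i))
noncomputable def t4214_4223 (i : ℕ) : ℕ := (@Bool.rec (fun _ => ℕ) (@Bool.rec (fun _ => ℕ) (@Bool.rec (fun _ => ℕ) l4214 l4215 (Nat.ble (nat_lit 4215) i)) (@Bool.rec (fun _ => ℕ) l4216 l4217 (Nat.ble (nat_lit 4217) i)) (Nat.ble (nat_lit 4216) i)) (@Bool.rec (fun _ => ℕ) (@Bool.rec (fun _ => ℕ) l4218 l4219 (Nat.ble (nat_lit 4219) i)) (@Bool.rec (fun _ => ℕ) l4220 (t4221_4223 i) (Nat.ble (nat_lit 4221) i)) (Nat.ble (nat_lit 4220) i)) (Nat.ble (nat_lit 4218) i))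
noncomputable def t4226_4228 (i : ℕ) : ℕ := (@Bool.rec (fun _ => ℕ) l4226 l4227 (Nat.ble (nat_lit 4227) i))
noncomputable def t4231_4233 (i : ℕ) : ℕ := (@Bool.rec (fun _ => ℕ) l4231 l4232 (Nat.ble (nat_lit 4232) i))
noncomputable def t4223_4233 (i : ℕ) : ℕ := (@Bool.rec (fun _ => ℕ) (@Bool.rec (fun _ => ℕ) (@Bool.rec (fun _ => ℕ) l4223 l4224 (Nat.ble (nat_lit 4224) i)) (@Bool.rec (fun _ => ℕ) l4225 (t4226_4228 i) (Nat.ble (nat_lit 4226) i)) (Nat.ble (nat_lit 4225) i)) (@Bool.rec (fun _ => ℕ) (@Bool.rec (fun _ => ℕ) l4228 l4229 (Nat.ble (nat_lit 4229) i)) (@Bool.rec (fun _ => ℕ) l4230 (t4231_4233 i) (Nat.ble (nat_lit 4231) i)) (Nat.ble (nat_lit 4230) i)) (Nat.ble (nat_lit 4228) i))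
noncomputable def t4240_4242 (i : ℕ) : ℕ := (@Bool.rec (fun _ => ℕ) l4240 l4241 (Nat.ble (nat_lit 4241) i))
noncomputable def t4233_4242 (i : ℕ) : ℕ := (@Bool.rec (fun _ => ℕ) (@Bool.rec (fun _ => ℕ) (@Bool.rec (fun _ => ℕ) l4233 l4234 (Nat.ble (nat_lit 4234) i)) (@Bool.rec (fun _ => ℕ) l4235 l4236 (Nat.ble (nat_lit 4236) i)) (Nat.ble (nat_lit 4235) i)) (@Bool.rec (fun _ => ℕ) (@Bool.rec (fun _ => ℕ) l4237 l4238 (Nat.ble (nat_lit 4238) i)) (@Bool.rec (fun _ => ℕ) l4239 (t4240_4242 i) (Nat.ble (nat_lit 4240) i)) (Nat.ble (nat_lit 4239) i)) (Nat.ble (nat_lit 4237) i))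
noncomputable def t4245_4247 (i : ℕ) : ℕ := (@Bool.rec (fun _ => ℕ) l4245 l4246 (Nat.ble (nat_lit 4246) i))
noncomputable def t4250_4252 (i : ℕ) : ℕ := (@Bool.rec (fun _ => ℕ) l4250 l4251 (Nat.ble (nat_lit 4251) i))
noncomputable def t4242_4252 (i : ℕ) : ℕ := (@Bool.rec (fun _ => ℕ) (@Bool.rec (fun _ => ℕ) (@Bool.rec (fun _ => ℕ) l4242 l4243 (Nat.ble (nat_lit 4243) i)) (@Bool.rec (fun _ => ℕ) l4244 (t4245_4247 i) (Nat.ble (nat_lit 4245) i)) (Nat.ble (nat_lit 4244) i)) (@Bool.rec (fun _ => ℕ) (@Bool.rec (fun _ => ℕ) l4247 l4248 (Nat.ble (nat_lit 4248) i)) (@Bool.rec (fun _ => ℕ) l4249 (t4250_4252 i) (Nat.ble (nat_lit 4250) i)) (Nat.ble (nat_lit 4249) i)) (Nat.ble (nat_lit 4247) i))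
noncomputable def t4259_4261 (i : ℕ) : ℕ := (@Bool.rec (fun _ => ℕ) l4259 l4260 (Nat.ble (nat_lit 4260) i))
noncomputable def t4252_4261 (i : ℕ) : ℕ := (@Bool.rec (fun _ => ℕ) (@Bool.rec (fun _ => ℕ) (@Bool.rec (fun _ => ℕ) l4252 l4253 (Nat.ble (nat_lit 4253) i)) (@Bool.rec (fun _ => ℕ) l4254 l4255 (Nat.ble (nat_lit 4255) i)) (Nat.ble (nat_lit 4254) i)) (@Bool.rec (fun _ => ℕ) (@Bool.rec (fun _ => ℕ) l4256 l4257 (Nat.ble (nat_lit 4257) i)) (@Bool.rec (fun _ => ℕ) l4258 (t4259_4261 i) (Nat.ble (nat_lit 4259) i)) (Nat.ble (nat_lit 4258) i)) (Nat.ble (nat_lit 4256) i))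
noncomputable def t4264_4266 (i : ℕ) : ℕ := (@Bool.rec (fun _ => ℕ) l4264 l4265 (Nat.ble (nat_lit 4265) i))
noncomputable def t4269_4271 (i : ℕ) : ℕ := (@Bool.rec (fun _ => ℕ) l4269 l4270 (Nat.ble (nat_lit 4270) i))
noncomputable def t4261_4271 (i : ℕ) : ℕ := (@Bool.rec (fun _ => ℕ) (@Bool.rec (fun _ => ℕ) (@Bool.rec (fun _ => ℕ) l4261 l4262 (Nat.ble (nat_lit 4262) i)) (@Bool.rec (fun _ => ℕ) l4263 (t4264_4266 i) (Nat.ble (nat_lit 4264) i)) (Nat.ble (nat_lit 4263) i)) (@Bool.rec (fun _ => ℕ) (@Bool.rec (fun _ => ℕ) l4266 l4267 (Nat.ble (nat_lit 4267) i)) (@Bool.rec (fun _ => ℕ) l4268 (t4269_4271 i) (Nat.ble (nat_lit 4269) i)) (Nat.ble (nat_lit 4268) i)) (Nat.ble (nat_lit 4266) i))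
noncomputable def t4196_4271 (i : ℕ) : ℕ := (@Bool.rec (fun _ => ℕ) (@Bool.rec (fun _ => ℕ) (@Bool.rec (fun _ => ℕ) (t4196_4205 i) (t4205_4214 i) (Nat.ble (nat_lit 4205) i)) (@Bool.rec (fun _ => ℕ) (t4214_4223 i) (t4223_4233 i) (Nat.ble (nat_lit 4223) i)) (Nat.ble (nat_lit 4214) i)) (@Bool.rec (fun _ => ℕ) (@Bool.rec (fun _ => ℕ) (t4233_4242 i) (t4242_4252 i) (Nat.ble (nat_lit 4242) i)) (@Bool.rec (fun _ => ℕ) (t4252_4261 i) (t4261_4271 i) (Nat.ble (nat_lit 4261) i)) (Nat.ble (nat_lit 4252) i)) (Nat.ble (nat_lit 4233) i))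
noncomputable def t4278_4280 (i : ℕ) : ℕ := (@Bool.rec (fun _ => ℕ) l4278 l4279 (Nat.ble (nat_lit 4279) i))
noncomputable def t4271_4280 (i : ℕ) : ℕ := (@Bool.rec (fun _ => ℕ) (@Bool.rec (fun _ => ℕ) (@Bool.rec (fun _ => ℕ) l4271 l4272 (Nat.ble (nat_lit 4272) i)) (@Bool.rec (fun _ => ℕ) l4273 l4274 (Nat.ble (nat_lit 4274) i)) (Nat.ble (nat_lit 4273) i)) (@Bool.rec (fun _ => ℕ) (@Bool.rec (fun _ => ℕ) l4275 l4276 (Nat.ble (nat_lit 4276) i)) (@Bool.rec (fun _ => ℕ) l4277 (t4278_4280 i) (Nat.ble (nat_lit 4278) i)) (Nat.ble (nat_lit 4277) i)) (Nat.ble (nat_lit 4275) i))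
noncomputable def t4287_4289 (i : ℕ) : ℕ := (@Bool.rec (fun _ => ℕ) l4287 l4288 (Nat.ble (nat_lit 4288) i))
noncomputable def t4280_4289 (i : ℕ) : ℕ := (@Bool.rec (fun _ => ℕ) (@Bool.rec (fun _ => ℕ) (@Bool.rec (fun _ => ℕ) l4280 l4281 (Nat.ble (nat_lit 4281) i)) (@Bool.rec (fun _ => ℕ) l4282 l4283 (Nat.ble (nat_lit 4283) i)) (Nat.ble (nat_lit 4282) i)) (@Bool.rec (fun _ => ℕ) (@Bool.rec (fun _ => ℕ) l4284 l4285 (Nat.ble (nat_lit 4285) i)) (@Bool.rec (fun _ => ℕ) l4286 (t4287_4289 i) (Nat.ble (nat_lit 4287) i)) (Nat.ble (nat_lit 4286) i)) (Nat.ble (nat_lit 4284) i))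
noncomputable def t4296_4298 (i : ℕ) : ℕ := (@Bool.rec (fun _ => ℕ) l4296 l4297 (Nat.ble (nat_lit 4297) i))
noncomputable def t4289_4298 (i : ℕ) : ℕ := (@Bool.rec (fun _ => ℕ) (@Bool.rec (fun _ => ℕ) (@Bool.rec (fun _ => ℕ) l4289 l4290 (Nat.ble (nat_lit 4290) i)) (@Bool.rec (fun _ => ℕ) l4291 l4292 (Nat.ble (nat_lit 4292) i)) (Nat.ble (nat_lit 4291) i)) (@Bool.rec (fun _ => ℕ) (@Bool.rec (fun _ => ℕ) l4293 l4294 (Nat.ble (nat_lit 4294) i)) (@Bool.rec (fun _ => ℕ) l4295 (t4296_4298 i) (Nat.ble (nat_lit 4296) i)) (Nat.ble (nat_lit 4295) i)) (Nat.ble (nat_lit 4293) i))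
noncomputable def t4301_4303 (i : ℕ) : ℕ := (@Bool.rec (fun _ => ℕ) l4301 l4302 (Nat.ble (nat_lit 4302) i))
noncomputable def t4306_4308 (i : ℕ) : ℕ := (@Bool.rec (fun _ => ℕ) l4306 l4307 (Nat.ble (nat_lit 4307) i))
noncomputable def t4298_4308 (i : ℕ) : ℕ := (@Bool.rec (fun _ => ℕ) (@Bool.rec (fun _ => ℕ) (@Bool.rec (fun _ => ℕ) l4298 l4299 (Nat.ble (nat_lit 4299) i)) (@Bool.rec (fun _ => ℕ) l4300 (t4301_4303 i) (Nat.ble (nat_lit 4301) i)) (Nat.ble (nat_lit 4300) i)) (@Bool.rec (fun _ => ℕ) (@Bool.rec (fun _ => ℕ) l4303 l4304 (Nat.ble (nat_lit 4304) i)) (@Bool.rec (fun _ => ℕ) l4305 (t4306_4308 i) (Nat.ble (nat_lit 4306) i)) (Nat.ble (nat_lit 4305) i)) (Nat.ble (nat_lit 4303) i))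
noncomputable def t4315_4317 (i : ℕ) : ℕ := (@Bool.rec (fun _ => ℕ) l4315 l4316 (Nat.ble (nat_lit 4316) i))
noncomputable def t4308_4317 (i : ℕ) : ℕ := (@Bool.rec (fun _ => ℕ) (@Bool.rec (fun _ => ℕ) (@Bool.rec (fun _ => ℕ) l4308 l4309 (Nat.ble (nat_lit 4309) i)) (@Bool.rec (fun _ => ℕ) l4310 l4311 (Nat.ble (nat_lit 4311) i)) (Nat.ble (nat_lit 4310) i)) (@Bool.rec (fun _ => ℕ) (@Bool.rec (fun _ => ℕ) l4312 l4313 (Nat.ble (nat_lit 4313) i)) (@Bool.rec (fun _ => ℕ) l4314 (t4315_4317 i) (Nat.ble (nat_lit 4315) i)) (Nat.ble (nat_lit 4314) i)) (Nat.ble (nat_lit 4312) i))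
noncomputable def t4320_4322 (i : ℕ) : ℕ := (@Bool.rec (fun _ => ℕ) l4320 l4321 (Nat.ble (nat_lit 4321) i))
noncomputable def t4325_4327 (i : ℕ) : ℕ := (@Bool.rec (fun _ => ℕ) l4325 l4326 (Nat.ble (nat_lit 4326) i))
noncomputable def t4317_4327 (i : ℕ) : ℕ := (@Bool.rec (fun _ => ℕ) (@Bool.rec (fun _ => ℕ) (@Bool.rec (fun _ => ℕ) l4317 l4318 (Nat.ble (nat_lit 4318) i)) (@Bool.rec (fun _ => ℕ) l4319 (t4320_4322 i) (Nat.ble (nat_lit 4320) i)) (Nat.ble (nat_lit 4319) i)) (@Bool.rec (fun _ => ℕ) (@Bool.rec (fun _ => ℕ) l4322 l4323 (Nat.ble (nat_lit 4323) i)) (@Bool.rec (fun _ => ℕ) l4324 (t4325_4327 i) (Nat.ble (nat_lit 4325) i)) (Nat.ble (nat_lit 4324) i)) (Nat.ble (nat_lit 4322) i))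
noncomputable def t4334_4336 (i : ℕ) : ℕ := (@Bool.rec (fun _ => ℕ) l4334 l4335 (Nat.ble (nat_lit 4335) i))
noncomputable def t4327_4336 (i : ℕ) : ℕ := (@Bool.rec (fun _ => ℕ) (@Bool.rec (fun _ => ℕ) (@Bool.rec (fun _ => ℕ) l4327 l4328 (Nat.ble (nat_lit 4328) i)) (@Bool.rec (fun _ => ℕ) l4329 l4330 (Nat.ble (nat_lit 4330) i)) (Nat.ble (nat_lit 4329) i)) (@Bool.rec (fun _ => ℕ) (@Bool.rec (fun _ => ℕ) l4331 l4332 (Nat.ble (nat_lit 4332) i)) (@Bool.rec (fun _ => ℕ) l4333 (t4334_4336 i) (Nat.ble (nat_lit 4334) i)) (Nat.ble (nat_lit 4333) i)) (Nat.ble (nat_lit 4331) i))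
noncomputable def t4339_4341 (i : ℕ) : ℕ := (@Bool.rec (fun _ => ℕ) l4339 l4340 (Nat.ble (nat_lit 4340) i))
noncomputable def t4344_4346 (i : ℕ) : ℕ := (@Bool.rec (fun _ => ℕ) l4344 l4345 (Nat.ble (nat_lit 4345) i))
noncomputable def t4336_4346 (i : ℕ) : ℕ := (@Bool.rec (fun _ => ℕ) (@Bool.rec (fun _ => ℕ) (@Bool.rec (fun _ => ℕ) l4336 l4337 (Nat.ble (nat_lit 4337) i)) (@Bool.rec (fun _ => ℕ) l4338 (t4339_4341 i) (Nat.ble (nat_lit 4339) i)) (Nat.ble (nat_lit 4338) i)) (@Bool.rec (fun _ => ℕ) (@Bool.rec (fun _ => ℕ) l4341 l4342 (Nat.ble (nat_lit 4342) i)) (@Bool.rec (fun _ => ℕ) l4343 (t4344_4346 i) (Nat.ble (nat_lit 4344) i)) (Nat.ble (nat_lit 4343) i)) (Nat.ble (nat_lit 4341) i))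
noncomputable def t4271_4346 (i : ℕ) : ℕ := (@Bool.rec (fun _ => ℕ) (@Bool.rec (fun _ => ℕ) (@Bool.rec (fun _ => ℕ) (t4271_4280 i) (t4280_4289 i) (Nat.ble (nat_lit 4280) i)) (@Bool.rec (fun _ => ℕ) (t4289_4298 i) (t4298_4308 i) (Nat.ble (nat_lit 4298) i)) (Nat.ble (nat_lit 4289) i)) (@Bool.rec (fun _ => ℕ) (@Bool.rec (fun _ => ℕ) (t4308_4317 i) (t4317_4327 i) (Nat.ble (nat_lit 4317) i)) (@Bool.rec (fun _ => ℕ) (t4327_4336 i) (t4336_4346 i) (Nat.ble (nat_lit 4336) i)) (Nat.ble (nat_lit 4327) i)) (Nat.ble (nat_lit 4308) i))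
noncomputable def t4353_4355 (i : ℕ) : ℕ := (@Bool.rec (fun _ => ℕ) l4353 l4354 (Nat.ble (nat_lit 4354) i))
noncomputable def t4346_4355 (i : ℕ) : ℕ := (@Bool.rec (fun _ => ℕ) (@Bool.rec (fun _ => ℕ) (@Bool.rec (fun _ => ℕ) l4346 l4347 (Nat.ble (nat_lit 4347) i)) (@Bool.rec (fun _ => ℕ) l4348 l4349 (Nat.ble (nat_lit 4349) i)) (Nat.ble (nat_lit 4348) i)) (@Bool.rec (fun _ => ℕ) (@Bool.rec (fun _ => ℕ) l4350 l4351 (Nat.ble (nat_lit 4351) i)) (@Bool.rec (fun _ => ℕ) l4352 (t4353_4355 i) (Nat.ble (nat_lit 4353) i)) (Nat.ble (nat_lit 4352) i)) (Nat.ble (nat_lit 4350) i))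
noncomputable def t4362_4364 (i : ℕ) : ℕ := (@Bool.rec (fun _ => ℕ) l4362 l4363 (Nat.ble (nat_lit 4363) i))
noncomputable def t4355_4364 (i : ℕ) : ℕ := (@Bool.rec (fun _ => ℕ) (@Bool.rec (fun _ => ℕ) (@Bool.rec (fun _ => ℕ) l4355 l4356 (Nat.ble (nat_lit 4356) i)) (@Bool.rec (fun _ => ℕ) l4357 l4358 (Nat.ble (nat_lit 4358) i)) (Nat.ble (nat_lit 4357) i)) (@Bool.rec (fun _ => ℕ) (@Bool.rec (fun _ => ℕ) l4359 l4360 (Nat.ble (nat_lit 4360) i)) (@Bool.rec (fun _ => ℕ) l4361 (t4362_4364 i) (Nat.ble (nat_lit 4362) i)) (Nat.ble (nat_lit 4361) i)) (Nat.ble (nat_lit 4359) i))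
noncomputable def t4371_4373 (i : ℕ) : ℕ := (@Bool.rec (fun _ => ℕ) l4371 l4372 (Nat.ble (nat_lit 4372) i))
noncomputable def t4364_4373 (i : ℕ) : ℕ := (@Bool.rec (fun _ => ℕ) (@Bool.rec (fun _ => ℕ) (@Bool.rec (fun _ => ℕ) l4364 l4365 (Nat.ble (nat_lit 4365) i)) (@Bool.rec (fun _ => ℕ) l4366 l4367 (Nat.ble (nat_lit 4367) i)) (Nat.ble (nat_lit 4366) i)) (@Bool.rec (fun _ => ℕ) (@Bool.rec (fun _ => ℕ) l4368 l4369 (Nat.ble (nat_lit 4369) i)) (@Bool.rec (fun _ => ℕ) l4370 (t4371_4373 i) (Nat.ble (nat_lit 4371) i)) (Nat.ble (nat_lit 4370) i)) (Nat.ble (nat_lit 4368) i))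
noncomputable def t4376_4378 (i : ℕ) : ℕ := (@Bool.rec (fun _ => ℕ) l4376 l4377 (Nat.ble (nat_lit 4377) i))
noncomputable def t4381_4383 (i : ℕ) : ℕ := (@Bool.rec (fun _ => ℕ) l4381 l4382 (Nat.ble (nat_lit 4382) i))
noncomputable def t4373_4383 (i : ℕ) : ℕ := (@Bool.rec (fun _ => ℕ) (@Bool.rec (fun _ => ℕ) (@Bool.rec (fun _ => ℕ) l4373 l4374 (Nat.ble (nat_lit 4374) i)) (@Bool.rec (fun _ => ℕ) l4375 (t4376_4378 i) (Nat.ble (nat_lit 4376) i)) (Nat.ble (nat_lit 4375) i)) (@Bool.rec (fun _ => ℕ) (@Bool.rec (fun _ => ℕ) l4378 l4379 (Nat.ble (nat_lit 4379) i)) (@Bool.rec (fun _ => ℕ) l4380 (t4381_4383 i) (Nat.ble (nat_lit 4381) i)) (Nat.ble (nat_lit 4380) i)) (Nat.ble (nat_lit 4378) i))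
noncomputable def t4390_4392 (i : ℕ) : ℕ := (@Bool.rec (fun _ => ℕ) l4390 l4391 (Nat.ble (nat_lit 4391) i))
noncomputable def t4383_4392 (i : ℕ) : ℕ := (@Bool.rec (fun _ => ℕ) (@Bool.rec (fun _ => ℕ) (@Bool.rec (fun _ => ℕ) l4383 l4384 (Nat.ble (nat_lit 4384) i)) (@Bool.rec (fun _ => ℕ) l4385 l4386 (Nat.ble (nat_lit 4386) i)) (Nat.ble (nat_lit 4385) i)) (@Bool.rec (fun _ => ℕ) (@Bool.rec (fun _ => ℕ) l4387 l4388 (Nat.ble (nat_lit 4388) i)) (@Bool.rec (fun _ => ℕ) l4389 (t4390_4392 i) (Nat.ble (nat_lit 4390) i)) (Nat.ble (nat_lit 4389) i)) (Nat.ble (nat_lit 4387) i))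
noncomputable def t4395_4397 (i : ℕ) : ℕ := (@Bool.rec (fun _ => ℕ) l4395 l4396 (Nat.ble (nat_lit 4396) i))
noncomputable def t4400_4402 (i : ℕ) : ℕ := (@Bool.rec (fun _ => ℕ) l4400 l4401 (Nat.ble (nat_lit 4401) i))
noncomputable def t4392_4402 (i : ℕ) : ℕ := (@Bool.rec (fun _ => ℕ) (@Bool.rec (fun _ => ℕ) (@Bool.rec (fun _ => ℕ) l4392 l4393 (Nat.ble (nat_lit 4393) i)) (@Bool.rec (fun _ => ℕ) l4394 (t4395_4397 i) (Nat.ble (nat_lit 4395) i)) (Nat.ble (nat_lit 4394) i)) (@Bool.rec (fun _ => ℕ) (@Bool.rec (fun _ => ℕ) l4397 l4398 (Nat.ble (nat_lit 4398) i)) (@Bool.rec (fun _ => ℕ) l4399 (t4400_4402 i) (Nat.ble (nat_lit 4400) i)) (Nat.ble (nat_lit 4399) i)) (Nat.ble (nat_lit 4397) i))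
noncomputable def t4409_4411 (i : ℕ) : ℕ := (@Bool.rec (fun _ => ℕ) l4409 l4410 (Nat.ble (nat_lit 4410) i))
noncomputable def t4402_4411 (i : ℕ) : ℕ := (@Bool.rec (fun _ => ℕ) (@Bool.rec (fun _ => ℕ) (@Bool.rec (fun _ => ℕ) l4402 l4403 (Nat.ble (nat_lit 4403) i)) (@Bool.rec (fun _ => ℕ) l4404 l4405 (Nat.ble (nat_lit 4405) i)) (Nat.ble (nat_lit 4404) i)) (@Bool.rec (fun _ => ℕ) (@Bool.rec (fun _ => ℕ) l4406 l4407 (Nat.ble (nat_lit 4407) i)) (@Bool.rec (fun _ => ℕ) l4408 (t4409_4411 i) (Nat.ble (nat_lit 4409) i)) (Nat.ble (nat_lit 4408) i)) (Nat.ble (nat_lit 4406) i))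
noncomputable def t4414_4416 (i : ℕ) : ℕ := (@Bool.rec (fun _ => ℕ) l4414 l4415 (Nat.ble (nat_lit 4415) i))
noncomputable def t4419_4421 (i : ℕ) : ℕ := (@Bool.rec (fun _ => ℕ) l4419 l4420 (Nat.ble (nat_lit 4420) i))
noncomputable def t4411_4421 (i : ℕ) : ℕ := (@Bool.rec (fun _ => ℕ) (@Bool.rec (fun _ => ℕ) (@Bool.rec (fun _ => ℕ) l4411 l4412 (Nat.ble (nat_lit 4412) i)) (@Bool.rec (fun _ => ℕ) l4413 (t4414_4416 i) (Nat.ble (nat_lit 4414) i)) (Nat.ble (nat_lit 4413) i)) (@Bool.rec (fun _ => ℕ) (@Bool.rec (fun _ => ℕ) l4416 l4417 (Nat.ble (nat_lit 4417) i)) (@Bool.rec (fun _ => ℕ) l4418 (t4419_4421 i) (Nat.ble (nat_lit 4419) i)) (Nat.ble (nat_lit 4418) i)) (Nat.ble (nat_lit 4416) i))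
noncomputable def t4346_4421 (i : ℕ) : ℕ := (@Bool.rec (fun _ => ℕ) (@Bool.rec (fun _ => ℕ) (@Bool.rec (fun _ => ℕ) (t4346_4355 i) (t4355_4364 i) (Nat.ble (nat_lit 4355) i)) (@Bool.rec (fun _ => ℕ) (t4364_4373 i) (t4373_4383 i) (Nat.ble (nat_lit 4373) i)) (Nat.ble (nat_lit 4364) i)) (@Bool.rec (fun _ => ℕ) (@Bool.rec (fun _ => ℕ) (t4383_4392 i) (t4392_4402 i) (Nat.ble (nat_lit 4392) i)) (@Bool.rec (fun _ => ℕ) (t4402_4411 i) (t4411_4421 i) (Nat.ble (nat_lit 4411) i)) (Nat.ble (nat_lit 4402) i)) (Nat.ble (nat_lit 4383) i))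
noncomputable def t4428_4430 (i : ℕ) : ℕ := (@Bool.rec (fun _ => ℕ) l4428 l4429 (Nat.ble (nat_lit 4429) i))
noncomputable def t4421_4430 (i : ℕ) : ℕ := (@Bool.rec (fun _ => ℕ) (@Bool.rec (fun _ => ℕ) (@Bool.rec (fun _ => ℕ) l4421 l4422 (Nat.ble (nat_lit 4422) i)) (@Bool.rec (fun _ => ℕ) l4423 l4424 (Nat.ble (nat_lit 4424) i)) (Nat.ble (nat_lit 4423) i)) (@Bool.rec (fun _ => ℕ) (@Bool.rec (fun _ => ℕ) l4425 l4426 (Nat.ble (nat_lit 4426) i)) (@Bool.rec (fun _ => ℕ) l4427 (t4428_4430 i) (Nat.ble (nat_lit 4428) i)) (Nat.ble (nat_lit 4427) i)) (Nat.ble (nat_lit 4425) i))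
noncomputable def t4437_4439 (i : ℕ) : ℕ := (@Bool.rec (fun _ => ℕ) l4437 l4438 (Nat.ble (nat_lit 4438) i))
noncomputable def t4430_4439 (i : ℕ) : ℕ := (@Bool.rec (fun _ => ℕ) (@Bool.rec (fun _ => ℕ) (@Bool.rec (fun _ => ℕ) l4430 l4431 (Nat.ble (nat_lit 4431) i)) (@Bool.rec (fun _ => ℕ) l4432 l4433 (Nat.ble (nat_lit 4433) i)) (Nat.ble (nat_lit 4432) i)) (@Bool.rec (fun _ => ℕ) (@Bool.rec (fun _ => ℕ) l4434 l4435 (Nat.ble (nat_lit 4435) i)) (@Bool.rec (fun _ => ℕ) l4436 (t4437_4439 i) (Nat.ble (nat_lit 4437) i)) (Nat.ble (nat_lit 4436) i)) (Nat.ble (nat_lit 4434) i))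
noncomputable def t4446_4448 (i : ℕ) : ℕ := (@Bool.rec (fun _ => ℕ) l4446 l4447 (Nat.ble (nat_lit 4447) i))
noncomputable def t4439_4448 (i : ℕ) : ℕ := (@Bool.rec (fun _ => ℕ) (@Bool.rec (fun _ => ℕ) (@Bool.rec (fun _ => ℕ) l4439 l4440 (Nat.ble (nat_lit 4440) i)) (@Bool.rec (fun _ => ℕ) l4441 l4442 (Nat.ble (nat_lit 4442) i)) (Nat.ble (nat_lit 4441) i)) (@Bool.rec (fun _ => ℕ) (@Bool.rec (fun _ => ℕ) l4443 l4444 (Nat.ble (nat_lit 4444) i)) (@Bool.rec (fun _ => ℕ) l4445 (t4446_4448 i) (Nat.ble (nat_lit 4446) i)) (Nat.ble (nat_lit 4445) i)) (Nat.ble (nat_lit 4443) i))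
noncomputable def t4451_4453 (i : ℕ) : ℕ := (@Bool.rec (fun _ => ℕ) l4451 l4452 (Nat.ble (nat_lit 4452) i))
noncomputable def t4456_4458 (i : ℕ) : ℕ := (@Bool.rec (fun _ => ℕ) l4456 l4457 (Nat.ble (nat_lit 4457) i))
noncomputable def t4448_4458 (i : ℕ) : ℕ := (@Bool.rec (fun _ => ℕ) (@Bool.rec (fun _ => ℕ) (@Bool.rec (fun _ => ℕ) l4448 l4449 (Nat.ble (nat_lit 4449) i)) (@Bool.rec (fun _ => ℕ) l4450 (t4451_4453 i) (Nat.ble (nat_lit 4451) i)) (Nat.ble (nat_lit 4450) i)) (@Bool.rec (fun _ => ℕ) (@Bool.rec (fun _ => ℕ) l4453 l4454 (Nat.ble (nat_lit 4454) i)) (@Bool.rec (fun _ => ℕ) l4455 (t4456_4458 i) (Nat.ble (nat_lit 4456) i)) (Nat.ble (nat_lit 4455) i)) (Nat.ble (nat_lit 4453) i))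
noncomputable def t4465_4467 (i : ℕ) : ℕ := (@Bool.rec (fun _ => ℕ) l4465 l4466 (Nat.ble (nat_lit 4466) i))
noncomputable def t4458_4467 (i : ℕ) : ℕ := (@Bool.rec (fun _ => ℕ) (@Bool.rec (fun _ => ℕ) (@Bool.rec (fun _ => ℕ) l4458 l4459 (Nat.ble (nat_lit 4459) i)) (@Bool.rec (fun _ => ℕ) l4460 l4461 (Nat.ble (nat_lit 4461) i)) (Nat.ble (nat_lit 4460) i)) (@Bool.rec (fun _ => ℕ) (@Bool.rec (fun _ => ℕ) l4462 l4463 (Nat.ble (nat_lit 4463) i)) (@Bool.rec (fun _ => ℕ) l4464 (t4465_4467 i) (Nat.ble (nat_lit 4465) i)) (Nat.ble (nat_lit 4464) i)) (Nat.ble (nat_lit 4462) i))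
noncomputable def t4470_4472 (i : ℕ) : ℕ := (@Bool.rec (fun _ => ℕ) l4470 l4471 (Nat.ble (nat_lit 4471) i))
noncomputable def t4475_4477 (i : ℕ) : ℕ := (@Bool.rec (fun _ => ℕ) l4475 l4476 (Nat.ble (nat_lit 4476) i))
noncomputable def t4467_4477 (i : ℕ) : ℕ := (@Bool.rec (fun _ => ℕ) (@Bool.rec (fun _ => ℕ) (@Bool.rec (fun _ => ℕ) l4467 l4468 (Nat.ble (nat_lit 4468) i)) (@Bool.rec (fun _ => ℕ) l4469 (t4470_4472 i) (Nat.ble (nat_lit 4470) i)) (Nat.ble (nat_lit 4469) i)) (@Bool.rec (fun _ => ℕ) (@Bool.rec (fun _ => ℕ) l4472 l4473 (Nat.ble (nat_lit 4473) i)) (@Bool.rec (fun _ => ℕ) l4474 (t4475_4477 i) (Nat.ble (nat_lit 4475) i)) (Nat.ble (nat_lit 4474) i)) (Nat.ble (nat_lit 4472) i))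
noncomputable def t4484_4486 (i : ℕ) : ℕ := (@Bool.rec (fun _ => ℕ) l4484 l4485 (Nat.ble (nat_lit 4485) i))
noncomputable def t4477_4486 (i : ℕ) : ℕ := (@Bool.rec (fun _ => ℕ) (@Bool.rec (fun _ => ℕ) (@Bool.rec (fun _ => ℕ) l4477 l4478 (Nat.ble (nat_lit 4478) i)) (@Bool.rec (fun _ => ℕ) l4479 l4480 (Nat.ble (nat_lit 4480) i)) (Nat.ble (nat_lit 4479) i)) (@Bool.rec (fun _ => ℕ) (@Bool.rec (fun _ => ℕ) l4481 l4482 (Nat.ble (nat_lit 4482) i)) (@Bool.rec (fun _ => ℕ) l4483 (t4484_4486 i) (Nat.ble (nat_lit 4484) i)) (Nat.ble (nat_lit 4483) i)) (Nat.ble (nat_lit 4481) i))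
noncomputable def t4489_4491 (i : ℕ) : ℕ := (@Bool.rec (fun _ => ℕ) l4489 l4490 (Nat.ble (nat_lit 4490) i))
noncomputable def t4494_4496 (i : ℕ) : ℕ := (@Bool.rec (fun _ => ℕ) l4494 l4495 (Nat.ble (nat_lit 4495) i))
noncomputable def t4486_4496 (i : ℕ) : ℕ := (@Bool.rec (fun _ => ℕ) (@Bool.rec (fun _ => ℕ) (@Bool.rec (fun _ => ℕ) l4486 l4487 (Nat.ble (nat_lit 4487) i)) (@Bool.rec (fun _ => ℕ) l4488 (t4489_4491 i) (Nat.ble (nat_lit 4489) i)) (Nat.ble (nat_lit 4488) i)) (@Bool.rec (fun _ => ℕ) (@Bool.rec (fun _ => ℕ) l4491 l4492 (Nat.ble (nat_lit 4492) i)) (@Bool.rec (fun _ => ℕ) l4493 (t4494_4496 i) (Nat.ble (nat_lit 4494) i)) (Nat.ble (nat_lit 4493) i)) (Nat.ble (nat_lit 4491) i))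
noncomputable def t4421_4496 (i : ℕ) : ℕ := (@Bool.rec (fun _ => ℕ) (@Bool.rec (fun _ => ℕ) (@Bool.rec (fun _ => ℕ) (t4421_4430 i) (t4430_4439 i) (Nat.ble (nat_lit 4430) i)) (@Bool.rec (fun _ => ℕ) (t4439_4448 i) (t4448_4458 i) (Nat.ble (nat_lit 4448) i)) (Nat.ble (nat_lit 4439) i)) (@Bool.rec (fun _ => ℕ) (@Bool.rec (fun _ => ℕ) (t4458_4467 i) (t4467_4477 i) (Nat.ble (nat_lit 4467) i)) (@Bool.rec (fun _ => ℕ) (t4477_4486 i) (t4486_4496 i) (Nat.ble (nat_lit 4486) i)) (Nat.ble (nat_lit 4477) i)) (Nat.ble (nat_lit 4458) i))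
noncomputable def t4503_4505 (i : ℕ) : ℕ := (@Bool.rec (fun _ => ℕ) l4503 l4504 (Nat.ble (nat_lit 4504) i))
noncomputable def t4496_4505 (i : ℕ) : ℕ := (@Bool.rec (fun _ => ℕ) (@Bool.rec (fun _ => ℕ) (@Bool.rec (fun _ => ℕ) l4496 l4497 (Nat.ble (nat_lit 4497) i)) (@Bool.rec (fun _ => ℕ) l4498 l4499 (Nat.ble (nat_lit 4499) i)) (Nat.ble (nat_lit 4498) i)) (@Bool.rec (fun _ => ℕ) (@Bool.rec (fun _ => ℕ) l4500 l4501 (Nat.ble (nat_lit 4501) i)) (@Bool.rec (fun _ => ℕ) l4502 (t4503_4505 i) (Nat.ble (nat_lit 4503) i)) (Nat.ble (nat_lit 4502) i)) (Nat.ble (nat_lit 4500) i))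
noncomputable def t4512_4514 (i : ℕ) : ℕ := (@Bool.rec (fun _ => ℕ) l4512 l4513 (Nat.ble (nat_lit 4513) i))
noncomputable def t4505_4514 (i : ℕ) : ℕ := (@Bool.rec (fun _ => ℕ) (@Bool.rec (fun _ => ℕ) (@Bool.rec (fun _ => ℕ) l4505 l4506 (Nat.ble (nat_lit 4506) i)) (@Bool.rec (fun _ => ℕ) l4507 l4508 (Nat.ble (nat_lit 4508) i)) (Nat.ble (nat_lit 4507) i)) (@Bool.rec (fun _ => ℕ) (@Bool.rec (fun _ => ℕ) l4509 l4510 (Nat.ble (nat_lit 4510) i)) (@Bool.rec (fun _ => ℕ) l4511 (t4512_4514 i) (Nat.ble (nat_lit 4512) i)) (Nat.ble (nat_lit 4511) i)) (Nat.ble (nat_lit 4509) i))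
noncomputable def t4521_4523 (i : ℕ) : ℕ := (@Bool.rec (fun _ => ℕ) l4521 l4522 (Nat.ble (nat_lit 4522) i))
noncomputable def t4514_4523 (i : ℕ) : ℕ := (@Bool.rec (fun _ => ℕ) (@Bool.rec (fun _ => ℕ) (@Bool.rec (fun _ => ℕ) l4514 l4515 (Nat.ble (nat_lit 4515) i)) (@Bool.rec (fun _ => ℕ) l4516 l4517 (Nat.ble (nat_lit 4517) i)) (Nat.ble (nat_lit 4516) i)) (@Bool.rec (fun _ => ℕ) (@Bool.rec (fun _ => ℕ) l4518 l4519 (Nat.ble (nat_lit 4519) i)) (@Bool.rec (fun _ => ℕ) l4520 (t4521_4523 i) (Nat.ble (nat_lit 4521) i)) (Nat.ble (nat_lit 4520) i)) (Nat.ble (nat_lit 4518) i))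
noncomputable def t4526_4528 (i : ℕ) : ℕ := (@Bool.rec (fun _ => ℕ) l4526 l4527 (Nat.ble (nat_lit 4527) i))
noncomputable def t4531_4533 (i : ℕ) : ℕ := (@Bool.rec (fun _ => ℕ) l4531 l4532 (Nat.ble (nat_lit 4532) i))
noncomputable def t4523_4533 (i : ℕ) : ℕ := (@Bool.rec (fun _ => ℕ) (@Bool.rec (fun _ => ℕ) (@Bool.rec (fun _ => ℕ) l4523 l4524 (Nat.ble (nat_lit 4524) i)) (@Bool.rec (fun _ => ℕ) l4525 (t4526_4528 i) (Nat.ble (nat_lit 4526) i)) (Nat.ble (nat_lit 4525) i)) (@Bool.rec (fun _ => ℕ) (@Bool.rec (fun _ => ℕ) l4528 l4529 (Nat.ble (nat_lit 4529) i)) (@Bool.rec (fun _ => ℕ) l4530 (t4531_4533 i) (Nat.ble (nat_lit 4531) i)) (Nat.ble (nat_lit 4530) i)) (Nat.ble (nat_lit 4528) i))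
noncomputable def t4540_4542 (i : ℕ) : ℕ := (@Bool.rec (fun _ => ℕ) l4540 l4541 (Nat.ble (nat_lit 4541) i))
noncomputable def t4533_4542 (i : ℕ) : ℕ := (@Bool.rec (fun _ => ℕ) (@Bool.rec (fun _ => ℕ) (@Bool.rec (fun _ => ℕ) l4533 l4534 (Nat.ble (nat_lit 4534) i)) (@Bool.rec (fun _ => ℕ) l4535 l4536 (Nat.ble (nat_lit 4536) i)) (Nat.ble (nat_lit 4535) i)) (@Bool.rec (fun _ => ℕ) (@Bool.rec (fun _ => ℕ) l4537 l4538 (Nat.ble (nat_lit 4538) i)) (@Bool.rec (fun _ => ℕ) l4539 (t4540_4542 i) (Nat.ble (nat_lit 4540) i)) (Nat.ble (nat_lit 4539) i)) (Nat.ble (nat_lit 4537) i))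
noncomputable def t4545_4547 (i : ℕ) : ℕ := (@Bool.rec (fun _ => ℕ) l4545 l4546 (Nat.ble (nat_lit 4546) i))
noncomputable def t4550_4552 (i : ℕ) : ℕ := (@Bool.rec (fun _ => ℕ) l4550 l4551 (Nat.ble (nat_lit 4551) i))
noncomputable def t4542_4552 (i : ℕ) : ℕ := (@Bool.rec (fun _ => ℕ) (@Bool.rec (fun _ => ℕ) (@Bool.rec (fun _ => ℕ) l4542 l4543 (Nat.ble (nat_lit 4543) i)) (@Bool.rec (fun _ => ℕ) l4544 (t4545_4547 i) (Nat.ble (nat_lit 4545) i)) (Nat.ble (nat_lit 4544) i)) (@Bool.rec (fun _ => ℕ) (@Bool.rec (fun _ => ℕ) l4547 l4548 (Nat.ble (nat_lit 4548) i)) (@Bool.rec (fun _ => ℕ) l4549 (t4550_4552 i) (Nat.ble (nat_lit 4550) i)) (Nat.ble (nat_lit 4549) i)) (Nat.ble (nat_lit 4547) i))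
noncomputable def t4559_4561 (i : ℕ) : ℕ := (@Bool.rec (fun _ => ℕ) l4559 l4560 (Nat.ble (nat_lit 4560) i))
noncomputable def t4552_4561 (i : ℕ) : ℕ := (@Bool.rec (fun _ => ℕ) (@Bool.rec (fun _ => ℕ) (@Bool.rec (fun _ => ℕ) l4552 l4553 (Nat.ble (nat_lit 4553) i)) (@Bool.rec (fun _ => ℕ) l4554 l4555 (Nat.ble (nat_lit 4555) i)) (Nat.ble (nat_lit 4554) i)) (@Bool.rec (fun _ => ℕ) (@Bool.rec (fun _ => ℕ) l4556 l4557 (Nat.ble (nat_lit 4557) i)) (@Bool.rec (fun _ => ℕ) l4558 (t4559_4561 i) (Nat.ble (nat_lit 4559) i)) (Nat.ble (nat_lit 4558) i)) (Nat.ble (nat_lit 4556) i))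
noncomputable def t4564_4566 (i : ℕ) : ℕ := (@Bool.rec (fun _ => ℕ) l4564 l4565 (Nat.ble (nat_lit 4565) i))
noncomputable def t4569_4571 (i : ℕ) : ℕ := (@Bool.rec (fun _ => ℕ) l4569 l4570 (Nat.ble (nat_lit 4570) i))
noncomputable def t4561_4571 (i : ℕ) : ℕ := (@Bool.rec (fun _ => ℕ) (@Bool.rec (fun _ => ℕ) (@Bool.rec (fun _ => ℕ) l4561 l4562 (Nat.ble (nat_lit 4562) i)) (@Bool.rec (fun _ => ℕ) l4563 (t4564_4566 i) (Nat.ble (nat_lit 4564) i)) (Nat.ble (nat_lit 4563) i)) (@Bool.rec (fun _ => ℕ) (@Bool.rec (fun _ => ℕ) l4566 l4567 (Nat.ble (nat_lit 4567) i)) (@Bool.rec (fun _ => ℕ) l4568 (t4569_4571 i) (Nat.ble (nat_lit 4569) i)) (Nat.ble (nat_lit 4568) i)) (Nat.ble (nat_lit 4566) i))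
noncomputable def t4496_4571 (i : ℕ) : ℕ := (@Bool.rec (fun _ => ℕ) (@Bool.rec (fun _ => ℕ) (@Bool.rec (fun _ => ℕ) (t4496_4505 i) (t4505_4514 i) (Nat.ble (nat_lit 4505) i)) (@Bool.rec (fun _ => ℕ) (t4514_4523 i) (t4523_4533 i) (Nat.ble (nat_lit 4523) i)) (Nat.ble (nat_lit 4514) i)) (@Bool.rec (fun _ => ℕ) (@Bool.rec (fun _ => ℕ) (t4533_4542 i) (t4542_4552 i) (Nat.ble (nat_lit 4542) i)) (@Bool.rec (fun _ => ℕ) (t4552_4561 i) (t4561_4571 i) (Nat.ble (nat_lit 4561) i)) (Nat.ble (nat_lit 4552) i)) (Nat.ble (nat_lit 4533) i))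
noncomputable def t4578_4580 (i : ℕ) : ℕ := (@Bool.rec (fun _ => ℕ) l4578 l4579 (Nat.ble (nat_lit 4579) i))
noncomputable def t4571_4580 (i : ℕ) : ℕ := (@Bool.rec (fun _ => ℕ) (@Bool.rec (fun _ => ℕ) (@Bool.rec (fun _ => ℕ) l4571 l4572 (Nat.ble (nat_lit 4572) i)) (@Bool.rec (fun _ => ℕ) l4573 l4574 (Nat.ble (nat_lit 4574) i)) (Nat.ble (nat_lit 4573) i)) (@Bool.rec (fun _ => ℕ) (@Bool.rec (fun _ => ℕ) l4575 l4576 (Nat.ble (nat_lit 4576) i)) (@Bool.rec (fun _ => ℕ) l4577 (t4578_4580 i) (Nat.ble (nat_lit 4578) i)) (Nat.ble (nat_lit 4577) i)) (Nat.ble (nat_lit 4575) i))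
noncomputable def t4587_4589 (i : ℕ) : ℕ := (@Bool.rec (fun _ => ℕ) l4587 l4588 (Nat.ble (nat_lit 4588) i))
noncomputable def t4580_4589 (i : ℕ) : ℕ := (@Bool.rec (fun _ => ℕ) (@Bool.rec (fun _ => ℕ) (@Bool.rec (fun _ => ℕ) l4580 l4581 (Nat.ble (nat_lit 4581) i)) (@Bool.rec (fun _ => ℕ) l4582 l4583 (Nat.ble (nat_lit 4583) i)) (Nat.ble (nat_lit 4582) i)) (@Bool.rec (fun _ => ℕ) (@Bool.rec (fun _ => ℕ) l4584 l4585 (Nat.ble (nat_lit 4585) i)) (@Bool.rec (fun _ => ℕ) l4586 (t4587_4589 i) (Nat.ble (nat_lit 4587) i)) (Nat.ble (nat_lit 4586) i)) (Nat.ble (nat_lit 4584) i))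
noncomputable def t4596_4598 (i : ℕ) : ℕ := (@Bool.rec (fun _ => ℕ) l4596 l4597 (Nat.ble (nat_lit 4597) i))
noncomputable def t4589_4598 (i : ℕ) : ℕ := (@Bool.rec (fun _ => ℕ) (@Bool.rec (fun _ => ℕ) (@Bool.rec (fun _ => ℕ) l4589 l4590 (Nat.ble (nat_lit 4590) i)) (@Bool.rec (fun _ => ℕ) l4591 l4592 (Nat.ble (nat_lit 4592) i)) (Nat.ble (nat_lit 4591) i)) (@Bool.rec (fun _ => ℕ) (@Bool.rec (fun _ => ℕ) l4593 l4594 (Nat.ble (nat_lit 4594) i)) (@Bool.rec (fun _ => ℕ) l4595 (t4596_4598 i) (Nat.ble (nat_lit 4596) i)) (Nat.ble (nat_lit 4595) i)) (Nat.ble (nat_lit 4593) i))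
noncomputable def t4601_4603 (i : ℕ) : ℕ := (@Bool.rec (fun _ => ℕ) l4601 l4602 (Nat.ble (nat_lit 4602) i))
noncomputable def t4606_4608 (i : ℕ) : ℕ := (@Bool.rec (fun _ => ℕ) l4606 l4607 (Nat.ble (nat_lit 4607) i))
noncomputable def t4598_4608 (i : ℕ) : ℕ := (@Bool.rec (fun _ => ℕ) (@Bool.rec (fun _ => ℕ) (@Bool.rec (fun _ => ℕ) l4598 l4599 (Nat.ble (nat_lit 4599) i)) (@Bool.rec (fun _ => ℕ) l4600 (t4601_4603 i) (Nat.ble (nat_lit 4601) i)) (Nat.ble (nat_lit 4600) i)) (@Bool.rec (fun _ => ℕ) (@Bool.rec (fun _ => ℕ) l4603 l4604 (Nat.ble (nat_lit 4604) i)) (@Bool.rec (fun _ => ℕ) l4605 (t4606_4608 i) (Nat.ble (nat_lit 4606) i)) (Nat.ble (nat_lit 4605) i)) (Nat.ble (nat_lit 4603) i))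
noncomputable def t4615_4617 (i : ℕ) : ℕ := (@Bool.rec (fun _ => ℕ) l4615 l4616 (Nat.ble (nat_lit 4616) i))
noncomputable def t4608_4617 (i : ℕ) : ℕ := (@Bool.rec (fun _ => ℕ) (@Bool.rec (fun _ => ℕ) (@Bool.rec (fun _ => ℕ) l4608 l4609 (Nat.ble (nat_lit 4609) i)) (@Bool.rec (fun _ => ℕ) l4610 l4611 (Nat.ble (nat_lit 4611) i)) (Nat.ble (nat_lit 4610) i)) (@Bool.rec (fun _ => ℕ) (@Bool.rec (fun _ => ℕ) l4612 l4613 (Nat.ble (nat_lit 4613) i)) (@Bool.rec (fun _ => ℕ) l4614 (t4615_4617 i) (Nat.ble (nat_lit 4615) i)) (Nat.ble (nat_lit 4614) i)) (Nat.ble (nat_lit 4612) i))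
noncomputable def t4620_4622 (i : ℕ) : ℕ := (@Bool.rec (fun _ => ℕ) l4620 l4621 (Nat.ble (nat_lit 4621) i))
noncomputable def t4625_4627 (i : ℕ) : ℕ := (@Bool.rec (fun _ => ℕ) l4625 l4626 (Nat.ble (nat_lit 4626) i))
noncomputable def t4617_4627 (i : ℕ) : ℕ := (@Bool.rec (fun _ => ℕ) (@Bool.rec (fun _ => ℕ) (@Bool.rec (fun _ => ℕ) l4617 l4618 (Nat.ble (nat_lit 4618) i)) (@Bool.rec (fun _ => ℕ) l4619 (t4620_4622 i) (Nat.ble (nat_lit 4620) i)) (Nat.ble (nat_lit 4619) i)) (@Bool.rec (fun _ => ℕ) (@Bool.rec (fun _ => ℕ) l4622 l4623 (Nat.ble (nat_lit 4623) i)) (@Bool.rec (fun _ => ℕ) l4624 (t4625_4627 i) (Nat.ble (nat_lit 4625) i)) (Nat.ble (nat_lit 4624) i)) (Nat.ble (nat_lit 4622) i))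
noncomputable def t4634_4636 (i : ℕ) : ℕ := (@Bool.rec (fun _ => ℕ) l4634 l4635 (Nat.ble (nat_lit 4635) i))
noncomputable def t4627_4636 (i : ℕ) : ℕ := (@Bool.rec (fun _ => ℕ) (@Bool.rec (fun _ => ℕ) (@Bool.rec (fun _ => ℕ) l4627 l4628 (Nat.ble (nat_lit 4628) i)) (@Bool.rec (fun _ => ℕ) l4629 l4630 (Nat.ble (nat_lit 4630) i)) (Nat.ble (nat_lit 4629) i)) (@Bool.rec (fun _ => ℕ) (@Bool.rec (fun _ => ℕ) l4631 l4632 (Nat.ble (nat_lit 4632) i)) (@Bool.rec (fun _ => ℕ) l4633 (t4634_4636 i) (Nat.ble (nat_lit 4634) i)) (Nat.ble (nat_lit 4633) i)) (Nat.ble (nat_lit 4631) i))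
noncomputable def t4639_4641 (i : ℕ) : ℕ := (@Bool.rec (fun _ => ℕ) l4639 l4640 (Nat.ble (nat_lit 4640) i))
noncomputable def t4644_4646 (i : ℕ) : ℕ := (@Bool.rec (fun _ => ℕ) l4644 l4645 (Nat.ble (nat_lit 4645) i))
noncomputable def t4636_4646 (i : ℕ) : ℕ := (@Bool.rec (fun _ => ℕ) (@Bool.rec (fun _ => ℕ) (@Bool.rec (fun _ => ℕ) l4636 l4637 (Nat.ble (nat_lit 4637) i)) (@Bool.rec (fun _ => ℕ) l4638 (t4639_4641 i) (Nat.ble (nat_lit 4639) i)) (Nat.ble (nat_lit 4638) i)) (@Bool.rec (fun _ => ℕ) (@Bool.rec (fun _ => ℕ) l4641 l4642 (Nat.ble (nat_lit 4642) i)) (@Bool.rec (fun _ => ℕ) l4643 (t4644_4646 i) (Nat.ble (nat_lit 4644) i)) (Nat.ble (nat_lit 4643) i)) (Nat.ble (nat_lit 4641) i))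
noncomputable def t4571_4646 (i : ℕ) : ℕ := (@Bool.rec (fun _ => ℕ) (@Bool.rec (fun _ => ℕ) (@Bool.rec (fun _ => ℕ) (t4571_4580 i) (t4580_4589 i) (Nat.ble (nat_lit 4580) i)) (@Bool.rec (fun _ => ℕ) (t4589_4598 i) (t4598_4608 i) (Nat.ble (nat_lit 4598) i)) (Nat.ble (nat_lit 4589) i)) (@Bool.rec (fun _ => ℕ) (@Bool.rec (fun _ => ℕ) (t4608_4617 i) (t4617_4627 i) (Nat.ble (nat_lit 4617) i)) (@Bool.rec (fun _ => ℕ) (t4627_4636 i) (t4636_4646 i) (Nat.ble (nat_lit 4636) i)) (Nat.ble (nat_lit 4627) i)) (Nat.ble (nat_lit 4608) i))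
noncomputable def t4653_4655 (i : ℕ) : ℕ := (@Bool.rec (fun _ => ℕ) l4653 l4654 (Nat.ble (nat_lit 4654) i))
noncomputable def t4646_4655 (i : ℕ) : ℕ := (@Bool.rec (fun _ => ℕ) (@Bool.rec (fun _ => ℕ) (@Bool.rec (fun _ => ℕ) l4646 l4647 (Nat.ble (nat_lit 4647) i)) (@Bool.rec (fun _ => ℕ) l4648 l4649 (Nat.ble (nat_lit 4649) i)) (Nat.ble (nat_lit 4648) i)) (@Bool.rec (fun _ => ℕ) (@Bool.rec (fun _ => ℕ) l4650 l4651 (Nat.ble (nat_lit 4651) i)) (@Bool.rec (fun _ => ℕ) l4652 (t4653_4655 i) (Nat.ble (nat_lit 4653) i)) (Nat.ble (nat_lit 4652) i)) (Nat.ble (nat_lit 4650) i))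
noncomputable def t4662_4664 (i : ℕ) : ℕ := (@Bool.rec (fun _ => ℕ) l4662 l4663 (Nat.ble (nat_lit 4663) i))
noncomputable def t4655_4664 (i : ℕ) : ℕ := (@Bool.rec (fun _ => ℕ) (@Bool.rec (fun _ => ℕ) (@Bool.rec (fun _ => ℕ) l4655 l4656 (Nat.ble (nat_lit 4656) i)) (@Bool.rec (fun _ => ℕ) l4657 l4658 (Nat.ble (nat_lit 4658) i)) (Nat.ble (nat_lit 4657) i)) (@Bool.rec (fun _ => ℕ) (@Bool.rec (fun _ => ℕ) l4659 l4660 (Nat.ble (nat_lit 4660) i)) (@Bool.rec (fun _ => ℕ) l4661 (t4662_4664 i) (Nat.ble (nat_lit 4662) i)) (Nat.ble (nat_lit 4661) i)) (Nat.ble (nat_lit 4659) i))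
noncomputable def t4671_4673 (i : ℕ) : ℕ := (@Bool.rec (fun _ => ℕ) l4671 l4672 (Nat.ble (nat_lit 4672) i))
noncomputable def t4664_4673 (i : ℕ) : ℕ := (@Bool.rec (fun _ => ℕ) (@Bool.rec (fun _ => ℕ) (@Bool.rec (fun _ => ℕ) l4664 l4665 (Nat.ble (nat_lit 4665) i)) (@Bool.rec (fun _ => ℕ) l4666 l4667 (Nat.ble (nat_lit 4667) i)) (Nat.ble (nat_lit 4666) i)) (@Bool.rec (fun _ => ℕ) (@Bool.rec (fun _ => ℕ) l4668 l4669 (Nat.ble (nat_lit 4669) i)) (@Bool.rec (fun _ => ℕ) l4670 (t4671_4673 i) (Nat.ble (nat_lit 4671) i)) (Nat.ble (nat_lit 4670) i)) (Nat.ble (nat_lit 4668) i))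
noncomputable def t4676_4678 (i : ℕ) : ℕ := (@Bool.rec (fun _ => ℕ) l4676 l4677 (Nat.ble (nat_lit 4677) i))
noncomputable def t4681_4683 (i : ℕ) : ℕ := (@Bool.rec (fun _ => ℕ) l4681 l4682 (Nat.ble (nat_lit 4682) i))
noncomputable def t4673_4683 (i : ℕ) : ℕ := (@Bool.rec (fun _ => ℕ) (@Bool.rec (fun _ => ℕ) (@Bool.rec (fun _ => ℕ) l4673 l4674 (Nat.ble (nat_lit 4674) i)) (@Bool.rec (fun _ => ℕ) l4675 (t4676_4678 i) (Nat.ble (nat_lit 4676) i)) (Nat.ble (nat_lit 4675) i)) (@Bool.rec (fun _ => ℕ) (@Bool.rec (fun _ => ℕ) l4678 l4679 (Nat.ble (nat_lit 4679) i)) (@Bool.rec (fun _ => ℕ) l4680 (t4681_4683 i) (Nat.ble (nat_lit 4681) i)) (Nat.ble (nat_lit 4680) i)) (Nat.ble (nat_lit 4678) i))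
noncomputable def t4690_4692 (i : ℕ) : ℕ := (@Bool.rec (fun _ => ℕ) l4690 l4691 (Nat.ble (nat_lit 4691) i))
noncomputable def t4683_4692 (i : ℕ) : ℕ := (@Bool.rec (fun _ => ℕ) (@Bool.rec (fun _ => ℕ) (@Bool.rec (fun _ => ℕ) l4683 l4684 (Nat.ble (nat_lit 4684) i)) (@Bool.rec (fun _ => ℕ) l4685 l4686 (Nat.ble (nat_lit 4686) i)) (Nat.ble (nat_lit 4685) i)) (@Bool.rec (fun _ => ℕ) (@Bool.rec (fun _ => ℕ) l4687 l4688 (Nat.ble (nat_lit 4688) i)) (@Bool.rec (fun _ => ℕ) l4689 (t4690_4692 i) (Nat.ble (nat_lit 4690) i)) (Nat.ble (nat_lit 4689) i)) (Nat.ble (nat_lit 4687) i))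
noncomputable def t4695_4697 (i : ℕ) : ℕ := (@Bool.rec (fun _ => ℕ) l4695 l4696 (Nat.ble (nat_lit 4696) i))
noncomputable def t4700_4702 (i : ℕ) : ℕ := (@Bool.rec (fun _ => ℕ) l4700 l4701 (Nat.ble (nat_lit 4701) i))
noncomputable def t4692_4702 (i : ℕ) : ℕ := (@Bool.rec (fun _ => ℕ) (@Bool.rec (fun _ => ℕ) (@Bool.rec (fun _ => ℕ) l4692 l4693 (Nat.ble (nat_lit 4693) i)) (@Bool.rec (fun _ => ℕ) l4694 (t4695_4697 i) (Nat.ble (nat_lit 4695) i)) (Nat.ble (nat_lit 4694) i)) (@Bool.rec (fun _ => ℕ) (@Bool.rec (fun _ => ℕ) l4697 l4698 (Nat.ble (nat_lit 4698) i)) (@Bool.rec (fun _ => ℕ) l4699 (t4700_4702 i) (Nat.ble (nat_lit 4700) i)) (Nat.ble (nat_lit 4699) i)) (Nat.ble (nat_lit 4697) i))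
noncomputable def t4709_4711 (i : ℕ) : ℕ := (@Bool.rec (fun _ => ℕ) l4709 l4710 (Nat.ble (nat_lit 4710) i))
noncomputable def t4702_4711 (i : ℕ) : ℕ := (@Bool.rec (fun _ => ℕ) (@Bool.rec (fun _ => ℕ) (@Bool.rec (fun _ => ℕ) l4702 l4703 (Nat.ble (nat_lit 4703) i)) (@Bool.rec (fun _ => ℕ) l4704 l4705 (Nat.ble (nat_lit 4705) i)) (Nat.ble (nat_lit 4704) i)) (@Bool.rec (fun _ => ℕ) (@Bool.rec (fun _ => ℕ) l4706 l4707 (Nat.ble (nat_lit 4707) i)) (@Bool.rec (fun _ => ℕ) l4708 (t4709_4711 i) (Nat.ble (nat_lit 4709) i)) (Nat.ble (nat_lit 4708) i)) (Nat.ble (nat_lit 4706) i))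
noncomputable def t4714_4716 (i : ℕ) : ℕ := (@Bool.rec (fun _ => ℕ) l4714 l4715 (Nat.ble (nat_lit 4715) i))
noncomputable def t4719_4721 (i : ℕ) : ℕ := (@Bool.rec (fun _ => ℕ) l4719 l4720 (Nat.ble (nat_lit 4720) i))
noncomputable def t4711_4721 (i : ℕ) : ℕ := (@Bool.rec (fun _ => ℕ) (@Bool.rec (fun _ => ℕ) (@Bool.rec (fun _ => ℕ) l4711 l4712 (Nat.ble (nat_lit 4712) i)) (@Bool.rec (fun _ => ℕ) l4713 (t4714_4716 i) (Nat.ble (nat_lit 4714) i)) (Nat.ble (nat_lit 4713) i)) (@Bool.rec (fun _ => ℕ) (@Bool.rec (fun _ => ℕ) l4716 l4717 (Nat.ble (nat_lit 4717) i)) (@Bool.rec (fun _ => ℕ) l4718 (t4719_4721 i) (Nat.ble (nat_lit 4719) i)) (Nat.ble (nat_lit 4718) i)) (Nat.ble (nat_lit 4716) i))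
noncomputable def t4646_4721 (i : ℕ) : ℕ := (@Bool.rec (fun _ => ℕ) (@Bool.rec (fun _ => ℕ) (@Bool.rec (fun _ => ℕ) (t4646_4655 i) (t4655_4664 i) (Nat.ble (nat_lit 4655) i)) (@Bool.rec (fun _ => ℕ) (t4664_4673 i) (t4673_4683 i) (Nat.ble (nat_lit 4673) i)) (Nat.ble (nat_lit 4664) i)) (@Bool.rec (fun _ => ℕ) (@Bool.rec (fun _ => ℕ) (t4683_4692 i) (t4692_4702 i) (Nat.ble (nat_lit 4692) i)) (@Bool.rec (fun _ => ℕ) (t4702_4711 i) (t4711_4721 i) (Nat.ble (nat_lit 4711) i)) (Nat.ble (nat_lit 4702) i)) (Nat.ble (nat_lit 4683) i))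
noncomputable def t4728_4730 (i : ℕ) : ℕ := (@Bool.rec (fun _ => ℕ) l4728 l4729 (Nat.ble (nat_lit 4729) i))
noncomputable def t4721_4730 (i : ℕ) : ℕ := (@Bool.rec (fun _ => ℕ) (@Bool.rec (fun _ => ℕ) (@Bool.rec (fun _ => ℕ) l4721 l4722 (Nat.ble (nat_lit 4722) i)) (@Bool.rec (fun _ => ℕ) l4723 l4724 (Nat.ble (nat_lit 4724) i)) (Nat.ble (nat_lit 4723) i)) (@Bool.rec (fun _ => ℕ) (@Bool.rec (fun _ => ℕ) l4725 l4726 (Nat.ble (nat_lit 4726) i)) (@Bool.rec (fun _ => ℕ) l4727 (t4728_4730 i) (Nat.ble (nat_lit 4728) i)) (Nat.ble (nat_lit 4727) i)) (Nat.ble (nat_lit 4725) i))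
noncomputable def t4737_4739 (i : ℕ) : ℕ := (@Bool.rec (fun _ => ℕ) l4737 l4738 (Nat.ble (nat_lit 4738) i))
noncomputable def t4730_4739 (i : ℕ) : ℕ := (@Bool.rec (fun _ => ℕ) (@Bool.rec (fun _ => ℕ) (@Bool.rec (fun _ => ℕ) l4730 l4731 (Nat.ble (nat_lit 4731) i)) (@Bool.rec (fun _ => ℕ) l4732 l4733 (Nat.ble (nat_lit 4733) i)) (Nat.ble (nat_lit 4732) i)) (@Bool.rec (fun _ => ℕ) (@Bool.rec (fun _ => ℕ) l4734 l4735 (Nat.ble (nat_lit 4735) i)) (@Bool.rec (fun _ => ℕ) l4736 (t4737_4739 i) (Nat.ble (nat_lit 4737) i)) (Nat.ble (nat_lit 4736) i)) (Nat.ble (nat_lit 4734) i))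
noncomputable def t4746_4748 (i : ℕ) : ℕ := (@Bool.rec (fun _ => ℕ) l4746 l4747 (Nat.ble (nat_lit 4747) i))
noncomputable def t4739_4748 (i : ℕ) : ℕ := (@Bool.rec (fun _ => ℕ) (@Bool.rec (fun _ => ℕ) (@Bool.rec (fun _ => ℕ) l4739 l4740 (Nat.ble (nat_lit 4740) i)) (@Bool.rec (fun _ => ℕ) l4741 l4742 (Nat.ble (nat_lit 4742) i)) (Nat.ble (nat_lit 4741) i)) (@Bool.rec (fun _ => ℕ) (@Bool.rec (fun _ => ℕ) l4743 l4744 (Nat.ble (nat_lit 4744) i)) (@Bool.rec (fun _ => ℕ) l4745 (t4746_4748 i) (Nat.ble (nat_lit 4746) i)) (Nat.ble (nat_lit 4745) i)) (Nat.ble (nat_lit 4743) i))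
noncomputable def t4751_4753 (i : ℕ) : ℕ := (@Bool.rec (fun _ => ℕ) l4751 l4752 (Nat.ble (nat_lit 4752) i))
noncomputable def t4756_4758 (i : ℕ) : ℕ := (@Bool.rec (fun _ => ℕ) l4756 l4757 (Nat.ble (nat_lit 4757) i))
noncomputable def t4748_4758 (i : ℕ) : ℕ := (@Bool.rec (fun _ => ℕ) (@Bool.rec (fun _ => ℕ) (@Bool.rec (fun _ => ℕ) l4748 l4749 (Nat.ble (nat_lit 4749) i)) (@Bool.rec (fun _ => ℕ) l4750 (t4751_4753 i) (Nat.ble (nat_lit 4751) i)) (Nat.ble (nat_lit 4750) i)) (@Bool.rec (fun _ => ℕ) (@Bool.rec (fun _ => ℕ) l4753 l4754 (Nat.ble (nat_lit 4754) i)) (@Bool.rec (fun _ => ℕ) l4755 (t4756_4758 i) (Nat.ble (nat_lit 4756) i)) (Nat.ble (nat_lit 4755) i)) (Nat.ble (nat_lit 4753) i))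
noncomputable def t4765_4767 (i : ℕ) : ℕ := (@Bool.rec (fun _ => ℕ) l4765 l4766 (Nat.ble (nat_lit 4766) i))
noncomputable def t4758_4767 (i : ℕ) : ℕ := (@Bool.rec (fun _ => ℕ) (@Bool.rec (fun _ => ℕ) (@Bool.rec (fun _ => ℕ) l4758 l4759 (Nat.ble (nat_lit 4759) i)) (@Bool.rec (fun _ => ℕ) l4760 l4761 (Nat.ble (nat_lit 4761) i)) (Nat.ble (nat_lit 4760) i)) (@Bool.rec (fun _ => ℕ) (@Bool.rec (fun _ => ℕ) l4762 l4763 (Nat.ble (nat_lit 4763) i)) (@Bool.rec (fun _ => ℕ) l4764 (t4765_4767 i) (Nat.ble (nat_lit 4765) i)) (Nat.ble (nat_lit 4764) i)) (Nat.ble (nat_lit 4762) i))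
noncomputable def t4770_4772 (i : ℕ) : ℕ := (@Bool.rec (fun _ => ℕ) l4770 l4771 (Nat.ble (nat_lit 4771) i))
noncomputable def t4775_4777 (i : ℕ) : ℕ := (@Bool.rec (fun _ => ℕ) l4775 l4776 (Nat.ble (nat_lit 4776) i))
noncomputable def t4767_4777 (i : ℕ) : ℕ := (@Bool.rec (fun _ => ℕ) (@Bool.rec (fun _ => ℕ) (@Bool.rec (fun _ => ℕ) l4767 l4768 (Nat.ble (nat_lit 4768) i)) (@Bool.rec (fun _ => ℕ) l4769 (t4770_4772 i) (Nat.ble (nat_lit 4770) i)) (Nat.ble (nat_lit 4769) i)) (@Bool.rec (fun _ => ℕ) (@Bool.rec (fun _ => ℕ) l4772 l4773 (Nat.ble (nat_lit 4773) i)) (@Bool.rec (fun _ => ℕ) l4774 (t4775_4777 i) (Nat.ble (nat_lit 4775) i)) (Nat.ble (nat_lit 4774) i)) (Nat.ble (nat_lit 4772) i))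
noncomputable def t4784_4786 (i : ℕ) : ℕ := (@Bool.rec (fun _ => ℕ) l4784 l4785 (Nat.ble (nat_lit 4785) i))
noncomputable def t4777_4786 (i : ℕ) : ℕ := (@Bool.rec (fun _ => ℕ) (@Bool.rec (fun _ => ℕ) (@Bool.rec (fun _ => ℕ) l4777 l4778 (Nat.ble (nat_lit 4778) i)) (@Bool.rec (fun _ => ℕ) l4779 l4780 (Nat.ble (nat_lit 4780) i)) (Nat.ble (nat_lit 4779) i)) (@Bool.rec (fun _ => ℕ) (@Bool.rec (fun _ => ℕ) l4781 l4782 (Nat.ble (nat_lit 4782) i)) (@Bool.rec (fun _ => ℕ) l4783 (t4784_4786 i) (Nat.ble (nat_lit 4784) i)) (Nat.ble (nat_lit 4783) i)) (Nat.ble (nat_lit 4781) i))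
noncomputable def t4789_4791 (i : ℕ) : ℕ := (@Bool.rec (fun _ => ℕ) l4789 l4790 (Nat.ble (nat_lit 4790) i))
noncomputable def t4794_4796 (i : ℕ) : ℕ := (@Bool.rec (fun _ => ℕ) l4794 l4795 (Nat.ble (nat_lit 4795) i))
noncomputable def t4786_4796 (i : ℕ) : ℕ := (@Bool.rec (fun _ => ℕ) (@Bool.rec (fun _ => ℕ) (@Bool.rec (fun _ => ℕ) l4786 l4787 (Nat.ble (nat_lit 4787) i)) (@Bool.rec (fun _ => ℕ) l4788 (t4789_4791 i) (Nat.ble (nat_lit 4789) i)) (Nat.ble (nat_lit 4788) i)) (@Bool.rec (fun _ => ℕ) (@Bool.rec (fun _ => ℕ) l4791 l4792 (Nat.ble (nat_lit 4792) i)) (@Bool.rec (fun _ => ℕ) l4793 (t4794_4796 i) (Nat.ble (nat_lit 4794) i)) (Nat.ble (nat_lit 4793) i)) (Nat.ble (nat_lit 4791) i))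
noncomputable def t4721_4796 (i : ℕ) : ℕ := (@Bool.rec (fun _ => ℕ) (@Bool.rec (fun _ => ℕ) (@Bool.rec (fun _ => ℕ) (t4721_4730 i) (t4730_4739 i) (Nat.ble (nat_lit 4730) i)) (@Bool.rec (fun _ => ℕ) (t4739_4748 i) (t4748_4758 i) (Nat.ble (nat_lit 4748) i)) (Nat.ble (nat_lit 4739) i)) (@Bool.rec (fun _ => ℕ) (@Bool.rec (fun _ => ℕ) (t4758_4767 i) (t4767_4777 i) (Nat.ble (nat_lit 4767) i)) (@Bool.rec (fun _ => ℕ) (t4777_4786 i) (t4786_4796 i) (Nat.ble (nat_lit 4786) i)) (Nat.ble (nat_lit 4777) i)) (Nat.ble (nat_lit 4758) i))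
noncomputable def t4196_4796 (i : ℕ) : ℕ := (@Bool.rec (fun _ => ℕ) (@Bool.rec (fun _ => ℕ) (@Bool.rec (fun _ => ℕ) (t4196_4271 i) (t4271_4346 i) (Nat.ble (nat_lit 4271) i)) (@Bool.rec (fun _ => ℕ) (t4346_4421 i) (t4421_4496 i) (Nat.ble (nat_lit 4421) i)) (Nat.ble (nat_lit 4346) i)) (@Bool.rec (fun _ => ℕ) (@Bool.rec (fun _ => ℕ) (t4496_4571 i) (t4571_4646 i) (Nat.ble (nat_lit 4571) i)) (@Bool.rec (fun _ => ℕ) (t4646_4721 i) (t4721_4796 i) (Nat.ble (nat_lit 4721) i)) (Nat.ble (nat_lit 4646) i)) (Nat.ble (nat_lit 4496) i))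
noncomputable def T (i : ℕ) : ℕ := (@Bool.rec (fun _ => ℕ) (@Bool.rec (fun _ => ℕ) (@Bool.rec (fun _ => ℕ) (t0_599 i) (t599_1199 i) (Nat.ble (nat_lit 599) i)) (@Bool.rec (fun _ => ℕ) (t1199_1798 i) (t1798_2398 i) (Nat.ble (nat_lit 1798) i)) (Nat.ble (nat_lit 1199) i)) (@Bool.rec (fun _ => ℕ) (@Bool.rec (fun _ => ℕ) (t2398_2997 i) (t2997_3597 i) (Nat.ble (nat_lit 2997) i)) (@Bool.rec (fun _ => ℕ) (t3597_4196 i) (t4196_4796 i) (Nat.ble (nat_lit 4196) i)) (Nat.ble (nat_lit 3597) i)) (Nat.ble (nat_lit 2398) i))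
noncomputable def Rw (p : ℕ) : ℕ := prow T (nat_lit 304) (nat_lit 0xffffffffffffffffffffffffffffffffffffffffffffffffffffffffffffffffffffffffffff) p
def mac : List ℕ := [0x74102530007, 0x147b90258a036000e, 0xdd0002, 0xee0002]
def rel : List ℕ := [0xccccccccc9000a, 0xffffd0005]
def HL : List ℕ := [0, 1, 2, 3, 4, 5, 6, 7, 8, 9, 10]
def I : List (ℕ × ℕ × ℕ) := [(1, 31672, 0xb97b0004), (31672, 306936, 0xb0001)]
noncomputable def f1 (p : ℕ) : Bool := pairChk Rw 19 524287 306936 0xba9876543210 0x80000000e0000000b8000000ea000000aa800000aba00000aae80000aaba0000aaae8000aaaba000aaaafc 12 p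
noncomputable def f2 (p : ℕ) : Bool := wordChk Rw 19 524287 12 mac rel p
noncomputable def f3 (p : ℕ) : Bool := WG.subAll Rw 19 524287 HL I p

end CfsgH7.Fi24
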