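import Cfsg.Agent.H7.Fi24.W1

set_option autoImplicit false
set_option linter.unusedVariables false
set_option maxRecDepth 100000
set_option Elab.async false

namespace CfsgH7.Fi24

open Cfsg

def uE : Ex := (.w 0x50b6396a914171603a2158480393a424800022)

theorem lk_mem {N : Subgroup Spor.Fi24} [hN : N.Normal] (h : N ≠ ⊥) : W.E (.w 0x9b0002) ∈ N := by
  have hu : W.E uE ∈ N := W.mem_normal rk.trans coatom cb.2.1 (p := 29) (by norm_num)
    (W.one_spec (a := .p uE 29) (by decide +kernel)) h
  rw [W.eq_spec (b := .c (.w 0x10258a7420310258754021036025410320147b032014120320163058250141320a82513063201435410230147410320145862503208250230103206825a8a52850230103205826410230147410320146502510285410230147410320145820152021a52854102301474103201458258a5263850230103205826a541023014741032014a652850230103205836850230103205825a0129) (.p (.m uE (.c (.w 0x4b540004) uE)) 7)) (by decide +kernel)]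
  rw [WI.E, Ex.ev_c, Ex.ev_p, Ex.ev_m, Ex.ev_c]
  exact hN.conj_mem _ (N.pow_mem (N.mul_mem hu (hN.conj_mem _ hu _)) _) _

theorem index_le {N : Subgroup Spor.Fi24} [hN : N.Normal] (h : W.E (.w 0x9b0002) ∈ N) : N.index ≤ 2 := by
  let π := QuotientGroup.mk' N
  have h1 : ∀ r ∈ R12, ev8 (fun x => π (A.gen Spor.Fi24.extra x)) r = 1 := fun r hr => by
    rw [← map_ev8, r12 r hr, map_one]
  have hs : evW (fun x => π (A.gen Spor.Fi24.extra x)) 0x9b0002 = 1 := by
    rw [← map_evW, ← P.ev_eq (by decide +kernel)]; exact (QuotientGroup.eq_one_iff _).mpr h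
  have h2 : ∀ r ∈ Zq, ev8 (fun x => π (A.gen Spor.Fi24.extra x)) r = 1 := by
    have : ∀ r ∈ Zq, rwEq R12 [w816 r] [0x9b0002] [] = true := by decide +kernel
    intro r hr
    simpa [evW_w816, hs] using rwEq_spec h1 (this r hr)
  have h3 := EQ.enum.bd (rels_append h1 h2) (H := ⊥) (by simp [EQ.S]) (m := 1) (k := 2)
    ⟨inferInstance, by simp⟩ le_rfl
  have h4 : cl (fun x => π (A.gen Spor.Fi24.extra x)) 12 = ⊤ := by
    have := congrArg (Subgroup.map π) (A.cl_top Spor.Fi24.extra (n := 12) (by decide +kernel))
    rw [Subgroup.map_top_of_surjective _ (QuotientGroup.mk'_surjective N), cl,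
      MonoidHom.map_closure, Set.image_image] at this
    exact this
  rw [h4] at h3
  exact (Subgroup.card_top.symm.le.trans h3.2 :)

theorem comm_le {N : Subgroup Spor.Fi24} (hN : N.Normal) (h : N ≠ ⊥) :
    commutator Spor.Fi24 ≤ N := by
  have := W.finite
  have h1 := index_le (lk_mem h)
  have h2 : IsCyclic (Spor.Fi24 ⧸ N) := by
    rcases (show N.index = 1 ∨ N.index = 2 by have := N.index_ne_zero_of_finite; omega) with h | h
    · have : Subsingleton (Spor.Fi24 ⧸ N) := (Nat.card_eq_one_iff_unique.mp h).1
      infer_instance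
    · exact isCyclic_of_prime_card (p := 2) h
  rw [← QuotientGroup.ker_mk' N]
  letI := h2.commGroup
  exact Abelianization.commutator_subset_ker _

/-- the sign of a word -/
noncomputable def sgn : Spor.Fi24 →* Multiplicative (ZMod 2) :=
  PresentedGroup.toGroup (f := fun _ => Multiplicative.ofAdd 1)
    (A.lift_of_rels Spor.Fi24.extra (R := R12) (fun _ _ => by decide) (by decide +kernel)
      (by decide +kernel))

theorem sgn_of (a : Spor.Fi24.Gen) : sgn (PresentedGroup.of a) = Multiplicative.ofAdd 1 :=
  PresentedGroup.toGroup.of _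

theorem index_comm : (commutator Spor.Fi24).index = 2 := by
  have := W.finite
  have h1 : (commutator Spor.Fi24).index ≤ 2 := index_le (by
    rw [W.eq_spec (b := .k (.l 11) (.l 9)) (by decide +kernel), WI.E, Ex.ev_k]
    exact Subgroup.commutator_mem_commutator (Subgroup.mem_top _) (Subgroup.mem_top _))
  have h2 := (commutator Spor.Fi24).index_ne_zero_of_finite
  have h3 : (commutator Spor.Fi24).index ≠ 1 := fun h => by
    have h4 := Abelianization.commutator_subset_ker sgn
      (Subgroup.index_eq_one.mp h ▸ Subgroup.mem_top (PresentedGroup.of Spor.Fi24.Gen.a))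
    rw [MonoidHom.mem_ker, sgn_of] at h4
    exact absurd h4 (by decide)
  omega

theorem card' : Nat.card Spor.Fi24' = 1255205709190661721292800 := by
  have := (commutator Spor.Fi24).index_mul_card
  rw [index_comm, card] at this
  show Nat.card (commutator Spor.Fi24) = _
  omega

theorem simple' : IsSimpleGroup Spor.Fi24' :=
  have := W.finite
  simple_of_index_two index_comm (fun _ => comm_le) (by
    rw [show Nat.card (commutator Spor.Fi24) = _ from card']; decide +kernel)

end CfsgH7.Fi24
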