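import Cfsg.Agent.H7.Fi24.W0

set_option autoImplicit false
set_option linter.unusedVariables false
set_option maxRecDepth 100000
set_option Elab.async false

namespace CfsgH7.Fi24

open Cfsg

def L : List (ℕ × ℕ × List ℕ) := [(1, 31671, [0x40001, 0x70001, 0x10001, 0x1, 0x20001, 0x30001, 0x60001, 0x50001, 0x80001, 0xa0001]), (10, 3510, [0x1, 0x10001, 0x60001, 0x50001, 0x80001, 0xa0001, 0x392410230147410320140014]), (42, 693, [0x50001, 0x30001, 0x80001, 0xa0001, 0x230103206000a, 0x392410230147410320140014]), (52, 180, [0x5641023014741032014650015, 0xa85641023014741032014650017, 0x5202301032065023010320360018]), (63, 3, [0x52b79b41023014741032014b97b635b79b41023014741032014b97b60038]), (300403, 64, [0x70001, 0x20001, 0x10001, 0x90001, 0x8a0230528541023014741032014582503200023]), (972, 16, [0x37190004, 0x120230103209000c, 0x8a5285410230147410320145825001b]), (16, 8, [0x392410230147410320140014, 0x8a5263850230103205826a541023014741032014a65285023010320583625003d]), (2, 4, [0x8a528502301032058250013]), (12, 3, [0x80001, 0xa0001]),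 (22, 2, [0xa0001])]

theorem stab : P.W.clL HL = MulAction.stabilizer Spor.Fi24 (P.W.pt 0) :=
  rk.eq_stab' rk.le_stab (A.cl_top _ P.code_lt)
    (E12.enum _ _ _ (rels_append r12 rz) (P.S_mem invOk (by decide +kernel))).1

theorem cl11 : cl (A.gen Spor.Fi24.extra) 11 = MulAction.stabilizer Spor.Fi24 (P.W.pt 0) := by
  rw [← stab, ← P.cl_eq (by decide), ← clL_range]; rfl

theorem cb : Nat.card Spor.Fi24 = P.W.N * 8178940946586009600 ∧
    Nat.card (MulAction.stabilizer Spor.Fi24 (P.W.pt 0)) = 8178940946586009600 ∧
      P.W.Base ⊤ (0 :: L.map Prod.fst) :=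
  rk.card_base (j := 16) (cl11 ▸ b11) (by decide +kernel)

/-- the group on 306936 points -/
noncomputable def W : WX Spor.Fi24 (Pts P.phi) := P.WX invOk [0, 1, 10, 42, 52, 63, 300403, 972, 16, 2, 12, 22] cb.2.2

theorem card : Nat.card Spor.Fi24 = 2510411418381323442585600 := cb.1

theorem coatom : IsCoatom (MulAction.stabilizer Spor.Fi24 (W.pt 0)) :=
  rk.coatom (by decide) (by decide +kernel)


end CfsgH7.Fi24
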